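import Cfsg.Agent.H37.Two

/-!
A module of `SL₂(F)` in which the fixed points of the upper unitriangular group are large, or on
which that group acts quadratically, is the natural module if it is irreducible.
-/

set_option autoImplicit false
set_option linter.unusedSectionVars false

open Matrix
open scoped MatrixGroups

namespace H78.Nat2

variable {F : Type*} [Field F]

local notation "S2" => Matrix.SpecialLinearGroup (Fin 2) F

/-- `diag(t, t⁻¹)`. -/
def hh (t : Fˣ) : S2 := ⟨!![(t : F), 0; 0, ((t⁻¹ : Fˣ) : F)], by simp [det_fin_two_of]⟩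

/-- The Weyl element. -/
def ww : S2 := ⟨!![0, 1; -1, 0], by simp [det_fin_two_of]⟩

theorem coe_hh (t : Fˣ) :
    (hh t : Matrix (Fin 2) (Fin 2) F) = !![(t : F), 0; 0, ((t⁻¹ : Fˣ) : F)] := rfl

theorem coe_ww : ((ww : S2) : Matrix (Fin 2) (Fin 2) F) = !![0, 1; -1, 0] := rfl

theorem up_mul (s t : F) : H37.upper2 s * H37.upper2 t = H37.upper2 (s + t) := by
  apply Subtype.ext; ext i j
  fin_cases i <;> fin_cases j <;>
    simp [H37.coe_upper2, Matrix.mul_apply, Fin.sum_univ_two, add_comm]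

theorem up_zero : H37.upper2 (0 : F) = 1 := by
  apply Subtype.ext; ext i j
  fin_cases i <;> fin_cases j <;> simp [H37.coe_upper2]

theorem hh_mul (s t : Fˣ) : hh (F := F) (s * t) = hh s * hh t := by
  apply Subtype.ext; ext i j
  fin_cases i <;> fin_cases j <;>
    simp [coe_hh, Matrix.SpecialLinearGroup.coe_mul, Matrix.mul_apply, Fin.sum_univ_two, mul_comm]

theorem hh_one : hh (1 : Fˣ) = (1 : S2) := by
  apply Subtype.ext; ext i j
  fin_cases i <;> fin_cases j <;> simp [coe_hh]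

theorem hh_up (t : Fˣ) (s : F) :
    H37.upper2 s * hh t = hh t * H37.upper2 (s / ((t : F) * t)) := by
  apply Subtype.ext; ext i j
  fin_cases i <;> fin_cases j <;>
    simp [coe_hh, Matrix.SpecialLinearGroup.coe_mul, H37.coe_upper2, Matrix.mul_apply, Fin.sum_univ_two, Units.val_inv_eq_inv_val] <;>
    field_simp

theorem ww_hh (t : Fˣ) : (ww : S2) * hh t = hh t⁻¹ * ww := by
  apply Subtype.ext; ext i j
  fin_cases i <;> fin_cases j <;> simp [coe_hh, Matrix.SpecialLinearGroup.coe_mul, coe_ww, Matrix.mul_apply, Fin.sum_univ_two]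

theorem ww_sq : (ww : S2) * ww = hh (-1) := by
  apply Subtype.ext; ext i j
  fin_cases i <;> fin_cases j <;>
    simp [coe_hh, Matrix.SpecialLinearGroup.coe_mul, coe_ww, Matrix.mul_apply, Fin.sum_univ_two, Units.val_inv_eq_inv_val]

theorem ww_up (s : F) : (ww : S2) * H37.upper2 s = H37.lower2 (-s) * ww := by
  apply Subtype.ext; ext i j
  fin_cases i <;> fin_cases j <;>
    simp [coe_ww, Matrix.SpecialLinearGroup.coe_mul, H37.coe_upper2, H37.coe_lower2, Matrix.mul_apply, Fin.sum_univ_two]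

theorem wt_up (t : Fˣ) :
    hh t * ww * H37.upper2 (t : F) = H37.lower2 (-(t : F)⁻¹) * (hh t * ww : S2) := by
  apply Subtype.ext; ext i j
  fin_cases i <;> fin_cases j <;>
    simp [coe_hh, Matrix.SpecialLinearGroup.coe_mul, coe_ww, H37.coe_upper2, H37.coe_lower2, Matrix.mul_apply, Fin.sum_univ_two,
      Units.val_inv_eq_inv_val]

theorem wt_eq (t : Fˣ) :
    H37.lower2 (-(t : F)⁻¹) * H37.upper2 (t : F) * H37.lower2 (-(t : F)⁻¹) = (hh t * ww : S2) := by
  apply Subtype.ext; ext i j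
  fin_cases i <;> fin_cases j <;>
    simp [coe_hh, Matrix.SpecialLinearGroup.coe_mul, coe_ww, H37.coe_upper2, H37.coe_lower2, Matrix.mul_apply, Fin.sum_univ_two,
      Units.val_inv_eq_inv_val]

theorem eq_top_of_up_ww (K : Subgroup S2) (hu : ∀ c, H37.upper2 c ∈ K) (hw : ww ∈ K) : K = ⊤ :=
  H37.eq_top_of_upper2_lower2 K hu fun c => by
    have : H37.lower2 c = ww * H37.upper2 (-c) * (ww : S2)⁻¹ := by
      rw [ww_up, neg_neg, mul_inv_cancel_right]
    rw [this]
    exact mul_mem (mul_mem hw (hu _)) (inv_mem hw)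

variable {M : Type*} [AddCommGroup M]

theorem exists_fixed_mod {p : ℕ} [Fact p.Prime] {ι : Type*} [Finite ι]
    (N : ι → AddMonoid.End M) (hN : ∀ i, N i ^ p = 0) (hcomm : ∀ i j, Commute (N i) (N j))
    (A : AddSubgroup M) (hA : ∀ i, ∀ a ∈ A, N i a ∈ A) {m : M} (hm : m ∉ A) :
    ∃ m', m' ∉ A ∧ ∀ i, N i m' ∈ A := by
  classical
  haveI := Fintype.ofFinite ι
  suffices h : ∀ s : Finset ι, ∃ m', m' ∉ A ∧ ∀ i ∈ s, N i m' ∈ A by
    obtain ⟨m', h1, h2⟩ := h Finset.univ
    exact ⟨m', h1, fun i => h2 i (Finset.mem_univ i)⟩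
  intro s
  induction s using Finset.induction_on with
  | empty => exact ⟨m, hm, by simp⟩
  | @insert a t _ ih =>
    obtain ⟨m', h1, h2⟩ := ih
    have hex : ∃ k, (N a ^ k) m' ∈ A := ⟨p, by rw [hN a]; exact zero_mem A⟩
    obtain ⟨k, hk⟩ : ∃ k, Nat.find hex = k + 1 := Nat.exists_eq_succ_of_ne_zero fun h0 => h1 (by
      have := Nat.find_spec hex
      rwa [h0, pow_zero] at this)
    refine ⟨(N a ^ k) m', Nat.find_min hex (by omega), fun i hi => ?_⟩
    rcases Finset.mem_insert.1 hi with rfl | hi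
    · have := Nat.find_spec hex
      rwa [hk, pow_succ'] at this
    · have : N i ((N a ^ k) m') = (N a ^ k) (N i m') :=
        congrArg (fun f : AddMonoid.End M => f m') ((hcomm i a).pow_right k).eq
      rw [this]
      clear this hk
      induction k with
      | zero => simpa using h2 i hi
      | succ k ih => rw [pow_succ']; exact hA a _ ih

variable (ρ : Matrix.SpecialLinearGroup (Fin 2) F →* AddMonoid.End M)

theorem act_mul (g h : S2) (m : M) : ρ (g * h) m = ρ g (ρ h m) := by rw [map_mul]; rfl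

theorem act_one (m : M) : ρ 1 m = m := by rw [map_one]; rfl

theorem act_inv_self (g : S2) (m : M) : ρ g⁻¹ (ρ g m) = m := by
  rw [← act_mul, inv_mul_cancel, act_one]

theorem act_self_inv (g : S2) (m : M) : ρ g (ρ g⁻¹ m) = m := by
  rw [← act_mul, mul_inv_cancel, act_one]

/-- The fixed points of the upper unitriangular group. -/
def M0 : AddSubgroup M where
  carrier := {m | ∀ t : F, ρ (H37.upper2 t) m = m}
  zero_mem' := fun t => map_zero _
  add_mem' := fun ha hb t => by rw [map_add, ha t, hb t]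
  neg_mem' := fun ha t => by rw [map_neg, ha t]

theorem mem_M0 {m : M} : m ∈ M0 ρ ↔ ∀ t : F, ρ (H37.upper2 t) m = m := Iff.rfl

/-- The fixed points of the lower unitriangular group. -/
def M1 : AddSubgroup M where
  carrier := {m | ∀ t : F, ρ (H37.lower2 t) m = m}
  zero_mem' := fun t => map_zero _
  add_mem' := fun ha hb t => by rw [map_add, ha t, hb t]
  neg_mem' := fun ha t => by rw [map_neg, ha t]

theorem mem_M1 {m : M} : m ∈ M1 ρ ↔ ∀ t : F, ρ (H37.lower2 t) m = m := Iff.rfl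

theorem ww_M0 {m : M} (hm : m ∈ M0 ρ) : ρ ww m ∈ M1 ρ := fun t => by
  rw [← act_mul, show H37.lower2 t = H37.lower2 (-(-t)) by rw [neg_neg], ← ww_up, act_mul, hm]

theorem ww_inv_M1 {m : M} (hm : m ∈ M1 ρ) : ρ (ww : S2)⁻¹ m ∈ M0 ρ := fun t => by
  rw [← act_mul, show H37.upper2 t * (ww : S2)⁻¹ = (ww : S2)⁻¹ * H37.lower2 (-t) by
    rw [eq_inv_mul_iff_mul_eq, ← mul_assoc, ww_up, mul_inv_cancel_right], act_mul, hm]

theorem hh_M0 {m : M} (hm : m ∈ M0 ρ) (t : Fˣ) : ρ (hh t) m ∈ M0 ρ := fun s => by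
  rw [← act_mul, hh_up, act_mul, hm]

theorem ww_M1 {m : M} (hm : m ∈ M1 ρ) : ρ ww m ∈ M0 ρ := by
  rw [show (ww : S2) = ww * ww * (ww : S2)⁻¹ by group, ww_sq, act_mul]
  exact hh_M0 ρ (ww_inv_M1 ρ hm) _

theorem ww_inv_M0 {m : M} (hm : m ∈ M0 ρ) : ρ (ww : S2)⁻¹ m ∈ M1 ρ := by
  rw [show (ww : S2)⁻¹ = ww * (ww * ww)⁻¹ by group, ww_sq,
    show (hh (-1 : Fˣ) : S2)⁻¹ = hh (-1) from inv_eq_of_mul_eq_one_right (by
      rw [← hh_mul]; simp [hh_one]), act_mul]
  exact ww_M0 ρ (hh_M0 ρ hm _)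

theorem hh_M1 {m : M} (hm : m ∈ M1 ρ) (t : Fˣ) : ρ (hh t) m ∈ M1 ρ := by
  have h1 : hh t = ww * hh t⁻¹ * (ww : S2)⁻¹ := by
    rw [ww_hh, inv_inv, mul_inv_cancel_right]
  rw [h1, act_mul, act_mul]
  exact ww_M0 ρ (hh_M0 ρ (ww_inv_M1 ρ hm) _)

variable [Finite F] [Finite M] {p : ℕ} [Fact p.Prime] [CharP F p]
  (hMp : ∀ m : M, p • m = 0)
  (hirr : ∀ A : AddSubgroup M, (∀ g, ∀ a ∈ A, ρ g a ∈ A) → A = ⊥ ∨ A = ⊤)
  (hnt : ∃ g m, ρ g m ≠ m)

include hirr hnt in
theorem eq_zero_of_mem {m : M} (h0 : m ∈ M0 ρ) (h1 : m ∈ M1 ρ) : m = 0 := by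
  let A : AddSubgroup M :=
    { carrier := {m | ∀ g, ρ g m = m}
      zero_mem' := fun g => map_zero _
      add_mem' := fun ha hb g => by rw [map_add, ha g, hb g]
      neg_mem' := fun ha g => by rw [map_neg, ha g] }
  have hm : m ∈ A := by
    intro g
    let K : Subgroup S2 :=
      { carrier := {g | ρ g m = m}
        one_mem' := act_one ρ m
        mul_mem' := fun {a b} ha hb => by show ρ (a * b) m = m; rw [act_mul, hb, ha]
        inv_mem' := fun {a} ha => by
          show ρ a⁻¹ m = m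
          conv_lhs => rw [← ha, act_inv_self] }
    have : K = ⊤ := H37.eq_top_of_upper2_lower2 K h0 h1
    exact (this ▸ Subgroup.mem_top g : g ∈ K)
  rcases hirr A (fun g a ha => by rw [ha g]; exact ha) with h | h
  · rw [h] at hm
    exact hm
  · obtain ⟨g, m', hne⟩ := hnt
    exact absurd ((h ▸ AddSubgroup.mem_top m' : m' ∈ A) g) hne

include hMp in
theorem exists_fixed_upper (A : AddSubgroup M) (hA : ∀ t, ∀ a ∈ A, ρ (H37.upper2 t) a ∈ A)
    {m : M} (hm : m ∉ A) : ∃ m', m' ∉ A ∧ ∀ t, ρ (H37.upper2 t) m' - m' ∈ A := by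
  refine exists_fixed_mod (p := p) (fun t => ρ (H37.upper2 t) - 1) (fun t => ?_) (fun s t => ?_) A
    (fun t a ha => sub_mem (hA t a ha) ha) hm
  · have hpow : ∀ k : ℕ, H37.upper2 t ^ k = H37.upper2 ((k : F) * t) := by
      intro k
      induction k with
      | zero => simp [up_zero]
      | succ k ih => rw [pow_succ, ih, up_mul, Nat.cast_succ, add_mul, one_mul]
    have hp0 : (p : AddMonoid.End M) = 0 := by
      ext m
      rw [AddMonoid.End.natCast_apply, hMp]
      rfl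
    obtain ⟨r, hr⟩ := (Commute.one_right (ρ (H37.upper2 t) - 1)).exists_add_pow_prime_eq
      (Fact.out : p.Prime)
    rw [sub_add_cancel, one_pow, hp0, zero_mul, zero_mul, zero_mul, add_zero, ← map_pow, hpow,
      CharP.cast_eq_zero, zero_mul, up_zero, map_one] at hr
    exact add_eq_right.1 hr.symm
  · have h : Commute (ρ (H37.upper2 s)) (ρ (H37.upper2 t)) := by
      rw [Commute, SemiconjBy, ← map_mul, ← map_mul, up_mul, up_mul, add_comm]
    exact (h.sub_left (Commute.one_left _)).sub_right ((Commute.one_right _).sub_left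
      (Commute.one_right _))

include ρ in
theorem invariant_of_gen [Finite F] (A : AddSubgroup M)
    (hu : ∀ t : F, ∀ a ∈ A, ρ (H37.upper2 t) a ∈ A) (hw : ∀ a ∈ A, ρ ww a ∈ A) :
    ∀ g, ∀ a ∈ A, ρ g a ∈ A := by
  let K : Subgroup S2 :=
    { carrier := {g | ∀ a ∈ A, ρ g a ∈ A}
      one_mem' := fun m hm => by rwa [act_one]
      mul_mem' := fun {a b} ha hb m hm => by rw [act_mul]; exact ha _ (hb m hm)
      inv_mem' := fun {a} ha => by
        have hpow : ∀ k : ℕ, ∀ m ∈ A, ρ (a ^ k) m ∈ A := by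
          intro k
          induction k with
          | zero => intro m hm; rwa [pow_zero, act_one]
          | succ k ih => intro m hm; rw [pow_succ, act_mul]; exact ih _ (ha m hm)
        have hinv : a⁻¹ = a ^ (orderOf a - 1) := by
          refine inv_eq_of_mul_eq_one_right ?_
          rw [← pow_succ', Nat.sub_add_cancel (orderOf_pos a), pow_orderOf_eq_one]
        intro m hm
        rw [hinv]
        exact hpow _ m hm }
  have hK : K = ⊤ := eq_top_of_up_ww K hu hw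
  exact fun g => (hK ▸ Subgroup.mem_top g : g ∈ K)

/-- The hypothesis: quadratic action, or large fixed points. -/
def Hyp : Prop :=
  (∀ t m, ρ (H37.upper2 t) m - m ∈ M0 ρ) ∨ Nat.card M ≤ Nat.card (M0 ρ) ^ 2

include hirr hnt in
theorem upper_formula {v : M} (hv : v ∈ M1 ρ) (t : Fˣ)
    (hc : ρ (H37.upper2 (t : F)) v - v ∈ M0 ρ) :
    ρ (H37.upper2 (t : F)) v = v + ρ (hh t) (ρ ww v) := by
  set w : S2 := hh t * ww with hw
  set u : S2 := H37.upper2 (t : F) with hu
  set l : S2 := H37.lower2 (-(t : F)⁻¹) with hl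
  set c := ρ u v - v with hcdef
  have hlv : ρ l v = v := hv _
  have h1 : ρ w v = v + ρ l c := by
    rw [hw, ← wt_eq, act_mul, act_mul, hlv, ← hu, hcdef, map_sub, hlv]
    abel
  have h2 : ρ u (ρ w⁻¹ c) = v - ρ w⁻¹ v := by
    have hlc : ρ l c = ρ w v - v := by rw [h1]; abel
    rw [← act_mul, show u * w⁻¹ = w⁻¹ * l by
      rw [eq_inv_mul_iff_mul_eq, ← mul_assoc, wt_up, mul_inv_cancel_right], act_mul, hlc,
      map_sub, act_inv_self]
  have hwinv : w⁻¹ = (ww : S2)⁻¹ * hh t⁻¹ := by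
    rw [hw, _root_.mul_inv_rev, inv_eq_of_mul_eq_one_right (show hh t * hh t⁻¹ = (1 : S2) by
      rw [← hh_mul, mul_inv_cancel, hh_one])]
  have hd : ρ w⁻¹ c ∈ M1 ρ := by
    rw [hwinv, act_mul]
    exact ww_inv_M0 ρ (hh_M0 ρ hc _)
  have hz : ρ w⁻¹ v ∈ M0 ρ := by
    rw [hwinv, act_mul]
    exact ww_inv_M1 ρ (hh_M1 ρ hv _)
  have hdiff : ρ w⁻¹ c - v ∈ M0 ρ := by
    have h3 : ρ u (ρ w⁻¹ c - v) = -(ρ w⁻¹ v) - c := by
      rw [map_sub, h2, hcdef]; abel
    have h4 : ρ u⁻¹ (-(ρ w⁻¹ v) - c) = -(ρ w⁻¹ v) - c := by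
      have hmem : -(ρ w⁻¹ v) - c ∈ M0 ρ := sub_mem (neg_mem hz) hc
      conv_lhs => rw [← hmem (t : F), ← hu, act_inv_self]
    rw [← act_inv_self ρ u (ρ w⁻¹ c - v), h3, h4]
    exact sub_mem (neg_mem hz) hc
  have heq : ρ w⁻¹ c = v :=
    sub_eq_zero.1 (eq_zero_of_mem ρ hirr hnt hdiff (sub_mem hd hv))
  have : c = ρ (hh t) (ρ ww v) := by
    rw [← act_self_inv ρ w c, heq, hw, act_mul]
  rw [← this, hcdef]
  abel

include hMp hirr hnt in
/-- The structure: everything is the sum of the two fixed-point subgroups, and the action is quadratic. -/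
theorem structure_of_hyp (h : Hyp ρ) :
    (∀ m, ∃ a ∈ M0 ρ, ∃ b ∈ M1 ρ, a + b = m) ∧
      ∀ v ∈ M1 ρ, ∀ t, ρ (H37.upper2 t) v - v ∈ M0 ρ := by
  classical
  obtain ⟨g0, m0, hne⟩ := hnt
  have hnt' : ∃ g m, ρ g m ≠ m := ⟨g0, m0, hne⟩
  have hm0 : m0 ∉ (⊥ : AddSubgroup M) := fun h0 => hne (by
    rw [AddSubgroup.mem_bot.1 h0, map_zero])
  have hsum : ∀ m, ∃ a ∈ M0 ρ, ∃ b ∈ M1 ρ, a + b = m := by
    suffices hs : M0 ρ ⊔ M1 ρ = ⊤ by
      intro m
      exact AddSubgroup.mem_sup.1 (hs ▸ AddSubgroup.mem_top m)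
    obtain ⟨e, he0, he⟩ := exists_fixed_upper ρ (p := p) hMp ⊥
      (fun t a ha => by rw [AddSubgroup.mem_bot.1 ha, map_zero]; exact zero_mem _) hm0
    have heM : e ∈ M0 ρ := fun t => sub_eq_zero.1 (AddSubgroup.mem_bot.1 (he t))
    rcases h with hq | hcard
    · have hinv := invariant_of_gen ρ (M0 ρ ⊔ M1 ρ) (fun t m hm => ?_) (fun m hm => ?_)
      rotate_left
      · obtain ⟨a, ha, b, hb, rfl⟩ := AddSubgroup.mem_sup.1 hm
        rw [map_add, ha t, ← sub_add_cancel (ρ (H37.upper2 t) b) b]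
        exact add_mem (AddSubgroup.mem_sup_left ha)
          (add_mem (AddSubgroup.mem_sup_left (hq t b)) (AddSubgroup.mem_sup_right hb))
      · obtain ⟨a, ha, b, hb, rfl⟩ := AddSubgroup.mem_sup.1 hm
        rw [map_add]
        exact add_mem (AddSubgroup.mem_sup_right (ww_M0 ρ ha))
          (AddSubgroup.mem_sup_left (ww_M1 ρ hb))
      rcases hirr (M0 ρ ⊔ M1 ρ) hinv with h' | h'
      · exact absurd (h' ▸ AddSubgroup.mem_sup_left heM : e ∈ (⊥ : AddSubgroup M)) he0
      · exact h'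
    · refine AddSubgroup.eq_top_of_le_card _ (hcard.trans ?_)
      rw [sq, ← Nat.card_prod]
      refine Nat.card_le_card_of_injective (fun x : M0 ρ × M0 ρ =>
        (⟨(x.1 : M) + ρ ww (x.2 : M), add_mem (AddSubgroup.mem_sup_left x.1.2)
          (AddSubgroup.mem_sup_right (ww_M0 ρ x.2.2))⟩ : ↥(M0 ρ ⊔ M1 ρ))) ?_
      rintro ⟨⟨a, ha⟩, ⟨b, hb⟩⟩ ⟨⟨a', ha'⟩, ⟨b', hb'⟩⟩ hxy
      have h1 : a - a' = ρ ww b' - ρ ww b := by
        have := congrArg Subtype.val hxy
        simp only at this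
        rw [sub_eq_sub_iff_add_eq_add, this]
        abel
      have h2 : a - a' = 0 := eq_zero_of_mem ρ hirr hnt' (sub_mem ha ha')
        (h1 ▸ sub_mem (ww_M0 ρ hb') (ww_M0 ρ hb))
      have h3 : b' = b := Function.LeftInverse.injective (act_inv_self ρ ww)
        (sub_eq_zero.1 (h1 ▸ h2))
      simp [sub_eq_zero.1 h2, h3]
  refine ⟨hsum, ?_⟩
  let B : AddSubgroup M :=
    { carrier := {b | b ∈ M1 ρ ∧ ∀ t, ρ (H37.upper2 t) b - b ∈ M0 ρ}
      zero_mem' := ⟨zero_mem _, fun t => by rw [map_zero, sub_zero]; exact zero_mem _⟩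
      add_mem' := fun {a b} ha hb => ⟨add_mem ha.1 hb.1, fun t => by
        rw [map_add, add_sub_add_comm]; exact add_mem (ha.2 t) (hb.2 t)⟩
      neg_mem' := fun {a} ha => ⟨neg_mem ha.1, fun t => by
        rw [map_neg, neg_sub_neg, ← neg_sub]; exact neg_mem (ha.2 t)⟩ }
  have hBh : ∀ b ∈ B, ∀ s : Fˣ, ρ (hh s) b ∈ B := fun b hb s => ⟨hh_M1 ρ hb.1 s, fun t => by
    rw [← act_mul, hh_up, act_mul, ← map_sub]
    exact hh_M0 ρ (hb.2 _) s⟩
  let X : AddSubgroup M :=
    { carrier := {m | ∃ b ∈ B, ∃ b' ∈ B, b + ρ ww b' = m}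
      zero_mem' := ⟨0, zero_mem B, 0, zero_mem B, by rw [map_zero, add_zero]⟩
      add_mem' := by
        rintro _ _ ⟨a, ha, a', ha', rfl⟩ ⟨b, hb, b', hb', rfl⟩
        exact ⟨a + b, add_mem ha hb, a' + b', add_mem ha' hb', by rw [map_add]; abel⟩
      neg_mem' := by
        rintro _ ⟨a, ha, a', ha', rfl⟩
        exact ⟨-a, neg_mem ha, -a', neg_mem ha', by rw [map_neg]; abel⟩ }
  have hwh : ∀ (b : M) (s : Fˣ), ρ (hh s) (ρ ww b) = ρ ww (ρ (hh s⁻¹) b) := fun b s => by
    rw [← act_mul, ← act_mul, ww_hh, inv_inv]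
  have hXu : ∀ t m, m ∈ X → ρ (H37.upper2 t) m ∈ X := by
    rintro t _ ⟨b, hb, b', hb', rfl⟩
    by_cases ht : t = 0
    · rw [ht, up_zero, act_one]
      exact ⟨b, hb, b', hb', rfl⟩
    · refine ⟨b, hb, ρ (hh (Units.mk0 t ht)⁻¹) b + b', add_mem (hBh b hb _) hb', ?_⟩
      have hf := upper_formula ρ hirr hnt' hb.1 (Units.mk0 t ht) (hb.2 _)
      rw [Units.val_mk0] at hf
      rw [map_add, map_add, hf, ww_M1 ρ hb'.1 t, ← hwh]
      abel
  have hXw : ∀ m, m ∈ X → ρ ww m ∈ X := by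
    rintro _ ⟨b, hb, b', hb', rfl⟩
    refine ⟨ρ (hh (-1)) b', hBh b' hb' _, b, hb, ?_⟩
    rw [map_add, ← act_mul, ww_sq, add_comm]
  have hXinv : ∀ g, ∀ a ∈ X, ρ g a ∈ X := invariant_of_gen ρ X hXu hXw
  intro v hv t
  obtain ⟨e, he0, he⟩ : ∃ e, e ∉ M0 ρ ∧ ∀ t, ρ (H37.upper2 t) e - e ∈ M0 ρ := by
    obtain ⟨m, hm⟩ : ∃ m, m ∉ M0 ρ := by
      by_contra hcon
      push Not at hcon
      exact hne ((show ∀ g, ρ g m0 = m0 by
        let K : Subgroup S2 :=
          { carrier := {g | ρ g m0 = m0}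
            one_mem' := act_one ρ m0
            mul_mem' := fun {a b} ha hb => by show ρ (a * b) m0 = m0; rw [act_mul, hb, ha]
            inv_mem' := fun {a} ha => by
              show ρ a⁻¹ m0 = m0
              conv_lhs => rw [← ha, act_inv_self] }
        have : K = ⊤ := H37.eq_top_of_upper2_lower2 K (fun s => hcon m0 s) (fun s => by
          show ρ (H37.lower2 s) m0 = m0
          have h1 := ww_M0 ρ (hcon (ρ (ww : S2)⁻¹ m0))
          rw [act_self_inv] at h1
          exact h1 s)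
        exact fun g => (this ▸ Subgroup.mem_top g : g ∈ K)) g0)
    exact exists_fixed_upper ρ (p := p) hMp (M0 ρ) (fun t a ha => by rwa [ha t]) hm
  obtain ⟨a, ha, b, hb, rfl⟩ := hsum e
  have hbB : b ∈ B := ⟨hb, fun t => by
    have := he t
    rwa [map_add, ha t, add_sub_add_left_eq_sub] at this⟩
  rcases hirr X hXinv with hX | hX
  · exfalso
    have hbX : b ∈ X := ⟨b, hbB, 0, zero_mem B, by rw [map_zero, add_zero]⟩
    rw [hX, AddSubgroup.mem_bot] at hbX
    exact he0 (by rw [hbX, add_zero]; exact ha)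
  · obtain ⟨x, hx, y, hy, hxy⟩ : v ∈ X := hX ▸ AddSubgroup.mem_top v
    have h1 : v - x ∈ M0 ρ := by
      rw [← hxy, add_sub_cancel_left]
      exact ww_M1 ρ hy.1
    rw [sub_eq_zero.1 (eq_zero_of_mem ρ hirr hnt' h1 (sub_mem hv hx.1))]
    exact hx.2 t

include hMp hirr hnt in
/-- The module is the natural one. -/
theorem natural (h : Hyp ρ) :
    ∃ Φ : (Fin 2 → F) ≃+ M, ∀ (g : S2) (v : Fin 2 → F),
      ρ g (Φ v) = Φ ((g : Matrix (Fin 2) (Fin 2) F).mulVec v) := by
  classical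
  obtain ⟨hsum, hquad⟩ := structure_of_hyp ρ (p := p) hMp hirr hnt h
  set D : F → M → M := fun x v => if hx : x = 0 then 0 else ρ (hh (Units.mk0 x hx)) v with hD
  have hD0 : ∀ v, D 0 v = 0 := fun v => by simp [hD]
  have hDu : ∀ (x : Fˣ) (v : M), D (x : F) v = ρ (hh x) v := fun x v => by simp [hD]
  have hDadd' : ∀ x v v', D x (v + v') = D x v + D x v' := fun x v v' => by
    by_cases hx : x = 0
    · simp [hD, hx]
    · simp [hD, hx]
  have hDmem : ∀ x, ∀ v ∈ M0 ρ, D x v ∈ M0 ρ := fun x v hv => by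
    by_cases hx : x = 0
    · rw [hx, hD0]; exact zero_mem _
    · rw [← Units.val_mk0 hx, hDu]; exact hh_M0 ρ hv _
  have hU : ∀ x, ∀ v ∈ M0 ρ,
      ρ (H37.upper2 x) (ρ (ww : S2)⁻¹ v) = ρ (ww : S2)⁻¹ v + D x v := by
    intro x v hv
    by_cases hx : x = 0
    · rw [hx, hD0, up_zero, act_one, add_zero]
    · have hf := upper_formula ρ hirr hnt (ww_inv_M0 ρ hv) (Units.mk0 x hx)
        (hquad _ (ww_inv_M0 ρ hv) _)
      rw [Units.val_mk0, act_self_inv, ← hDu, Units.val_mk0] at hf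
      exact hf
  have hDadd : ∀ x y, ∀ v ∈ M0 ρ, D (x + y) v = D x v + D y v := by
    intro x y v hv
    have := hU (x + y) v hv
    rw [← up_mul, act_mul, hU y v hv, map_add, hU x v hv, hDmem y v hv x] at this
    rw [add_assoc] at this
    exact (add_left_cancel this).symm
  have hDmul : ∀ x y v, D (x * y) v = D x (D y v) := by
    intro x y v
    by_cases hx : x = 0
    · rw [hx, zero_mul, hD0, hD0]
    by_cases hy : y = 0
    · rw [hy, mul_zero, hD0]
      simp [hD, hx]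
    rw [← Units.val_mk0 hx, ← Units.val_mk0 hy, ← Units.val_mul, hDu, hDu, hDu, hh_mul, act_mul]
  have hDneg : ∀ x, ∀ v ∈ M0 ρ, D (-x) v = -D x v := fun x v hv =>
    eq_neg_of_add_eq_zero_left (by rw [← hDadd (-x) x v hv, neg_add_cancel, hD0])
  have hwD : ∀ x, ∀ v ∈ M0 ρ, ρ ww (D x v) = ρ (ww : S2)⁻¹ (D (-x) v) := by
    intro x v hv
    rw [show -x = (((-1 : Fˣ)) : F) * x by simp, hDmul, hDu, ← ww_sq, ← act_mul]
    simp
  obtain ⟨g0, m0, hne⟩ := hnt
  obtain ⟨e, he0, he⟩ := exists_fixed_upper ρ (p := p) hMp ⊥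
    (fun t a ha => by rw [AddSubgroup.mem_bot.1 ha, map_zero]; exact zero_mem _)
    (m := m0) (fun h0 => hne (by rw [AddSubgroup.mem_bot.1 h0, map_zero]))
  have heM : e ∈ M0 ρ := fun t => sub_eq_zero.1 (AddSubgroup.mem_bot.1 (he t))
  let f : (Fin 2 → F) →+ M := AddMonoidHom.mk'
    (fun v => D (v 0) e + ρ (ww : S2)⁻¹ (D (v 1) e)) (fun v v' => by
      simp only [Pi.add_apply, hDadd _ _ e heM, map_add]
      abel)
  have hf : ∀ v, f v = D (v 0) e + ρ (ww : S2)⁻¹ (D (v 1) e) := fun v => rfl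
  have hinj : Function.Injective f := by
    rw [injective_iff_map_eq_zero]
    intro v hv
    rw [hf] at hv
    have h1 : D (v 0) e = 0 := eq_zero_of_mem ρ hirr ⟨g0, m0, hne⟩ (hDmem _ e heM) (by
      rw [eq_neg_of_add_eq_zero_left hv]
      exact neg_mem (ww_inv_M0 ρ (hDmem _ e heM)))
    rw [h1, zero_add] at hv
    have h2 : D (v 1) e = 0 := by
      rw [← act_self_inv ρ ww (D (v 1) e), hv, map_zero]
    have key : ∀ x, D x e = 0 → x = 0 := fun x hx => by
      by_contra hne0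
      rw [← Units.val_mk0 hne0, hDu] at hx
      exact he0 (by rw [← act_inv_self ρ (hh (Units.mk0 x hne0)) e, hx, map_zero]; exact zero_mem _)
    ext i
    fin_cases i
    · exact key _ h1
    · exact key _ h2
  have heq : ∀ (g : S2) (v : Fin 2 → F),
      ρ g (f v) = f ((g : Matrix (Fin 2) (Fin 2) F).mulVec v) := by
    let K : Subgroup S2 :=
      { carrier := {g | ∀ v, ρ g (f v) = f ((g : Matrix (Fin 2) (Fin 2) F).mulVec v)}
        one_mem' := fun v => by simp [act_one]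
        mul_mem' := fun {a b} ha hb v => by
          rw [act_mul, hb, ha, Matrix.SpecialLinearGroup.coe_mul, Matrix.mulVec_mulVec]
        inv_mem' := fun {a} ha v => by
          have := ha ((a⁻¹ : S2).1.mulVec v)
          rw [Matrix.mulVec_mulVec, ← Matrix.SpecialLinearGroup.coe_mul, mul_inv_cancel,
            Matrix.SpecialLinearGroup.coe_one, Matrix.one_mulVec] at this
          conv_lhs => rw [← this, act_inv_self] }
    have hK : K = ⊤ := by
      refine eq_top_of_up_ww K (fun c v => ?_) (fun v => ?_)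
      · rw [hf, hf, map_add, hDmem _ e heM c, hU c _ (hDmem _ e heM)]
        simp [H37.coe_upper2, Matrix.mulVec, dotProduct, Fin.sum_univ_two,
          hDadd _ _ e heM, hDmul]
        abel
      · rw [hf, hf, map_add, act_self_inv, hwD _ e heM]
        simp [coe_ww, Matrix.mulVec, dotProduct, Fin.sum_univ_two]
        abel
    exact fun g => (hK ▸ Subgroup.mem_top g : g ∈ K)
  have hsurj : Function.Surjective f := by
    rcases hirr f.range (by rintro g _ ⟨v, rfl⟩; exact ⟨_, (heq g v).symm⟩) with h' | h'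
    · exfalso
      have : f (Pi.single 0 1) ∈ (⊥ : AddSubgroup M) := h' ▸ ⟨_, rfl⟩
      have h1 := congrFun (hinj ((AddSubgroup.mem_bot.1 this).trans (map_zero f).symm)) 0
      simp at h1
    · exact AddMonoidHom.range_eq_top.1 h'
  exact ⟨AddEquiv.ofBijective f ⟨hinj, hsurj⟩, heq⟩

end H78.Nat2
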