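import Cfsg.Agent.H68.DihedralFusion
import Cfsg.Agent.H70.SelfCentKlein
import Cfsg.Agent.H14.PerfectD8
import Cfsg.Agent.H65.Order360
import Cfsg.Agent.H65.PSLSmall
import Cfsg.Agent.H37.SmallIsoBig
import Cfsg.Agent.H93.Basic
import Cfsg.Agent.H1.Cores
import Cfsg.Prelude.Def_CaseTheorems

/-!
Groups with an involution whose centralizer is dihedral of order eight.
-/

set_option autoImplicit false
set_option linter.unusedSectionVars false

open Subgroup

namespace H78.D8

universe u

variable {G : Type u} [Group G] [Finite G] {z : G}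

theorem relIndex_two_of_not_le {H K : Subgroup G} (hH : H.index = 2) (hK : ¬ K ≤ H) :
    H.relIndex K = 2 := by
  haveI := normal_of_index_eq_two hH
  have h1 : H.relIndex K ∣ 2 := hH ▸ relIndex_dvd_index_of_normal H K
  rcases (Nat.dvd_prime Nat.prime_two).1 h1 with h | h
  · exact absurd (relIndex_eq_one.1 h) hK
  · exact h

/-- The basic configuration. -/
structure Setup (z : G) (S : Sylow 2 G) (c : G) : Prop where
  hz : orderOf z = 2
  cent : centralizer ({z} : Set G) = (S : Subgroup G)
  dih : H68.Dih (S : Subgroup G) c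
  ord : orderOf c = 4
  dz_eq : H68.dz c = z

variable {S : Sylow 2 G} {c : G}

theorem Setup.card_S (h : Setup z S c) : Nat.card (S : Subgroup G) = 8 := by
  rw [h.dih.card_eq, h.ord]

theorem exists_setup (hz : orderOf z = 2)
    (hC : Nonempty (↥(centralizer ({z} : Set G)) ≃* DihedralGroup 4)) :
    ∃ (S : Sylow 2 G) (c : G), Setup z S c := by
  obtain ⟨e⟩ := hC
  haveI : Fact (Nat.Prime 2) := ⟨Nat.prime_two⟩
  set C := centralizer ({z} : Set G) with hCdef
  have hcard : Nat.card C = 8 := by rw [Nat.card_congr e.toEquiv, DihedralGroup.nat_card]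
  have hCp : IsPGroup 2 C := IsPGroup.of_card (n := 3) (by rw [hcard]; norm_num)
  obtain ⟨c, hdih, hc⟩ := H68.exists_dih hCp (by norm_num) e
  have hzC : z ∈ C := mem_centralizer_singleton_iff.2 rfl
  have hzc : z * c = c * z := (mem_centralizer_singleton_iff.1 hdih.mem).symm
  have hzA : z ∈ zpowers c := by
    by_contra hA
    have h1 := hdih.conj_zpow' hzC hA 1
    rw [zpow_one, hzc, mul_inv_cancel_right, zpow_neg_one] at h1
    have h2 : c ^ 2 = 1 := by rw [pow_two]; exact mul_eq_one_iff_eq_inv.2 h1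
    have := orderOf_dvd_of_pow_eq_one h2
    rw [hc] at this
    omega
  have hdz : H68.dz c = z := (hdih.dz_unique hz hzA).symm
  obtain ⟨P, hP⟩ := hCp.exists_le_sylow
  have hCP : C = (P : Subgroup G) := by
    refine le_antisymm hP fun x hx => ?_
    -- a central involution of `P` lies in `C`, hence equals `z`
    have hPne : (P : Subgroup G) ≠ ⊥ := fun e0 => by
      have := card_dvd_of_le hP
      rw [e0, card_bot, hcard] at this
      omega
    haveI : Nontrivial (P : Subgroup G) := (nontrivial_iff_ne_bot _).2 hPne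
    haveI := P.2.center_nontrivial
    obtain ⟨k, hk⟩ : ∃ k, Nat.card (center (P : Subgroup G)) = 2 ^ k :=
      IsPGroup.iff_card.1 (P.2.to_subgroup _)
    have hk0 : k ≠ 0 := fun h0 => by
      rw [h0, pow_zero] at hk
      exact (Finite.one_lt_card (α := center (P : Subgroup G))).ne' hk
    obtain ⟨w, hw⟩ := exists_prime_orderOf_dvd_card' (G := center (P : Subgroup G)) 2
      (hk ▸ dvd_pow_self 2 hk0)
    set w' : G := ((w : (P : Subgroup G)) : G) with hw'
    have hwo : orderOf w' = 2 := by rw [hw', orderOf_coe, orderOf_coe, hw]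
    have hwc : ∀ y ∈ (P : Subgroup G), y * w' = w' * y := fun y hy =>
      congrArg Subtype.val (mem_center_iff.1 w.2 ⟨y, hy⟩)
    have hwC : w' ∈ C := mem_centralizer_singleton_iff.2 (hwc z (hP hzC)).symm
    have hwA : w' ∈ zpowers c := by
      by_contra hA
      have h1 := hdih.conj_zpow' hwC hA 1
      rw [zpow_one, ← hwc c (hP hdih.mem), mul_inv_cancel_right, zpow_neg_one] at h1
      have h2 : c ^ 2 = 1 := by rw [pow_two]; exact mul_eq_one_iff_eq_inv.2 h1
      have := orderOf_dvd_of_pow_eq_one h2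
      rw [hc] at this
      omega
    have hwz : w' = z := (hdih.dz_unique hwo hwA).trans hdz
    rw [hCdef, mem_centralizer_singleton_iff, ← hwz]
    exact hwc x hx
  exact ⟨P, c, hz, hCP, hCP ▸ hdih, hc, hdz⟩

/-- A four-group of `S` is self-centralizing. -/
theorem Setup.centralizer_four (h : Setup z S c) {U : Subgroup G} (hU : IsKleinFour U)
    (hUS : U ≤ (S : Subgroup G)) : centralizer (U : Set G) = U := by
  obtain ⟨y, hy, hyA, rfl⟩ := h.dih.klein_eq hU hUS
  have hmem : ∀ {g}, g ∈ h.dih.four hy hyA ↔ g = 1 ∨ g = z ∨ g = y ∨ g = z * y := fun {g} => by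
    rw [h.dih.mem_four hy hyA, h.dz_eq]
  refine le_antisymm (fun x hx => ?_) ?_
  · have hxz : x * z = z * x := (mem_centralizer_iff.1 hx z (hmem.2 (by tauto))).symm
    have hxS : x ∈ (S : Subgroup G) := h.cent ▸ mem_centralizer_singleton_iff.2 hxz
    have hxy : y * x = x * y := mem_centralizer_iff.1 hx y (hmem.2 (by tauto))
    have key : ∀ a ∈ zpowers c, a * y = y * a → a = 1 ∨ a = z := by
      rintro a ⟨i, rfl⟩ ha
      by_cases h1 : c ^ i = 1
      · exact Or.inl h1
      · right
        have h2 := h.dih.conj_zpow' hy hyA i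
        rw [show y * c ^ i * y⁻¹ = c ^ i by
          change c ^ i * y = y * c ^ i at ha
          rw [← ha, mul_inv_cancel_right]] at h2
        rw [← h.dz_eq]
        exact h.dih.dz_unique (H65.two_iff.2 ⟨by rw [zpow_neg] at h2; exact mul_eq_one_iff_eq_inv.2 h2, h1⟩)
          (zpow_mem (mem_zpowers c) i)
    by_cases hxA : x ∈ zpowers c
    · rcases key x hxA hxy.symm with rfl | rfl <;> exact hmem.2 (by tauto)
    · have hyy : y * y = 1 := h.dih.invol y hy hyA
      have h1 : x * y * y = y * (x * y) := by rw [← mul_assoc, hxy]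
      rcases key (x * y) (h.dih.idx x hxS y hy hxA hyA) h1 with h2 | h2
      · refine hmem.2 (Or.inr (Or.inr (Or.inl ?_)))
        rw [eq_inv_of_mul_eq_one_left h2, h.dih.inv_eq hy hyA]
      · refine hmem.2 (Or.inr (Or.inr (Or.inr ?_)))
        rw [← h2, mul_assoc, hyy, mul_one]
  · intro u hu
    rw [mem_centralizer_iff]
    intro v hv
    exact klein_comm hU hv hu
where
  klein_comm {U : Subgroup G} (hU : IsKleinFour U) {a b : G} (ha : a ∈ U) (hb : b ∈ U) :
      a * b = b * a := congrArg Subtype.val (mul_comm_of_exponent_two hU.exponent_two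
        (⟨a, ha⟩ : U) ⟨b, hb⟩)

/-- The fused data: a four-group with an element of order three permuting it. -/
structure Fused (z : G) (S : Sylow 2 G) (U : Subgroup G) (g : G) : Prop where
  klein : IsKleinFour U
  le : U ≤ (S : Subgroup G)
  z_mem : z ∈ U
  S_norm : (S : Subgroup G) ≤ normalizer (U : Set G)
  g_norm : g ∈ normalizer (U : Set G)
  g_ord : orderOf g = 3
  card_norm : Nat.card ↥(normalizer (U : Set G)) = 24
  conj_z : ∀ u ∈ U, u ≠ 1 → ∃ i : ℕ, u = g ^ i * z * (g ^ i)⁻¹

theorem Setup.cases (h : Setup z S c) : Cfsg.HasNormalPComplement 2 G ∨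
    ∃ (U : Subgroup G) (g : G), Fused z S U g := by
  haveI : Fact (Nat.Prime 2) := ⟨Nat.prime_two⟩
  haveI : Fact (Nat.Prime 3) := ⟨Nat.prime_three⟩
  by_cases hall : ∀ U : Subgroup G, U ≤ S → IsKleinFour U → normalizer (U : Set G) =
      centralizer (U : Set G) ⊔ ((S : Subgroup G) ⊓ normalizer (U : Set G))
  · exact Or.inl (H68.hasNormalPComplement_of_klein S h.dih hall)
  push Not at hall
  obtain ⟨U, hUS, hU, hne⟩ := hall
  right
  set N := normalizer (U : Set G) with hN
  -- `S` normalizes `U`
  have hSU : (S : Subgroup G) ≤ N := by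
    haveI : (U.subgroupOf (S : Subgroup G)).Normal := by
      refine Subgroup.normal_of_index_eq_two ?_
      have h1 := Subgroup.card_mul_index (U.subgroupOf (S : Subgroup G))
      rw [Nat.card_congr (subgroupOfEquivOfLe hUS).toEquiv, hU.card_four, h.card_S] at h1
      omega
    exact (normal_subgroupOf_iff_le_normalizer hUS).1 inferInstance
  have hC := h.centralizer_four hU hUS
  -- `N / U` embeds in `Sym(U#)`
  let f : N →* Equiv.Perm {u : U // u ≠ 1} :=
    { toFun := fun n =>
        { toFun := fun u => ⟨U.normalizerMonoidHom n u.1, by simpa using u.2⟩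
          invFun := fun u => ⟨U.normalizerMonoidHom n⁻¹ u.1, by simpa using u.2⟩
          left_inv := fun u => Subtype.ext (by simp only [← MulAut.mul_apply, ← map_mul, inv_mul_cancel, map_one, MulAut.one_apply])
          right_inv := fun u => Subtype.ext (by simp only [← MulAut.mul_apply, ← map_mul, mul_inv_cancel, map_one, MulAut.one_apply]) }
      map_one' := by ext u; simp
      map_mul' := fun a b => by ext u; simp }
  have hker : f.ker ≤ U.subgroupOf N := by
    intro n hn
    rw [mem_subgroupOf, ← hC]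
    have hn' : U.normalizerMonoidHom n = 1 := by
      refine MulEquiv.ext fun u => ?_
      by_cases hu : u = 1
      · simp [hu]
      · exact congrArg Subtype.val (DFunLike.congr_fun (MonoidHom.mem_ker.1 hn) ⟨u, hu⟩)
    have : n ∈ (U.normalizerMonoidHom).ker := hn'
    rw [normalizerMonoidHom_ker] at this
    exact this
  have hsix : Nat.card (Equiv.Perm {u : U // u ≠ 1}) = 6 := by
    have h3 : Nat.card {u : U // u ≠ 1} = 3 := by
      classical
      haveI := Fintype.ofFinite U
      rw [Nat.card_eq_fintype_card, Fintype.card_subtype_compl, Fintype.card_subtype_eq,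
        ← Nat.card_eq_fintype_card, hU.card_four]
    rw [Nat.card_perm, h3]; rfl
  have h24 : Nat.card N ∣ 24 := by
    have h1 : Nat.card f.ker ∣ 4 := by
      have := card_dvd_of_le hker
      rwa [Nat.card_congr (subgroupOfEquivOfLe (le_normalizer : U ≤ N)).toEquiv, hU.card_four] at this
    have h2 : Nat.card f.range ∣ 6 := hsix ▸ card_subgroup_dvd_card _
    have h3 := f.ker.card_mul_index
    rw [Subgroup.index_ker] at h3
    rw [← h3]
    exact mul_dvd_mul h1 h2
  have h8 : 8 ∣ Nat.card N := h.card_S ▸ card_dvd_of_le hSU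
  have hN24 : Nat.card N = 24 := by
    obtain ⟨k, hk⟩ := h8
    have hk3 : k ∣ 3 := by
      rw [hk, show 24 = 8 * 3 by norm_num] at h24
      exact (Nat.mul_dvd_mul_iff_left (by norm_num)).1 h24
    rcases (Nat.dvd_prime Nat.prime_three).1 hk3 with rfl | rfl
    · refine absurd ?_ hne
      have : (S : Subgroup G) = N := eq_of_le_of_card_ge hSU (by rw [hk, h.card_S])
      rw [hC, inf_eq_left.2 hSU, sup_eq_right.2 hUS, ← this]
    · rw [hk]
  obtain ⟨⟨g, hg⟩, hg3⟩ := exists_prime_orderOf_dvd_card' (G := N) 3 (by rw [hN24]; norm_num)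
  rw [orderOf_mk] at hg3
  have hnot : ∀ x : G, orderOf x = 3 → x * z ≠ z * x := fun x hx hc' => by
    have hxS : x ∈ (S : Subgroup G) := h.cent ▸ mem_centralizer_singleton_iff.2 hc'
    have := orderOf_dvd_natCard (⟨x, hxS⟩ : (S : Subgroup G))
    rw [orderOf_mk, hx, h.card_S] at this
    omega
  have hzU : z ∈ U := by
    obtain ⟨y, hy, hyA, rfl⟩ := h.dih.klein_eq hU hUS
    rw [h.dih.mem_four hy hyA, h.dz_eq]; tauto
  refine ⟨U, g, hU, hUS, hzU, hSU, hg, hg3, hN24, fun u hu hu1 => ?_⟩
  have hgc : ∀ x ∈ U, g * x * g⁻¹ ∈ U := fun x hx => (mem_normalizer_iff.1 hg x).1 hx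
  have hg1 : g * z * g⁻¹ ≠ z := fun e => hnot g hg3 (mul_inv_eq_iff_eq_mul.1 e)
  have hg2 : g ^ 2 * z * (g ^ 2)⁻¹ ≠ z := fun e =>
    hnot (g ^ 2) (by rw [orderOf_pow, hg3]; norm_num) (mul_inv_eq_iff_eq_mul.1 e)
  have hg12 : g ^ 2 * z * (g ^ 2)⁻¹ ≠ g * z * g⁻¹ := fun e => hg1 (by
    calc g * z * g⁻¹ = g⁻¹ * (g ^ 2 * z * (g ^ 2)⁻¹) * g := by simp [pow_two, mul_assoc]
      _ = z := by rw [e]; simp [mul_assoc])
  have hz1 : ∀ x : G, x * z * x⁻¹ ≠ 1 := fun x e => by
    have := h.hz
    rw [conj_eq_one_iff.1 e, orderOf_one] at this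
    omega
  classical
  haveI := Fintype.ofFinite U
  by_contra hne'
  push Not at hne'
  let l : Fin 5 → U := ![1, ⟨z, hzU⟩, ⟨_, hgc z hzU⟩,
    ⟨g ^ 2 * z * (g ^ 2)⁻¹, (mem_normalizer_iff.1 (pow_mem hg 2) z).1 hzU⟩, ⟨u, hu⟩]
  have hl : Function.Injective l := by
    intro i j hij
    have h0 := hne' 0; have h1 := hne' 1; have h2 := hne' 2
    have z0 := hz1 1; have z1 := hz1 g; have z2 := hz1 (g ^ 2)
    simp only [pow_zero, pow_one, one_mul, inv_one, mul_one] at h0 h1 h2 z0
    fin_cases i <;> fin_cases j <;> simp [l, Subtype.ext_iff] at hij <;> tauto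
  have := Nat.card_le_card_of_injective l hl
  rw [hU.card_four, Nat.card_fin] at this
  omega

/-- In the fused case there is no nontrivial odd normal subgroup. -/
theorem Fused.oddCore_eq_bot (h : Setup z S c) {U : Subgroup G} {g : G} (hf : Fused z S U g) :
    Cfsg.oddCore G = ⊥ := by
  haveI : Fact (Nat.Prime 2) := ⟨Nat.prime_two⟩
  set O := Cfsg.oddCore G with hO
  have hOn : O.Normal := H1.pPrimeCore_normal' 2 G
  have hOodd : (Nat.card O).Coprime 2 := H1.card_pPrimeCore_coprime 2 G
  have hfix : ∀ x ∈ U, x ≠ 1 → ∀ k ∈ O, x * k = k * x → k = 1 := by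
    intro x hx hx1 k hk hxk
    obtain ⟨i, rfl⟩ := hf.conj_z x hx hx1
    set k' := (g ^ i)⁻¹ * k * g ^ i with hk'
    have hk'S : k' ∈ (S : Subgroup G) := h.cent ▸ mem_centralizer_singleton_iff.2 (by
      calc k' * z = (g ^ i)⁻¹ * (k * (g ^ i * z * (g ^ i)⁻¹)) * g ^ i := by rw [hk']; group
        _ = (g ^ i)⁻¹ * ((g ^ i * z * (g ^ i)⁻¹) * k) * g ^ i := by rw [hxk]
        _ = z * k' := by rw [hk']; group)
    have hk'O : k' ∈ O := by simpa [hk'] using hOn.conj_mem k hk (g ^ i)⁻¹
    have h1 : orderOf k' ∣ 8 := by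
      have := orderOf_dvd_natCard (⟨k', hk'S⟩ : (S : Subgroup G))
      rwa [orderOf_mk, h.card_S] at this
    have h2 : orderOf k' ∣ Nat.card O := by
      have := orderOf_dvd_natCard (⟨k', hk'O⟩ : O)
      rwa [orderOf_mk] at this
    have h3 : k' = 1 := orderOf_eq_one_iff.1
      (Nat.eq_one_of_dvd_coprimes (Nat.Coprime.pow_right 3 hOodd) h2 h1)
    calc k = g ^ i * k' * (g ^ i)⁻¹ := by rw [hk']; group
      _ = 1 := by rw [h3]; group
  have hsq : ∀ x ∈ U, x * x = 1 := fun x hx => H65.klein_sub_mul_self hf.klein hx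
  have hinv : ∀ x ∈ U, x ≠ 1 → ∀ k ∈ O, x * k * x⁻¹ = k⁻¹ := fun x hx hx1 k hk =>
    H93.conj_eq_inv_of_fixedPointFree (hsq x hx) (normalizer_eq_top_iff.2 hOn ▸ mem_top x)
      (hfix x hx hx1) hk
  obtain ⟨y, hy, hy1, hyz⟩ : ∃ y ∈ U, y ≠ 1 ∧ y ≠ z := by
    by_contra! hcon
    have hle : U ≤ zpowers z := fun x hx => by
      by_cases h1 : x = 1
      · exact h1 ▸ one_mem _
      · exact (hcon x hx h1) ▸ mem_zpowers z
    have := card_le_of_le hle
    rw [hf.klein.card_four, Nat.card_zpowers, h.hz] at this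
    omega
  have hz1 : z ≠ 1 := fun e => by
    have := h.hz
    rw [e, orderOf_one] at this
    omega
  have hzy : z * y ≠ 1 := fun e => hyz (by
    rw [eq_inv_of_mul_eq_one_right e, inv_eq_iff_mul_eq_one.2 (hsq z hf.z_mem)])
  rw [eq_bot_iff]
  intro k hk
  rw [mem_bot]
  have h1 := hinv _ (mul_mem hf.z_mem hy) hzy k hk
  rw [show z * y * k * (z * y)⁻¹ = z * (y * k * y⁻¹) * z⁻¹ by group, hinv y hy hy1 k hk,
    hinv z hf.z_mem hz1 k⁻¹ (inv_mem hk), inv_inv] at h1
  have h2 : orderOf k ∣ 2 := orderOf_dvd_of_pow_eq_one (by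
    rw [pow_two]; exact mul_eq_one_iff_eq_inv.2 h1)
  have h3 : orderOf k ∣ Nat.card O := by
    have := orderOf_dvd_natCard (⟨k, hk⟩ : O)
    rwa [orderOf_mk] at this
  exact orderOf_eq_one_iff.1 (Nat.eq_one_of_dvd_coprimes hOodd h3 h2)

/-- Without a subgroup of index two the group is simple of order 168 or 360. -/
theorem simple_case (h : Setup z S c) {U : Subgroup G} {g : G} (hf : Fused z S U g)
    (hC : Nonempty (↥(centralizer ({z} : Set G)) ≃* DihedralGroup 4))
    (hidx : ∀ H : Subgroup G, H.index ≠ 2) :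
    IsSimpleGroup G ∧ (Nat.card G = 168 ∨ Nat.card G = 360) := by
  haveI : Fact (Nat.Prime 2) := ⟨Nat.prime_two⟩
  have hconj : ∀ t : G, orderOf t = 2 → IsConj t z := fun t ht =>
    h.dz_eq ▸ H68.isConj_dz S h.dih hidx ht
  have hGnt : Nontrivial G := ⟨⟨z, 1, fun e => by
    have := h.hz
    rw [e, orderOf_one] at this
    omega⟩⟩
  have hsimple : IsSimpleGroup G := by
    refine ⟨fun M hM => ?_⟩
    by_cases hodd : 2 ∣ Nat.card M
    swap
    · left
      haveI := hM
      rw [eq_bot_iff, ← hf.oddCore_eq_bot h]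
      exact H1.le_pPrimeCore ((Nat.Prime.coprime_iff_not_dvd Nat.prime_two).2 hodd).symm
    right
    obtain ⟨t, ht⟩ := exists_prime_orderOf_dvd_card' (G := M) 2 hodd
    rw [← orderOf_coe] at ht
    have hall : ∀ v : G, orderOf v = 2 → v ∈ M := fun v hv => by
      obtain ⟨a, ha⟩ := isConj_iff.1 ((hconj t ht).trans (hconj v hv).symm)
      exact ha ▸ hM.conj_mem _ t.2 a
    -- `S` is generated by involutions
    have hSM : (S : Subgroup G) ≤ M := by
      obtain ⟨y, hy, hyA⟩ := h.dih.exists_out
      have hrefl : ∀ x ∈ (S : Subgroup G), x ∉ zpowers c → x ∈ M := fun x hx hxA =>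
        hall x (H65.two_iff.2 ⟨h.dih.invol x hx hxA, fun e => hxA (e ▸ one_mem _)⟩)
      intro x hx
      by_cases hxA : x ∈ zpowers c
      · have h1 : x * y ∉ zpowers c := fun e => hyA (((zpowers c).mul_mem_cancel_left hxA).1 e)
        have := M.mul_mem (hrefl _ (mul_mem hx hy) h1) (hrefl y hy hyA)
        rwa [mul_assoc, h.dih.invol y hy hyA, mul_one] at this
      · exact hrefl x hx hxA
    haveI := hM
    have hNS : normalizer ((S : Subgroup G) : Set G) ≤ M := by
      intro a ha
      refine hSM ?_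
      have hzS : z ∈ (S : Subgroup G) := hf.le hf.z_mem
      have hw : a * z * a⁻¹ ∈ zpowers c := by
        by_contra hA
        have hS' := (mem_normalizer_iff.1 ha z).1 hzS
        have hcc : a⁻¹ * c * a ∈ (S : Subgroup G) := by
          simpa using (mem_normalizer_iff.1 (inv_mem ha) c).1 h.dih.mem
        have hc' : (a * z * a⁻¹) * c = c * (a * z * a⁻¹) := by
          have h1 := mem_centralizer_singleton_iff.1 (h.cent.symm ▸ hcc)
          calc (a * z * a⁻¹) * c = a * (z * (a⁻¹ * c * a)) * a⁻¹ := by group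
            _ = a * ((a⁻¹ * c * a) * z) * a⁻¹ := by rw [h1]
            _ = c * (a * z * a⁻¹) := by group
        have h1 := h.dih.conj_zpow' hS' hA 1
        rw [zpow_one, hc', mul_inv_cancel_right, zpow_neg_one] at h1
        have h2 : c ^ 2 = 1 := by rw [pow_two]; exact mul_eq_one_iff_eq_inv.2 h1
        have := orderOf_dvd_of_pow_eq_one h2
        rw [h.ord] at this
        omega
      have hwz : a * z * a⁻¹ = z :=
        (h.dih.dz_unique (H65.two_conj h.hz a) hw).trans h.dz_eq
      rw [← h.cent, mem_centralizer_singleton_iff]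
      exact mul_inv_eq_iff_eq_mul.1 hwz
    have htop := Sylow.normalizer_sup_eq_top' S hSM
    exact top_le_iff.1 (htop.ge.trans (sup_le hNS le_rfl))
  haveI := hsimple
  have hnc : ¬ IsMulCommutative G := fun hc => by
    have h1 : centralizer ({z} : Set G) = ⊤ := eq_top_iff.2 fun x _ =>
      mem_centralizer_singleton_iff.2 (hc.is_comm.comm x z)
    rw [h.cent] at h1
    have h2 : Nat.card G = 8 := by rw [← Subgroup.card_top, ← h1, h.card_S]
    have hz' : (zpowers z).Normal := ⟨fun a ha b => by
      rw [hc.is_comm.comm b a, mul_inv_cancel_right]; exact ha⟩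
    rcases hsimple.eq_bot_or_eq_top_of_normal _ hz' with h3 | h3
    · rw [zpowers_eq_bot] at h3
      have := h.hz
      rw [h3, orderOf_one] at this
      omega
    · rw [← Subgroup.card_top, ← h3, Nat.card_zpowers, h.hz] at h2
      omega
  have hperf : commutator G = ⊤ := by
    rcases hsimple.eq_bot_or_eq_top_of_normal (commutator G) inferInstance with h1 | h1
    · exact absurd ⟨⟨fun a b => commutatorElement_eq_one_iff_mul_comm.1
        ((Subgroup.mem_bot).1 (h1 ▸ Subgroup.commutator_mem_commutator (mem_top a) (mem_top b)))⟩⟩ hnc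
    · exact h1
  haveI := Fintype.ofFinite G
  exact ⟨hsimple, H14.perfect_d8 hperf z h.hz (Classical.choice hC)⟩

/-- With a subgroup of index two the group is `S₄` or `S₅`. -/
theorem index_two_case (h : Setup z S c) {U : Subgroup G} {g : G} (hf : Fused z S U g)
    {H : Subgroup G} (hH : H.index = 2) :
    Nonempty (G ≃* Equiv.Perm (Fin 4)) ∨ Nonempty (G ≃* Equiv.Perm (Fin 5)) := by
  haveI : Fact (Nat.Prime 2) := ⟨Nat.prime_two⟩
  haveI : Fact (Nat.Prime 3) := ⟨Nat.prime_three⟩
  haveI hHn : H.Normal := normal_of_index_eq_two hH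
  have hgH : g ∈ H := by
    have h1 : g ^ 3 = 1 := hf.g_ord ▸ pow_orderOf_eq_one g
    have h2 : g = (g ^ 2) ^ 2 := by rw [← pow_mul, pow_succ, h1, one_mul]
    rw [h2]
    exact sq_mem_of_index_two hH _
  have hgpow : ∀ i : ℕ, g ^ i ∈ H := fun i => pow_mem hgH i
  have hgnorm : ∀ i : ℕ, g ^ i ∈ normalizer (U : Set G) := fun i => pow_mem hf.g_norm i
  have hzH : z ∈ H := by
    by_contra hz'
    have h1 : g * z * g⁻¹ ∉ H := fun e => hz' (by simpa [mul_assoc] using hHn.conj_mem _ e g⁻¹)
    have h2 : z * (g * z * g⁻¹) ∈ H := (mul_mem_iff_of_index_two hH).2 (iff_of_false hz' h1)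
    have h3 : z * (g * z * g⁻¹) ≠ 1 := fun e => by
      have h4 : g * z * g⁻¹ = z := (eq_inv_of_mul_eq_one_right e).trans
        (inv_eq_iff_mul_eq_one.2 (H65.klein_sub_mul_self hf.klein hf.z_mem))
      have h5 : g ∈ (S : Subgroup G) :=
        h.cent ▸ mem_centralizer_singleton_iff.2 (mul_inv_eq_iff_eq_mul.1 h4)
      have := orderOf_dvd_natCard (⟨g, h5⟩ : (S : Subgroup G))
      rw [orderOf_mk, hf.g_ord, h.card_S] at this
      omega
    obtain ⟨i, hi⟩ := hf.conj_z _ (mul_mem hf.z_mem ((mem_normalizer_iff.1 hf.g_norm z).1 hf.z_mem)) h3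
    rw [hi] at h2
    exact hz' (by simpa [mul_assoc] using hHn.conj_mem _ h2 (g ^ i)⁻¹)
  have hUH : U ≤ H := fun u hu => by
    by_cases hu1 : u = 1
    · exact hu1 ▸ one_mem _
    · obtain ⟨i, rfl⟩ := hf.conj_z u hu hu1
      exact hHn.conj_mem z hzH _
  have hSH : ¬ (S : Subgroup G) ≤ H := fun hle => S.not_dvd_index (by
    have := index_dvd_of_le hle
    rwa [hH] at this)
  have hSU : (S : Subgroup G) ⊓ H = U := by
    refine (eq_of_le_of_card_ge (le_inf hf.le hUH) ?_).symm
    have hlt : Nat.card ↥((S : Subgroup G) ⊓ H) < 8 := by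
      by_contra! hle
      exact hSH (inf_eq_left.1 (eq_of_le_of_card_ge inf_le_left (h.card_S ▸ hle)))
    have hd := card_dvd_of_le (inf_le_left : (S : Subgroup G) ⊓ H ≤ S)
    rw [h.card_S] at hd
    rw [hf.klein.card_four]
    have := Nat.le_of_dvd (by norm_num) hd
    interval_cases (Nat.card ↥((S : Subgroup G) ⊓ H)) <;> omega
  have hNH : Nat.card ↥(normalizer (U : Set G) ⊓ H) = 12 := by
    have h1 : ¬ normalizer (U : Set G) ≤ H := fun hle => hSH (hf.S_norm.trans hle)
    have h2 : H.relIndex (normalizer (U : Set G)) = 2 :=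
      relIndex_two_of_not_le hH h1
    have h3 := Subgroup.card_mul_index (H.subgroupOf (normalizer (U : Set G)))
    rw [← inf_subgroupOf_right, Nat.card_congr (subgroupOfEquivOfLe inf_le_right).toEquiv,
      ← relIndex, inf_relIndex_right, h2, hf.card_norm, inf_comm] at h3
    omega
  -- the configuration inside `H`
  set V : Subgroup H := U.subgroupOf H with hV
  have hVc : Nat.card V = 4 := by
    rw [Nat.card_congr (subgroupOfEquivOfLe hUH).toEquiv, hf.klein.card_four]
  have hcentz : ∀ x ∈ H, x * z = z * x → x ∈ U := fun x hx hc =>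
    hSU ▸ ⟨h.cent ▸ mem_centralizer_singleton_iff.2 hc, hx⟩
  have cfg : H70.SCK.Config V := by
    refine ⟨hVc, fun v hv => Subtype.ext (by
      simpa [pow_two] using H65.klein_sub_mul_self hf.klein (mem_subgroupOf.1 hv)), ?_, ?_, ?_⟩
    · intro v hv hv1
      obtain ⟨i, hi⟩ := hf.conj_z _ (mem_subgroupOf.1 hv) (fun e => hv1 (Subtype.ext e))
      ext x
      rw [mem_centralizer_singleton_iff, mem_subgroupOf]
      constructor
      · intro hx
        have hx' : (x : G) * v = v * x := congrArg Subtype.val hx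
        set x' := (g ^ i)⁻¹ * x * g ^ i with hx''
        have hxH : x' ∈ H := mul_mem (mul_mem (inv_mem (hgpow i)) x.2) (hgpow i)
        have hc : x' * z = z * x' := by
          calc x' * z = (g ^ i)⁻¹ * ((x : G) * (g ^ i * z * (g ^ i)⁻¹)) * g ^ i := by rw [hx'']; group
            _ = (g ^ i)⁻¹ * ((g ^ i * z * (g ^ i)⁻¹) * x) * g ^ i := by rw [← hi, hx']
            _ = z * x' := by rw [hx'']; group
        have := (mem_normalizer_iff.1 (hgnorm i) x').1 (hcentz x' hxH hc)
        have e : g ^ i * x' * (g ^ i)⁻¹ = x := by rw [hx'']; group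
        rwa [e] at this
      · intro hx
        exact Subtype.ext ((congrArg (fun w : U => (w : G)) (mul_comm_of_exponent_two hf.klein.exponent_two
          (⟨x, hx⟩ : U) ⟨v, mem_subgroupOf.1 hv⟩)))
    · intro t ht v hv hv1
      have hd : ¬ 2 ∣ V.index := by
        intro hd
        have h1 := V.card_mul_index
        rw [hVc] at h1
        have h2 : 8 * 2 ∣ Nat.card G := by
          rw [← H.card_mul_index, hH, ← h1]
          obtain ⟨k, hk⟩ := hd
          exact ⟨k, by rw [hk]; ring⟩
        rw [← (S : Subgroup G).card_mul_index, h.card_S,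
          Nat.mul_dvd_mul_iff_left (by norm_num)] at h2
        exact S.not_dvd_index h2
      let T : Sylow 2 H := (IsPGroup.of_card (n := 2) hVc : IsPGroup 2 V).toSylow hd
      obtain ⟨Q, hQ⟩ := (IsPGroup.of_card (n := 1) (p := 2)
        (by rw [Nat.card_zpowers, ht, pow_one]) : IsPGroup 2 (zpowers t)).exists_le_sylow
      obtain ⟨a, ha⟩ := MulAction.exists_smul_eq H T Q
      have htQ : t ∈ (Q : Subgroup H) := hQ (mem_zpowers t)
      rw [← ha, Sylow.coe_subgroup_smul, mem_pointwise_smul_iff_inv_smul_mem] at htQ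
      set u : H := (MulAut.conj a)⁻¹ • t with hu
      have huV : u ∈ V := by simpa [T, IsPGroup.toSylow_coe] using htQ
      have hu1 : u ≠ 1 := fun e => by
        have : t = 1 := by
          have := congrArg (fun w => MulAut.conj a • w) e
          simpa [hu, mul_assoc] using this
        rw [this, orderOf_one] at ht
        omega
      obtain ⟨i, hi⟩ := hf.conj_z _ (mem_subgroupOf.1 hv) (fun e => hv1 (Subtype.ext e))
      obtain ⟨j, hj⟩ := hf.conj_z _ (mem_subgroupOf.1 huV) (fun e => hu1 (Subtype.ext e))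
      refine IsConj.trans (b := u) (isConj_iff.2 ⟨(⟨g, hgH⟩ : H) ^ j * ((⟨g, hgH⟩ : H) ^ i)⁻¹, ?_⟩)
        (isConj_iff.2 ⟨a, ?_⟩)
      · refine Subtype.ext ?_
        push_cast
        rw [hi, hj]; group
      · rw [hu]; simp [MulAut.smul_def, mul_assoc]
    · rw [← hNH, inf_comm, hV, ← subgroupOf_normalizer_eq hUH]
      exact Nat.card_congr (subgroupOfEquivOfLe_inf H (normalizer (U : Set G)))
  have hG : Nat.card G = 2 * Nat.card H := by rw [← H.card_mul_index, hH, mul_comm]
  -- a point stabilizer of small index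
  suffices key : ∀ M : Subgroup G, M.normalCore ≤ normalizer (U : Set G) →
      M.normalCore ⊓ U = ⊥ → ∀ n : ℕ, M.index = n → Nat.card G = n.factorial →
      Nonempty (G ≃* Equiv.Perm (Fin n)) by
    rcases H70.SCK.card_eq cfg with h12 | h60
    · left
      -- `U` is normal
      have hUn : normalizer (U : Set G) = ⊤ :=
        eq_top_of_card_eq _ (by rw [hf.card_norm, hG, h12])
      set P := zpowers g with hP
      have hP3 : Nat.card P = 3 := by rw [hP, Nat.card_zpowers, hf.g_ord]
      have hG24 : Nat.card G = 24 := by rw [hG, h12]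
      have hPidx : P.index = 8 := by
        have := P.card_mul_index
        rw [hP3, hG24] at this
        omega
      let T : Sylow 3 G := (IsPGroup.of_card (n := 1) (by rw [hP3, pow_one]) : IsPGroup 3 P).toSylow
        (by rw [hPidx]; norm_num)
      have hT : (T : Subgroup G) = P := IsPGroup.toSylow_coe _ _
      have hfix : ∀ u ∈ U, u ∈ normalizer (P : Set G) → u = 1 := by
        intro u hu hun
        by_contra hu1
        have h1 : u * g * u⁻¹ * g⁻¹ ∈ P ⊓ U := by
          refine mem_inf.2 ⟨mul_mem ((mem_normalizer_iff.1 hun g).1 (mem_zpowers g))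
            (inv_mem (mem_zpowers g)), ?_⟩
          rw [show u * g * u⁻¹ * g⁻¹ = u * (g * u⁻¹ * g⁻¹) by group]
          refine mul_mem hu ?_
          exact (mem_normalizer_iff.1 (hf.g_norm) u⁻¹).1 (inv_mem hu)
        have h2 : P ⊓ U = ⊥ := by
          refine inf_eq_bot_of_coprime ?_
          rw [hP3, hf.klein.card_four]; norm_num
        rw [h2, mem_bot, mul_inv_eq_one, mul_inv_eq_iff_eq_mul] at h1
        obtain ⟨i, rfl⟩ := hf.conj_z u hu hu1
        have hgS : g ∈ (S : Subgroup G) := by
          rw [← h.cent, mem_centralizer_singleton_iff]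
          have hc : Commute g (g ^ i) := Commute.self_pow g i
          calc g * z = (g ^ i)⁻¹ * (g * (g ^ i * z * (g ^ i)⁻¹)) * g ^ i := by
                rw [← mul_assoc g, ← mul_assoc g, hc.eq]; group
            _ = (g ^ i)⁻¹ * ((g ^ i * z * (g ^ i)⁻¹) * g) * g ^ i := by rw [h1]
            _ = z * ((g ^ i)⁻¹ * (g * g ^ i)) := by group
            _ = z * g := by rw [hc.eq]; group
        have := orderOf_dvd_natCard (⟨g, hgS⟩ : (S : Subgroup G))
        rw [orderOf_mk, hf.g_ord, h.card_S] at this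
        omega
      refine key (normalizer (P : Set G)) (hUn ▸ le_top) ?_ 4 ?_ (by rw [hG24]; rfl)
      · rw [eq_bot_iff]
        exact fun u hu => mem_bot.2 (hfix u hu.2 (normalCore_le _ hu.1))
      · have hn3 : Nat.card (Sylow 3 G) = (normalizer (P : Set G)).index := by
          rw [T.card_eq_index_normalizer]
          show (normalizer ((T : Subgroup G) : Set G)).index = _
          rw [hT]
        have hdvd : (normalizer (P : Set G)).index ∣ 8 :=
          hPidx ▸ index_dvd_of_le le_normalizer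
        have hmod : (normalizer (P : Set G)).index % 3 = 1 := by
          have := card_sylow_modEq_one 3 G
          rw [hn3] at this
          exact this
        have hne1 : (normalizer (P : Set G)).index ≠ 1 := fun e => by
          have h1 := hfix z hf.z_mem (by rw [index_eq_one.1 e]; exact mem_top _)
          have := h.hz
          rw [h1, orderOf_one] at this
          omega
        have := Nat.le_of_dvd (by norm_num) hdvd
        interval_cases ((normalizer (P : Set G)).index) <;> omega
    · right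
      have hidx : (normalizer (U : Set G)).index = 5 := by
        have := (normalizer (U : Set G)).card_mul_index
        rw [hf.card_norm, hG, h60] at this
        omega
      refine key _ (normalCore_le _) ?_ 5 hidx (by rw [hG, h60]; rfl)
      set K := (normalizer (U : Set G)).normalCore
      haveI hKn : K.Normal := normalCore_normal _
      rw [eq_bot_iff]
      intro u hu
      rw [mem_bot]
      by_contra hu1
      -- every involution of `H` lies in `K`
      obtain ⟨j, hj⟩ := hf.conj_z u hu.2 hu1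
      have hzK : z ∈ K := by
        have := hKn.conj_mem u hu.1 (g ^ j)⁻¹
        rw [hj] at this
        simpa [mul_assoc] using this
      have hVn : V.Normal := by
        refine ⟨fun v hv a => ?_⟩
        by_cases hv1 : v = 1
        · simp [hv1]
        obtain ⟨i, hi⟩ := hf.conj_z _ (mem_subgroupOf.1 hv) (fun e => hv1 (Subtype.ext e))
        have hvo : orderOf (a * v * a⁻¹) = 2 := by
          rw [show orderOf (a * v * a⁻¹) = orderOf v from (MulAut.conj a).orderOf_eq v]
          exact H70.SCK.invol_of_mem cfg hv hv1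
        refine H70.SCK.mem_of_invol cfg hvo ?_
        rw [hV, ← subgroupOf_normalizer_eq hUH, mem_subgroupOf]
        refine normalCore_le _ ?_
        push_cast
        rw [hi]
        exact hKn.conj_mem _ (hKn.conj_mem z hzK _) _
      have h1 := cfg.card_norm
      rw [normalizer_eq_top_iff.2 hVn, Subgroup.card_top, h60] at h1
      omega
  intro M hMU hMbot n hn hfac
  have hK : M.normalCore = ⊥ := by
    have hC := h.centralizer_four hf.klein hf.le
    rw [eq_bot_iff, ← hMbot]
    refine fun k hk => ⟨hk, ?_⟩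
    refine hC.le (mem_centralizer_iff.2 ?_)
    intro u hu
    have h1 : u * k * u⁻¹ * k⁻¹ ∈ M.normalCore ⊓ U := by
      refine mem_inf.2 ⟨mul_mem ((normalCore_normal M).conj_mem k hk u) (inv_mem hk), ?_⟩
      show u * k * u⁻¹ * k⁻¹ ∈ U
      rw [show u * k * u⁻¹ * k⁻¹ = u * (k * u⁻¹ * k⁻¹) by group]
      refine mul_mem hu ?_
      exact (mem_normalizer_iff.1 (hMU hk) u⁻¹).1 (inv_mem hu)
    rw [hMbot, mem_bot, mul_inv_eq_one, mul_inv_eq_iff_eq_mul] at h1
    exact h1
  let e : (G ⧸ M) ≃ Fin n := Finite.equivFinOfCardEq hn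
  let f : G →* Equiv.Perm (Fin n) := e.permCongrHom.toMonoidHom.comp (MulAction.toPermHom G (G ⧸ M))
  have hfi : Function.Injective f := by
    refine e.permCongrHom.injective.comp ?_
    rw [← MonoidHom.ker_eq_bot_iff, ← Subgroup.normalCore_eq_ker, hK]
  exact ⟨MulEquiv.ofBijective f ((Nat.bijective_iff_injective_and_card f).2
    ⟨hfi, by rw [hfac, Nat.card_perm, Nat.card_fin]⟩)⟩
where
  subgroupOfEquivOfLe_inf (A B : Subgroup G) : ↥(B.subgroupOf A) ≃ ↥(A ⊓ B) :=
    { toFun := fun x => ⟨(x : A), (x : A).2, x.2⟩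
      invFun := fun x => ⟨⟨x, x.2.1⟩, x.2.2⟩
      left_inv := fun _ => rfl
      right_inv := fun _ => rfl }

end H78.D8

namespace H78.D8

theorem dihedral_eight_centralizer {G : Type*} [Group G] [Finite G] {z : G} (hz : orderOf z = 2)
    (hC : Nonempty (↥(centralizer ({z} : Set G)) ≃* DihedralGroup 4)) :
    centralizer ({z} : Set G) ⊔ Cfsg.oddCore G = ⊤ ∨ Nonempty (G ≃* Equiv.Perm (Fin 4)) ∨
      Nonempty (G ≃* Equiv.Perm (Fin 5)) ∨
      Nonempty (G ≃* Matrix.SpecialLinearGroup (Fin 3) (ZMod 2)) ∨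
      Nonempty (G ≃* ↥(alternatingGroup (Fin 6))) := by
  haveI : Fact (Nat.Prime 2) := ⟨Nat.prime_two⟩
  obtain ⟨S, c, h⟩ := exists_setup hz hC
  rcases h.cases with ⟨P, N, hN, hc⟩ | ⟨U, g, hf⟩
  · left
    haveI := hN
    have hP8 : Nat.card (P : Subgroup G) = 8 := by
      rw [P.card_eq_multiplicity, ← S.card_eq_multiplicity, h.card_S]
    have hNidx : N.index = 8 := by rw [hc.symm.index_eq_card, hP8]
    have hodd : (Nat.card N).Coprime 2 := by
      rw [← hc.index_eq_card]
      exact ((Nat.Prime.coprime_iff_not_dvd Nat.prime_two).2 P.not_dvd_index).symm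
    have hNO : N ≤ Cfsg.oddCore G := H1.le_pPrimeCore hodd
    have hcomp : N.IsComplement' (S : Subgroup G) := by
      refine isComplement'_of_coprime ?_ ?_
      · rw [h.card_S, ← hNidx, N.card_mul_index]
      · rw [h.card_S]
        exact hodd.pow_right 3
    have htop : (S : Subgroup G) ⊔ N = ⊤ := by rw [sup_comm]; exact hcomp.sup_eq_top
    refine top_le_iff.1 ?_
    rw [h.cent, ← htop]
    exact sup_le_sup_left hNO _
  · by_cases hidx : ∀ H : Subgroup G, H.index ≠ 2
    · obtain ⟨hs, h168 | h360⟩ := simple_case h hf hC hidx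
      · right; right; right; left
        haveI := hs
        obtain ⟨e⟩ := H65.psl_two_seven_of_card h168 (F := ZMod 7) (ZMod.card 7)
        obtain ⟨e'⟩ := H37.PSL2_seven_mulEquiv_PSL3_two
          (F := ZMod 7) (K := ZMod 2) (ZMod.card 7) (ZMod.card 2)
        have hc : (Subgroup.center (Matrix.SpecialLinearGroup (Fin 3) (ZMod 2))) = ⊥ := by
          rw [← Subgroup.card_eq_one, H37.card_center_SL]; simp
        exact ⟨e.trans (e'.trans ((QuotientGroup.quotientMulEquivOfEq hc).trans QuotientGroup.quotientBot))⟩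
      · right; right; right; right
        haveI := hs
        exact H65.alternating_six_of_card h360
    · push Not at hidx
      obtain ⟨H, hH⟩ := hidx
      rcases index_two_case h hf hH with h4 | h5
      · exact Or.inr (Or.inl h4)
      · exact Or.inr (Or.inr (Or.inl h5))

end H78.D8
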