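import Cfsg.Agent.H78.CDLattice

set_option autoImplicit false

open Subgroup

namespace H78

variable {G : Type*} [Group G] [Finite G]

/-- Two `p`-subgroups of `L` of the order of a Sylow subgroup are conjugate in `L`. -/
theorem sylow_conj_in {p : ℕ} [Fact p.Prime] {L A B : Subgroup G} (hA : IsPGroup p A)
    (hAL : A ≤ L) (hidx : ¬ p ∣ A.relIndex L) (hB : IsPGroup p B) (hBL : B ≤ L)
    (hcard : Nat.card A ≤ Nat.card B) :
    ∃ l ∈ L, A.map (MulAut.conj l).toMonoidHom = B := by
  let S : Sylow p ↥L := IsPGroup.toSylow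
    (hA.comap_of_injective L.subtype L.subtype_injective : IsPGroup p (A.subgroupOf L)) hidx
  obtain ⟨T, hT⟩ := (hB.comap_of_injective L.subtype L.subtype_injective :
    IsPGroup p (B.subgroupOf L)).exists_le_sylow
  obtain ⟨l, hl⟩ := MulAction.exists_smul_eq ↥L S T
  have hS : (S : Subgroup ↥L).map L.subtype = A := by
    simp [S, IsPGroup.toSylow_coe, subgroupOf_map_subtype, hAL]
  have hTm : (T : Subgroup ↥L).map L.subtype = A.map (MulAut.conj (l : G)).toMonoidHom := by
    rw [← hl, ← hS, Sylow.coe_subgroup_smul]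
    ext z
    constructor
    · rintro ⟨y, hy, rfl⟩
      rw [SetLike.mem_coe, Subgroup.mem_pointwise_smul_iff_inv_smul_mem] at hy
      exact ⟨_, ⟨_, hy, rfl⟩, by simp [MulAut.smul_def, mul_assoc]⟩
    · rintro ⟨_, ⟨y, hy, rfl⟩, rfl⟩
      exact ⟨MulAut.conj l y, Subgroup.smul_mem_pointwise_smul _ _ _ hy, by simp⟩
  refine ⟨l, l.2, ?_⟩
  have hle : B ≤ A.map (MulAut.conj (l : G)).toMonoidHom := by
    rw [← hTm, ← inf_eq_left.2 hBL, ← subgroupOf_map_subtype]
    exact map_mono hT
  exact (eq_of_le_of_card_ge hle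
    (by rw [card_map_of_injective (MulEquiv.injective _)]; exact hcard)).symm

theorem relIndex_sup_of_le_normalizer {A N : Subgroup G} (h : A ≤ normalizer (N : Set G)) :
    A.relIndex (A ⊔ N) = A.relIndex N := by
  have h1 := card_sup_eq_of_coe A N (coe_mul_of_left_le_normalizer_right A N h)
  have h2 : Nat.card A * A.relIndex (A ⊔ N) = Nat.card ↥(A ⊔ N) := by
    rw [← relIndex_bot_left, ← relIndex_bot_left, relIndex_mul_relIndex _ _ _ bot_le le_sup_left]
  have h3 : Nat.card ↥(A ⊓ N) * A.relIndex N = Nat.card N := by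
    rw [← inf_relIndex_right A N, ← relIndex_bot_left, ← relIndex_bot_left,
      relIndex_mul_relIndex _ _ _ bot_le inf_le_right]
  rw [← h2, ← h3] at h1
  have h0 : 0 < Nat.card A * Nat.card ↥(A ⊓ N) := Nat.mul_pos Nat.card_pos Nat.card_pos
  exact Nat.eq_of_mul_eq_mul_left h0 (by rw [mul_assoc, mul_assoc, ← h1]; ring)

theorem not_dvd_sylow_relIndex {p : ℕ} [Fact p.Prime] (P : Sylow p G) (N : Subgroup G) [N.Normal] :
    ¬ p ∣ (P : Subgroup G).relIndex N := by
  rw [← relIndex_sup_of_le_normalizer le_normalizer_of_normal]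
  exact fun h => P.not_dvd_index (h.trans (Dvd.intro _
    (relIndex_mul_index (le_sup_left : (P : Subgroup G) ≤ (P : Subgroup G) ⊔ N))))

end H78

namespace H78

theorem isCoatom_of_index_prime' {G : Type*} [Group G] {H : Subgroup G} (h : H.index.Prime) :
    IsCoatom H := by
  refine ⟨fun e => h.ne_one (Subgroup.index_eq_one.2 e), fun K hK => ?_⟩
  have h1 := Subgroup.relIndex_mul_index hK.le
  rcases (Nat.dvd_prime h).1 (Dvd.intro _ h1) with h2 | h2
  · exact absurd (Subgroup.relIndex_eq_one.1 h2) hK.not_ge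
  · rw [h2] at h1
    exact Subgroup.index_eq_one.1 (by
      have := h.pos
      nlinarith)

end H78
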