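import Cfsg.Agent.H78.BlockSL2
import Cfsg.Agent.H37.SL2Gen
import Mathlib.FieldTheory.Finite.Basic

/-!
Semilinear maps of `F²` normalising `SL₂(F)`.
-/

set_option autoImplicit false
set_option linter.unusedSectionVars false

open Matrix
open scoped MatrixGroups

namespace H78.Block

variable {F : Type*} [Field F]

/-- The Weyl element. -/
def weyl (F : Type*) [Field F] : SL(2, F) :=
  ⟨!![0, -1; 1, 0], by simp [Matrix.det_fin_two_of]⟩

theorem sl2v_weyl (v : Fin 2 → F) : sl2v (weyl F) v = ![-v 1, v 0] := by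
  ext i
  fin_cases i <;> simp [sl2v, weyl, Matrix.mulVec, dotProduct, Fin.sum_univ_two]

theorem smul_vec_left_injective {v : Fin 2 → F} (hv : v ≠ 0) {a b : F} (h : a • v = b • v) : a = b := by
  by_contra hne
  refine hv ?_
  have := sub_smul a b v
  rw [h, sub_self] at this
  exact (smul_eq_zero.1 this).resolve_left (sub_ne_zero.2 hne)

/-- An additive map commuting with all of `SL₂(F)` is a scalar. -/
theorem scalar_of_commute_all (g : (Fin 2 → F) →+ (Fin 2 → F))
    (hg : ∀ (s : SL(2, F)) v, g (sl2v s v) = sl2v s (g v)) : ∃ a : F, ∀ v, g v = a • v := by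
  obtain ⟨a, hx, hy⟩ := exists_of_commute_upper g fun c v => hg _ v
  refine ⟨a, fun v => ?_⟩
  have h := hg (weyl F) ![v 1, 0]
  rw [sl2v_weyl, sl2v_weyl, hx] at h
  simp only [Matrix.cons_val_zero, Matrix.cons_val_one, neg_zero] at h
  conv_lhs => rw [vec_split v, map_add, hx, h]
  ext i
  fin_cases i <;> simp

/-- A map normalising the action of `SL₂(F)` is semilinear. -/
theorem semilinear_of_normalise [Finite F] (f : (Fin 2 → F) ≃+ (Fin 2 → F))
    (h : ∀ s : SL(2, F), ∃ s' : SL(2, F), ∀ v, f (sl2v s' v) = sl2v s (f v)) :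
    ∃ φ : F ≃+* F, ∀ (c : F) v, f (c • v) = φ c • f v := by
  have key : ∀ c : F, ∃ d : F, ∀ v, f (c • v) = d • f v := by
    intro c
    let T : (Fin 2 → F) →+ (Fin 2 → F) :=
      AddMonoidHom.mk' (fun v => f (c • f.symm v)) fun a b => by
        rw [map_add, smul_add, map_add]
    obtain ⟨d, hd⟩ := scalar_of_commute_all T fun s v => by
      obtain ⟨s', hs'⟩ := h s
      have h1 : f.symm (sl2v s v) = sl2v s' (f.symm v) := by
        apply f.injective
        rw [hs', f.apply_symm_apply, f.apply_symm_apply]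
      show f (c • f.symm (sl2v s v)) = sl2v s (f (c • f.symm v))
      rw [h1, ← sl2v_smul, hs']
    refine ⟨d, fun v => ?_⟩
    have := hd (f v)
    show f (c • v) = d • f v
    rw [← this]
    show f (c • v) = f (c • f.symm (f v))
    rw [f.symm_apply_apply]
  choose d hd using key
  set v₀ : Fin 2 → F := f.symm ![1, 0] with hv₀
  have hne : f v₀ ≠ 0 := by
    rw [hv₀, f.apply_symm_apply]
    exact fun h => one_ne_zero (congrFun h 0 : (1 : F) = 0)
  have heq : ∀ {a b : F}, a • f v₀ = b • f v₀ → a = b := smul_vec_left_injective hne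
  let φ : F →+* F :=
    { toFun := d
      map_one' := heq (by rw [← hd, one_smul, one_smul])
      map_mul' := fun a b => heq (by rw [← hd, mul_smul, hd, hd, smul_smul])
      map_zero' := heq (by rw [← hd, zero_smul, zero_smul, map_zero])
      map_add' := fun a b => heq (by rw [← hd, add_smul, map_add, hd, hd, add_smul]) }
  exact ⟨RingEquiv.ofBijective φ (Finite.injective_iff_bijective.1 φ.injective), fun c v => hd c v⟩

/-- The fixed elements of a nontrivial automorphism are few. -/
theorem card_fixed_sq_le [Finite F] (φ : F ≃+* F) {ζ : F} (hζ : φ ζ ≠ ζ) :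
    Nat.card {c : F // φ c = c} * Nat.card {c : F // φ c = c} ≤ Nat.card F := by
  rw [← Nat.card_prod]
  refine Nat.card_le_card_of_injective (fun ab => (ab.1 : F) + (ab.2 : F) * ζ) ?_
  rintro ⟨a, b⟩ ⟨a', b'⟩ h
  simp only at h
  have h2 : (φ ζ - ζ) * ((b : F) - b') = 0 := by
    have h3 := congrArg φ h
    rw [map_add, map_add, map_mul, map_mul, a.2, b.2, a'.2, b'.2] at h3
    linear_combination h3 - h
  have hb : b = b' := Subtype.ext (sub_eq_zero.1 ((mul_eq_zero.1 h2).resolve_left (sub_ne_zero.2 hζ)))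
  subst hb
  simp only [add_left_inj] at h
  exact Prod.ext (Subtype.ext h) rfl

/-- A ring automorphism as an algebra automorphism over the prime field. -/
noncomputable def toGal (p : ℕ) [Fact p.Prime] [CharP F p] (φ : F ≃+* F) :
    letI := ZMod.algebra F p; F ≃ₐ[ZMod p] F :=
  letI := ZMod.algebra F p
  AlgEquiv.ofRingEquiv (f := φ) fun r =>
    RingHom.congr_fun (Subsingleton.elim (φ.toRingHom.comp (algebraMap (ZMod p) F))
      (algebraMap (ZMod p) F)) r

theorem toGal_apply (p : ℕ) [Fact p.Prime] [CharP F p] (φ : F ≃+* F) (x : F) :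
    letI := ZMod.algebra F p; toGal p φ x = φ x := rfl

/-- Automorphisms of a finite field commute. -/
theorem ringEquiv_comm [Finite F] (p : ℕ) [Fact p.Prime] [CharP F p] (φ ψ : F ≃+* F) (x : F) :
    φ (ψ x) = ψ (φ x) := by
  letI := ZMod.algebra F p
  obtain ⟨g, hg⟩ := IsCyclic.exists_generator (α := F ≃ₐ[ZMod p] F)
  obtain ⟨i, hi⟩ := hg (toGal p φ)
  obtain ⟨j, hj⟩ := hg (toGal p ψ)
  have : toGal p φ * toGal p ψ = toGal p ψ * toGal p φ := by
    rw [← hi, ← hj]
    exact ((Commute.refl g).zpow_zpow i j).eq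
  exact DFunLike.congr_fun this x

/-- At most `p` automorphisms have `φ^p = 1`. -/
theorem card_le_of_pow_eq_one [Finite F] (p : ℕ) [Fact p.Prime] [CharP F p] {ι : Type*} [Finite ι]
    (φ : ι → (F ≃+* F)) (hinj : Function.Injective φ) (h : ∀ i, φ i ^ p = 1) :
    Nat.card ι ≤ p := by
  letI := ZMod.algebra F p
  classical
  haveI := Fintype.ofFinite ι
  haveI : Finite (F ≃ₐ[ZMod p] F) := Finite.of_injective (fun e => (e : F → F)) DFunLike.coe_injective
  haveI := Fintype.ofFinite (F ≃ₐ[ZMod p] F)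
  have hpow : ∀ (i : ι) (n : ℕ), toGal p (φ i) ^ n = toGal p (φ i ^ n) := by
    intro i n
    induction n with
    | zero => exact AlgEquiv.ext fun x => rfl
    | succ n ih =>
      rw [pow_succ, pow_succ, ih]
      exact AlgEquiv.ext fun x => rfl
  refine le_trans ?_ (IsCyclic.card_pow_eq_one_le (α := F ≃ₐ[ZMod p] F) (Fact.out : p.Prime).pos)
  rw [Nat.card_eq_fintype_card]
  refine Finset.card_le_card_of_injOn (fun i => toGal p (φ i)) (fun i _ => ?_) ?_
  · simp only [Finset.mem_filter, Finset.mem_univ, true_and, Finset.coe_filter, Set.mem_setOf_eq]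
    rw [hpow, h i]
    exact AlgEquiv.ext fun x => rfl
  · intro i _ j _ hij
    exact hinj (RingEquiv.ext fun x => DFunLike.congr_fun hij x)

theorem sl2v_e0 {s : SL(2, F)} (h : sl2v s ![1, 0] = ![1, 0]) :
    ∃ c : F, sl2v s ![0, 1] = ![c, 1] ∧ s = H37.upper2 c := by
  have h0 : (s : Matrix (Fin 2) (Fin 2) F) 0 0 = 1 := by
    simpa [sl2v, Matrix.mulVec, dotProduct, Fin.sum_univ_two] using congrFun h 0
  have h1 : (s : Matrix (Fin 2) (Fin 2) F) 1 0 = 0 := by
    simpa [sl2v, Matrix.mulVec, dotProduct, Fin.sum_univ_two] using congrFun h 1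
  have hd := s.2
  rw [Matrix.det_fin_two, h0, h1, mul_zero, sub_zero, one_mul] at hd
  refine ⟨(s : Matrix (Fin 2) (Fin 2) F) 0 1, ?_, ?_⟩
  · ext i
    fin_cases i <;> simp [sl2v, Matrix.mulVec, dotProduct, Fin.sum_univ_two, hd]
  · apply Subtype.ext
    ext i j
    fin_cases i <;> fin_cases j <;> simp [H37.upper2, h0, h1, hd]

/-- An element of `SL₂(F)` taking `e₀` to a given vector. -/
theorem exists_sl2_e0 {v : Fin 2 → F} (hv : v ≠ 0) : ∃ g : SL(2, F), sl2v g ![1, 0] = v := by
  by_cases h0 : v 0 = 0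
  · have h1 : v 1 ≠ 0 := fun h => hv (funext fun i => by fin_cases i <;> simp [h0, h])
    refine ⟨⟨!![v 0, -(v 1)⁻¹; v 1, 0], by simp [Matrix.det_fin_two_of, h1]⟩, ?_⟩
    ext i
    fin_cases i <;> simp [sl2v, Matrix.mulVec, dotProduct, Fin.sum_univ_two]
  · refine ⟨⟨!![v 0, 0; v 1, (v 0)⁻¹], by simp [Matrix.det_fin_two_of, h0]⟩, ?_⟩
    ext i
    fin_cases i <;> simp [sl2v, Matrix.mulVec, dotProduct, Fin.sum_univ_two]

theorem transvection_pow {ι : Type*} [Fintype ι] [DecidableEq ι] {i j : ι} (hij : i ≠ j) (c : F)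
    (n : ℕ) : SpecialLinearGroup.transvection hij c ^ n = SpecialLinearGroup.transvection hij (n * c) := by
  induction n with
  | zero => simp
  | succ n ih =>
    rw [pow_succ, ih]
    apply Subtype.ext
    show Matrix.transvection i j ((n : F) * c) * Matrix.transvection i j c = Matrix.transvection i j _
    rw [Matrix.transvection_mul_transvection_same _ _ hij]
    push_cast
    congr 1
    ring

/-- `SL₂(F) / SL₂(F)'` has exponent `p`. -/
theorem pow_mem_commutator (p : ℕ) [CharP F p] (g : SL(2, F)) : g ^ p ∈ commutator SL(2, F) := by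
  let H : Subgroup SL(2, F) :=
    { carrier := {g | Abelianization.of g ^ p = 1}
      one_mem' := by simp
      mul_mem' := fun {a b} (ha : Abelianization.of a ^ p = 1) (hb : Abelianization.of b ^ p = 1) => by
        show Abelianization.of (a * b) ^ p = 1
        rw [map_mul, mul_pow, ha, hb, one_mul]
      inv_mem' := fun {a} (ha : Abelianization.of a ^ p = 1) => by
        show Abelianization.of a⁻¹ ^ p = 1
        rw [map_inv, inv_pow, ha, inv_one] }
  have hH : H = ⊤ := H37.eq_top_of_transvection_mem H fun i j hij c => by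
    show Abelianization.of _ ^ p = 1
    rw [← map_pow]
    convert map_one (Abelianization.of (G := SL(2, F))) using 2
    show SpecialLinearGroup.transvection hij c ^ p = 1
    rw [transvection_pow, CharP.cast_eq_zero, zero_mul, SpecialLinearGroup.transvection_coeff_zero]
  have hg : Abelianization.of g ^ p = 1 := (hH.ge trivial : g ∈ H)
  rw [← map_pow] at hg
  rw [← Abelianization.ker_of]
  exact hg

end H78.Block
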