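import Cfsg.Agent.H78.BlockEverySylow
import Cfsg.Agent.H78.BlockLinear

/-!
`B(G)` acts on a linear block as `SL₂(F)`.
-/

set_option autoImplicit false
set_option linter.unusedSectionVars false

open Subgroup
open scoped commutatorElement MatrixGroups

namespace H78.Block

variable {G : Type*} [Group G] [Finite G] {p : ℕ} [Fact p.Prime] {T T' : Sylow p G} {E : Subgroup G}

/-- An element of `N(E)` trivial on `W / Z` centralises `W_E`. -/
theorem centralizes_of_fix (hE : Cfsg.IsBaumannBlock p (T : Subgroup G) E) {y : G}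
    (hy : y ∈ normalizer (E : Set G))
    (h : ∀ w ∈ Cfsg.omegaOneCenter p (Cfsg.pCoreOf p E),
      ⁅y, w⁆ ∈ Cfsg.omegaOneCenter p (Cfsg.pCoreOf p E) ⊓ centralizer (E : Set G)) :
    y ∈ centralizer ((modE p E : Subgroup G) : Set G) := by
  have hf := facts_of_block hE
  set W := Cfsg.omegaOneCenter p (Cfsg.pCoreOf p E) with hW
  have hWn : ∀ {g w : G}, g ∈ normalizer (E : Set G) → w ∈ W → g * w * g⁻¹ ∈ W := fun hg hw =>
    H75.conj_mem_of_mem_normalizer (normalizer_E_le_normalizer_pCore_omega E hg) hw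
  have hWc : ∀ {u v : G}, u ∈ W → v ∈ W → Commute u v := fun hu hv =>
    omega_comm (omega_le_core E hu) hv
  -- `⁅y, e⁆ ∈ Q`
  have hye : ∀ e ∈ E, ⁅y, e⁆ ∈ Cfsg.pCoreOf p E := by
    intro e he
    have hc : ⁅y, e⁆ ∈ E := by
      rw [commutatorElement_def]
      exact mul_mem (H75.conj_mem_of_mem_normalizer hy he) (inv_mem he)
    refine mem_core_of_fix hE hc fun w hw => ?_
    -- `y` and `e` commute on `W / Z`
    have hn := normalizer_E_le_normalizer_Z (p := p) E
    have key : ∀ {v : G}, v ∈ W → ∀ {g : G}, g ∈ normalizer (E : Set G) →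
        (g * (y * v * y⁻¹ * v⁻¹) * g⁻¹) ∈ W ⊓ centralizer (E : Set G) := fun hv g hg =>
      H75.conj_mem_of_mem_normalizer (hn hg) (by simpa [commutatorElement_def] using h _ hv)
    set z := e⁻¹ * w * e with hz
    have hzW : z ∈ W := by
      have := hWn (le_normalizer (inv_mem he)) hw
      rwa [inv_inv] at this
    set u := y⁻¹ * z * y with hu
    have huW : u ∈ W := by
      have := hWn (inv_mem hy) hzW
      rwa [inv_inv] at this
    have e1 : ⁅⁅y, e⁆, w⁆ = (y * (e * u * e⁻¹) * y⁻¹) * w⁻¹ := by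
      simp [commutatorElement_def, hu, hz, mul_assoc]
    have h1 := key (hWn (le_normalizer he) huW) (g := 1) (one_mem _)
    have h2 := key huW (g := e) (le_normalizer he)
    rw [one_mul, inv_one, mul_one] at h1
    have h2' : w * (e * u * e⁻¹)⁻¹ ∈ W ⊓ centralizer (E : Set G) := by
      convert h2 using 1
      rw [hu, hz]; group
    rw [e1]
    have hab := hWc (hWn hy (hWn (le_normalizer he) huW)) (inv_mem (hWn (le_normalizer he) huW))
    have := mul_mem h1 (inv_mem h2')
    convert this using 1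
    group
  intro u hu
  have hyU : ∀ {v : G}, v ∈ modE p E → ⁅y, v⁆ ∈ modE p E := fun hv => by
    rw [commutatorElement_def]
    exact mul_mem (H75.conj_mem_of_mem_normalizer (normalizer_E_le_normalizer_modE E hy) hv) (inv_mem hv)
  let K : Subgroup G :=
    { carrier := {v | v ∈ modE p E ∧ Commute y v}
      one_mem' := ⟨one_mem _, Commute.one_right y⟩
      mul_mem' := fun {a b} ha hb => ⟨mul_mem ha.1 hb.1, ha.2.mul_right hb.2⟩
      inv_mem' := fun {a} ha => ⟨inv_mem ha.1, ha.2.inv_right⟩ }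
  have hK : ⁅modE p E, E⁆ ≤ K := by
    rw [commutator_le]
    intro v hv e he
    refine ⟨(H1.commutator_le_left_of_le_normalizer
      (le_normalizer.trans (normalizer_E_le_normalizer_modE E))) (commutator_mem_commutator hv he), ?_⟩
    have hc : ∀ {g : G}, g ∈ E → Commute g ⁅y, v⁆ := fun hg => (h v (hf.mod_le hv)).2 _ hg
    have hq : Commute ⁅y, e⁆ (y * v * y⁻¹) := omega_comm (hye e he)
      (hWn hy (hf.mod_le hv))
    refine mul_inv_eq_iff_eq_mul.1 ?_
    calc y * ⁅v, e⁆ * y⁻¹
        = (y * v * y⁻¹) * (⁅y, e⁆ * e) * (y * v * y⁻¹)⁻¹ * e⁻¹ * ⁅y, e⁆⁻¹ := by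
          simp [commutatorElement_def, mul_assoc]
      _ = ⁅y, e⁆ * ((y * v * y⁻¹) * e * (y * v * y⁻¹)⁻¹ * e⁻¹) * ⁅y, e⁆⁻¹ := by
          rw [← mul_assoc (y * v * y⁻¹), ← hq.eq]; group
      _ = ⁅y, e⁆ * ⁅v, e⁆ * ⁅y, e⁆⁻¹ := by
          have e2 : y * v * y⁻¹ = ⁅y, v⁆ * v := by simp [commutatorElement_def, mul_assoc]
          have h3 : Commute ⁅y, v⁆ (v * e * v⁻¹) :=
            ((hc (mul_mem (mul_mem (H75.pCoreOf_le E (omega_le_core E (hf.mod_le hv))) he)
              (inv_mem (H75.pCoreOf_le E (omega_le_core E (hf.mod_le hv)))))).symm)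
          rw [e2]
          congr 2
          calc ⁅y, v⁆ * v * e * (⁅y, v⁆ * v)⁻¹ * e⁻¹
              = ⁅y, v⁆ * (v * e * v⁻¹) * ⁅y, v⁆⁻¹ * e⁻¹ := by group
            _ = _ := by rw [h3.eq, mul_inv_cancel_right, commutatorElement_def]
      _ = ⁅v, e⁆ := by
          have hcW : ⁅v, e⁆ ∈ W := hf.mod_le ((H1.commutator_le_left_of_le_normalizer
            (le_normalizer.trans (normalizer_E_le_normalizer_modE E))) (commutator_mem_commutator hv he))
          rw [(omega_comm (hye e he) hcW).eq, mul_inv_cancel_right]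
  exact ((hK.trans le_rfl) (mod_le_commutator hE hu)).2.eq.symm

end H78.Block

namespace H78.Block

attribute [local instance] omegaCommGroup

variable {G : Type*} [Group G] [Finite G] {p : ℕ} [Fact p.Prime]

/-- A natural `SL₂(F)`-action of `E` on `W / Z` with coordinates. -/
structure LinData (p : ℕ) (F : Type) [Field F] (E : Subgroup G) where
  S : Sec G (Fin 2 → F)
  ρ : E →* SL(2, F)
  U_eq : S.U = Cfsg.omegaOneCenter p (Cfsg.pCoreOf p E)
  U₀_eq : S.U₀ = Cfsg.omegaOneCenter p (Cfsg.pCoreOf p E) ⊓ centralizer (E : Set G)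
  range : ρ.range = commutator SL(2, F)
  act : ∀ (e : E) (v : Fin 2 → F), S.act (e : G) v = sl2v (ρ e) v

namespace LinData

variable {F : Type} [Field F] [Finite F] {E : Subgroup G} (D : LinData p F E)

include D in
theorem nz {g : G} (hg : g ∈ normalizer (E : Set G)) : g ∈ D.S.Nz :=
  D.S.mem_Nz.2 ⟨D.U_eq ▸ normalizer_E_le_normalizer_pCore_omega E hg,
    D.U₀_eq ▸ normalizer_E_le_normalizer_Z E hg⟩

include D in
theorem mem_centralizer_of_act {T : Sylow p G} (hE : Cfsg.IsBaumannBlock p (T : Subgroup G) E) {y : G}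
    (hy : y ∈ normalizer (E : Set G)) (h : ∀ v, D.S.act y v = v) :
    y ∈ centralizer ((modE p E : Subgroup G) : Set G) :=
  centralizes_of_fix hE hy fun w hw => by
    have := ((D.S.mem_triv_iff (D.nz hy)).2 h).2 w (D.U_eq ▸ hw)
    rwa [D.U₀_eq] at this

include D in
theorem img_mem {T : Sylow p G} (hE : Cfsg.IsBaumannBlock p (T : Subgroup G) E) {u : G}
    (hu : u ∈ modE p E) : u ∈ D.S.U := D.U_eq ▸ (facts_of_block hE).mod_le hu

include D in
theorem semilinear {g : G} (hg : g ∈ normalizer (E : Set G)) :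
    ∃ φ : F ≃+* F, ∀ (c : F) v, D.S.act g (c • v) = φ c • D.S.act g v := by
  by_cases hsq : ∃ a : F, a ≠ 0 ∧ a ^ 2 ≠ 1
  · refine semilinear_of_normalise
      { toFun := D.S.act g
        invFun := D.S.act g⁻¹
        left_inv := D.S.act_inv_act (D.nz hg)
        right_inv := D.S.act_act_inv (D.nz hg)
        map_add' := D.S.act_add (D.nz hg) } fun s => ?_
    obtain ⟨e, rfl⟩ : s ∈ D.ρ.range := by
      rw [D.range, Cfsg.Agent.H9.commutator_SL_eq_top_of_square hsq]; trivial
    refine ⟨D.ρ ⟨g⁻¹ * e * g, H75.conj'_mem_of_mem_normalizer hg e.2⟩, fun v => ?_⟩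
    show D.S.act g (sl2v _ v) = sl2v _ (D.S.act g v)
    rw [← D.act, ← D.act, ← D.S.act_mul (D.nz hg)
      (D.nz (le_normalizer (H75.conj'_mem_of_mem_normalizer hg e.2))),
      ← D.S.act_mul (D.nz (le_normalizer e.2)) (D.nz hg)]
    congr 1
    show g * (g⁻¹ * e * g) = e * g
    group
  · exact ⟨RingEquiv.refl F, fun c v => map_smul_of_no_square hsq (D.S.actHom (D.nz hg)) c v⟩

/-- The field automorphism attached to an element of `N(E)`. -/
noncomputable def auto {g : G} (hg : g ∈ normalizer (E : Set G)) : F ≃+* F :=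
  Classical.choose (D.semilinear hg)

theorem auto_spec {g : G} (hg : g ∈ normalizer (E : Set G)) (c : F) (v : Fin 2 → F) :
    D.S.act g (c • v) = D.auto hg c • D.S.act g v :=
  Classical.choose_spec (D.semilinear hg) c v

theorem auto_unique {g : G} (hg : g ∈ normalizer (E : Set G)) {ψ : F → F}
    (h : ∀ (c : F) v, D.S.act g (c • v) = ψ c • D.S.act g v) (c : F) : D.auto hg c = ψ c := by
  refine smul_vec_left_injective (v := D.S.act g ![1, 0]) (fun h0 => ?_)
    ((D.auto_spec hg c ![1, 0]).symm.trans (h c ![1, 0]))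
  have h1 := congrArg (D.S.act g⁻¹) h0
  rw [D.S.act_inv_act (D.nz hg), D.S.act_zero (D.nz (inv_mem hg))] at h1
  exact one_ne_zero (congrFun h1 0 : (1 : F) = 0)

theorem auto_mul {g h : G} (hg : g ∈ normalizer (E : Set G)) (hh : h ∈ normalizer (E : Set G)) (c : F) :
    D.auto (mul_mem hg hh) c = D.auto hg (D.auto hh c) :=
  D.auto_unique (mul_mem hg hh) (ψ := fun c => D.auto hg (D.auto hh c)) (fun c v => by
    rw [D.S.act_mul (D.nz hg) (D.nz hh), D.S.act_mul (D.nz hg) (D.nz hh), D.auto_spec hh,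
      D.auto_spec hg]) c

theorem auto_pow {g : G} (hg : g ∈ normalizer (E : Set G)) (n : ℕ) (c : F) :
    D.auto (pow_mem hg n) c = (D.auto hg ^ n) c := by
  induction n generalizing c with
  | zero =>
    rw [show (D.auto hg ^ 0) c = c from rfl]
    exact D.auto_unique _ (ψ := fun c => c) (fun c v => by
      rw [pow_zero, D.S.act_one, D.S.act_one]) c
  | succ n ih =>
    rw [pow_succ (D.auto hg) n]
    show _ = (D.auto hg ^ n) (D.auto hg c)
    rw [← ih, ← D.auto_mul (pow_mem hg n) hg]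
    exact D.auto_unique _ (ψ := fun c => D.auto (mul_mem (pow_mem hg n) hg) c)
      (fun c v => by
        rw [pow_succ]; exact D.auto_spec (mul_mem (pow_mem hg n) hg) c v) c

/-- Change of coordinates. -/
noncomputable def conjSec (h : SL(2, F)) : Sec G (Fin 2 → F) where
  U := D.S.U
  U₀ := D.S.U₀
  ψ :=
    { toFun := fun u => Multiplicative.ofAdd (sl2v h (Multiplicative.toAdd (D.S.ψ u)))
      map_one' := by simp [sl2v]
      map_mul' := fun a b => congrArg Multiplicative.ofAdd (by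
        rw [map_mul, toAdd_mul]; exact Matrix.mulVec_add _ _ _) }
  surj a := by
    obtain ⟨u, hu⟩ := D.S.surj (Multiplicative.ofAdd (sl2v h⁻¹ (Multiplicative.toAdd a)))
    exact ⟨u, by simp [hu, sl2v_apply_inv]⟩
  ker u := by
    rw [← D.S.ker u]
    change sl2v h (Multiplicative.toAdd (D.S.ψ u)) = 0 ↔ Multiplicative.toAdd (D.S.ψ u) = 0
    refine ⟨fun h0 => ?_, fun h0 => by rw [h0]; simp [sl2v]⟩
    rw [← sl2v_inv_apply h (Multiplicative.toAdd (D.S.ψ u)), h0]
    simp [sl2v]

theorem conjSec_img (h : SL(2, F)) {u : G} (hu : u ∈ D.S.U) :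
    (D.conjSec h).img u = sl2v h (D.S.img u) := by
  rw [(D.conjSec h).img_apply (show u ∈ (D.conjSec h).U from hu), D.S.img_apply hu]
  rfl

/-- Change of coordinates. -/
noncomputable def conjCoord (h : SL(2, F)) : LinData p F E where
  S := D.conjSec h
  ρ := (MulAut.conj h).toMonoidHom.comp D.ρ
  U_eq := D.U_eq
  U₀_eq := D.U₀_eq
  range := by
    rw [MonoidHom.range_comp, D.range, _root_.commutator_def, map_commutator,
      ← MonoidHom.range_eq_map, MonoidHom.range_eq_top.2 (MulAut.conj h).surjective]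
  act e v := by
    obtain ⟨u, hu, rfl⟩ := (D.conjSec h).exists_img v
    have hen : (e : G) ∈ (D.conjSec h).Nz := D.nz (le_normalizer e.2)
    rw [(D.conjSec h).act_img hen hu]
    have hu' : u ∈ D.S.U := hu
    have hcu : (e : G) * u * (e : G)⁻¹ ∈ D.S.U :=
      H75.conj_mem_of_mem_normalizer (D.S.mem_Nz.1 (D.nz (le_normalizer e.2))).1 hu'
    rw [D.conjSec_img h hcu, D.conjSec_img h hu', ← D.S.act_img (D.nz (le_normalizer e.2)) hu', D.act]
    show _ = sl2v (h * D.ρ e * h⁻¹) _
    rw [sl2v_mul, sl2v_mul, sl2v_inv_apply]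

theorem exists_normalised {v : Fin 2 → F} (hv : v ≠ 0) :
    ∃ h : SL(2, F), sl2v h v = ![1, 0] := by
  obtain ⟨g, hg⟩ := exists_sl2_e0 hv
  exact ⟨g⁻¹, by rw [← hg, sl2v_inv_apply]⟩

theorem conjCoord_img {h : SL(2, F)} {u : G} (hu : u ∈ D.S.U) :
    (D.conjCoord h).S.img u = sl2v h (D.S.img u) := D.conjSec_img h hu

variable [CharP F p] {T T' : Sylow p G}

/-- A largest elementary abelian subgroup acts linearly. -/
theorem auto_maxEl (hG : centralizer (Cfsg.pCore p G : Set G) ≤ Cfsg.pCore p G)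
    (hE : Cfsg.IsBaumannBlock p (T : Subgroup G) E) (hEs : E.IsSubnormal) {A : Subgroup G}
    (hA : A ∈ maxEl p (T' : Subgroup G)) {a : G} (ha : a ∈ A) (c : F) :
    D.auto (maxEl_normalises hG hE hEs hA ha) c = c := by
  by_contra hne
  have hAN := maxEl_normalises hG hE hEs hA
  obtain ⟨x, hxU, hxE, hxR⟩ := exists_fixed hG hE hEs T'
  have hf := facts_of_block hE
  set V := Cfsg.omegaOneCenter p (Cfsg.pCore p G) with hV
  have hUV : modE p E ≤ V := hf.mod_le_omega hG (pCore_le_normalizer hE)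
  have himg0 : D.S.img x ≠ 0 := fun h0 => hxE (by
    have := (D.S.img_eq_zero (D.img_mem hE hxU)).1 h0
    rw [D.U₀_eq] at this
    exact this.2)
  obtain ⟨h, hh⟩ := exists_normalised himg0
  set D' := D.conjCoord h with hD'
  have hx0 : D'.S.img x = ![1, 0] := (D.conjCoord_img (D.img_mem hE hxU)).trans hh
  have hauto : ∀ {g : G} (hg : g ∈ normalizer (E : Set G)) (c : F), D'.auto hg c = D.auto hg c := by
    intro g hg c
    refine D'.auto_unique hg (fun c v => ?_) c
    obtain ⟨u, hu, rfl⟩ := D'.S.exists_img v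
    obtain ⟨w, hw, hwe⟩ := D.S.exists_img (c • D.S.img u)
    have hu' : u ∈ D.S.U := hu
    have e1 : D'.S.img w = c • D'.S.img u := by
      rw [D.conjCoord_img hw, D.conjCoord_img hu', hwe, sl2v_smul]
    have hgw : g * w * g⁻¹ ∈ D.S.U := H75.conj_mem_of_mem_normalizer (D.S.mem_Nz.1 (D.nz hg)).1 hw
    have hgu : g * u * g⁻¹ ∈ D.S.U := H75.conj_mem_of_mem_normalizer (D.S.mem_Nz.1 (D.nz hg)).1 hu'
    rw [← e1, D'.S.act_img (D'.nz hg) hw, D'.S.act_img (D'.nz hg) hu, D.conjCoord_img hgw,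
      D.conjCoord_img hgu, ← D.S.act_img (D.nz hg) hw, hwe, D.auto_spec hg, sl2v_smul,
      D.S.act_img (D.nz hg) hu']
  rw [← hauto (hAN ha)] at hne
  set φ := D'.auto (hAN ha) with hφ
  -- all of `A` fixes `e₀`
  have hfix0 : ∀ {b : G}, b ∈ A → D'.S.act b ![1, 0] = ![1, 0] := fun {b} hb => by
    rw [← hx0, D'.S.act_img (D'.nz (hAN hb)) (D'.img_mem hE hxU),
      hxR b ⟨hA.1 hb, hAN hb⟩, mul_inv_cancel_right]
  have hab : ∀ {b b' : G}, b ∈ A → b' ∈ A → Commute b b' := fun hb hb' =>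
    H11.comm_of_mulCommutative hA.2.1.1 hb hb'
  haveI : IsMulCommutative A := hA.2.1.1
  -- the linear part and the kernel
  let K : Subgroup G :=
    { carrier := {b | b ∈ A ∧ ∀ (c : F) v, D'.S.act b (c • v) = c • D'.S.act b v}
      one_mem' := ⟨one_mem _, fun c v => by rw [D'.S.act_one, D'.S.act_one]⟩
      mul_mem' := fun {b b'} hb hb' => ⟨mul_mem hb.1 hb'.1, fun c v => by
        rw [D'.S.act_mul (D'.nz (hAN hb.1)) (D'.nz (hAN hb'.1)),
          D'.S.act_mul (D'.nz (hAN hb.1)) (D'.nz (hAN hb'.1)), hb'.2, hb.2]⟩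
      inv_mem' := fun {b} hb => ⟨inv_mem hb.1, fun c v => by
        have hn := D'.nz (hAN hb.1)
        conv_lhs => rw [← D'.S.act_act_inv hn v, ← hb.2, D'.S.act_inv_act hn]⟩ }
  set C1 := A ⊓ centralizer ((modE p E : Subgroup G) : Set G) with hC1
  set e₁ : Fin 2 → F := ![0, 1] with he₁
  have hcoef : ∀ {b : G}, b ∈ K → ∀ v : Fin 2 → F,
      D'.S.act b v = v 0 • ![1, 0] + v 1 • D'.S.act b e₁ := by
    intro b hb v
    conv_lhs => rw [show v = v 0 • (![1, 0] : Fin 2 → F) + v 1 • e₁ by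
      ext i; fin_cases i <;> simp [he₁]]
    rw [D'.S.act_add (D'.nz (hAN hb.1)), hb.2, hb.2, hfix0 hb.1]
  -- the image of `e₁` under the linear part
  have hlin1 : ∀ {b : G}, b ∈ K → ∃ r : F, D'.S.act b e₁ = ![r, 1] := by
    intro b hb
    set y := D'.S.act b e₁ with hy
    have hbp : b ^ p = 1 := hA.2.1.2 b hb.1
    have hiter : ∀ n : ℕ, D'.S.act (b ^ n) e₁ 1 = y 1 ^ n := by
      intro n
      induction n with
      | zero => rw [pow_zero, D'.S.act_one]; simp [he₁]
      | succ n ih =>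
        rw [pow_succ', D'.S.act_mul (D'.nz (hAN hb.1)) (D'.nz (pow_mem (hAN hb.1) n)), hcoef hb]
        rw [Pi.add_apply, Pi.smul_apply, Pi.smul_apply, ← hy, ih]
        simp [pow_succ]
    have h1 := hiter p
    rw [hbp, D'.S.act_one] at h1
    have h2 : y 1 = 1 := by
      haveI : Fact p.Prime := inferInstance
      refine sub_eq_zero.1 (eq_zero_of_pow_eq_zero (n := p) ?_)
      rw [sub_pow_char, one_pow, ← h1]
      simp [he₁]
    exact ⟨y 0, by ext i; fin_cases i <;> simp [h2]⟩
  let r : G → F := fun b => D'.S.act b e₁ 0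
  have hr : ∀ {b : G}, b ∈ K → D'.S.act b e₁ = ![r b, 1] := fun {b} hb => by
    obtain ⟨t, ht⟩ := hlin1 hb
    show _ = ![D'.S.act b e₁ 0, 1]
    rw [ht]
    simp
  set α := D'.S.act a e₁ with hα
  have hα1 : α 1 ≠ 0 := by
    intro h0
    have hαe : α = α 0 • ![1, 0] := by ext i; fin_cases i <;> simp [h0]
    have h1 : D'.S.act a (φ.symm (α 0) • ![1, 0]) = α := by
      rw [D'.auto_spec (hAN ha), hfix0 ha, ← hφ, φ.apply_symm_apply, ← hαe]
    have h2 := congrArg (D'.S.act a⁻¹) h1
    rw [D'.S.act_inv_act (D'.nz (hAN ha)), hα, D'.S.act_inv_act (D'.nz (hAN ha))] at h2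
    have := congrFun h2 1
    simp [he₁] at this
  -- `a` forces the coefficients into a translate of the fixed field
  have hr0 : ∀ {b : G}, b ∈ K → φ (r b) = α 1 * r b := by
    intro b hb
    have h1 : D'.S.act a (D'.S.act b e₁) = D'.S.act b (D'.S.act a e₁) := by
      rw [← D'.S.act_mul (D'.nz (hAN ha)) (D'.nz (hAN hb.1)), (hab ha hb.1).eq,
        D'.S.act_mul (D'.nz (hAN hb.1)) (D'.nz (hAN ha))]
    rw [← hα, hcoef hb α, hr hb, show (![r b, 1] : Fin 2 → F) = r b • ![1, 0] + e₁ by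
      ext i; fin_cases i <;> simp [he₁], D'.S.act_add (D'.nz (hAN ha)), D'.auto_spec (hAN ha),
      hfix0 ha, ← hα, ← hφ] at h1
    have := congrFun h1 0
    simp [he₁] at this
    linear_combination this
  let F0 := {c : F // φ c = c}
  have hζ : φ c ≠ c := hne
  -- linear part modulo `C₁` is small
  have hKC : Nat.card (K : Subgroup G) ≤ Nat.card F0 * Nat.card C1 ∧
      ((∀ b ∈ K, r b = 0) → Nat.card (K : Subgroup G) ≤ Nat.card C1) := by
    have hinjK : ∀ {b b' : G}, b ∈ K → b' ∈ K → r b = r b' → b⁻¹ * b' ∈ C1 := by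
      intro b b' hb hb' hrr
      refine mem_inf.2 ⟨mul_mem (inv_mem hb.1) hb'.1,
        D'.mem_centralizer_of_act hE (mul_mem (inv_mem (hAN hb.1)) (hAN hb'.1)) fun v => ?_⟩
      rw [D'.S.act_mul (D'.nz (inv_mem (hAN hb.1))) (D'.nz (hAN hb'.1)), hcoef hb', hr hb', ← hrr,
        ← hr hb, ← hcoef hb, D'.S.act_inv_act (D'.nz (hAN hb.1))]
    have hC1K : C1 ≤ K := fun b hb => ⟨hb.1, fun c v => by
      have htriv : b ∈ D'.S.triv := ⟨D'.nz (hAN hb.1), fun w hw => by
        rw [D'.U_eq, ← hf.mod_sup] at hw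
        rw [D'.U₀_eq]
        rw [← SetLike.mem_coe, coe_mul_of_left_le_normalizer_right _ _ (fun y hy =>
          normalizer_E_le_normalizer_Z E (le_normalizer (H75.pCoreOf_le E (omega_le_core E (hf.mod_le hy)))))] at hw
        obtain ⟨u, hu, z, hz, rfl⟩ := hw
        rw [show ⁅b, u * z⁆ = ⁅b, u⁆ * (u * ⁅b, z⁆ * u⁻¹) by simp [commutatorElement_def, mul_assoc],
          commutatorElement_eq_one_iff_mul_comm.2 (hb.2 u hu).symm, one_mul]
        refine H75.conj_mem_of_mem_normalizer (normalizer_E_le_normalizer_Z E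
          (le_normalizer (H75.pCoreOf_le E (omega_le_core E (hf.mod_le hu))))) ?_
        exact mul_mem (H75.conj_mem_of_mem_normalizer (normalizer_E_le_normalizer_Z E (hAN hb.1)) hz)
          (inv_mem hz)⟩
      rw [D'.S.act_of_mem_triv htriv, D'.S.act_of_mem_triv htriv]⟩
    have hcard : ∀ {N : Type} [Finite N] (f : K → N),
        (∀ b b' : K, f b = f b' → r (b : G) = r (b' : G)) →
        Nat.card (K : Subgroup G) ≤ Nat.card N * Nat.card C1 := by
      intro N _ f hfib
      rw [card_eq_card_quotient_mul_card_subgroup (C1.subgroupOf K),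
        Nat.card_congr (Subgroup.subgroupOfEquivOfLe hC1K).toEquiv]
      refine Nat.mul_le_mul_right _ (Nat.card_le_card_of_injective (fun q => f q.out) fun q q' h => ?_)
      rw [← QuotientGroup.out_eq' q, ← QuotientGroup.out_eq' q']
      exact QuotientGroup.eq.2 (mem_subgroupOf.2 (hinjK q.out.2 q'.out.2 (hfib _ _ h)))
    refine ⟨?_, fun h0 => ?_⟩
    · by_cases hall : ∀ b ∈ K, r b = 0
      · refine (hcard (N := F0) (fun _ => ⟨0, map_zero φ⟩) fun b b' _ => ?_)
        rw [hall _ b.2, hall _ b'.2]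
      push Not at hall
      obtain ⟨b₀, hb₀, hrb₀⟩ := hall
      refine hcard (N := F0) (fun b => ⟨r (b : G) / r b₀, ?_⟩) fun b b' h => ?_
      · rw [map_div₀, hr0 b.2, hr0 hb₀, mul_div_mul_left _ _ hα1]
      · exact (div_left_inj' hrb₀).1 (congrArg Subtype.val h)
    · have := hcard (N := Unit) (fun _ => ()) fun b b' _ => by rw [h0 _ b.2, h0 _ b'.2]
      simpa using this
  -- `|A : K| ≤ p`
  have hKA : K ≤ A := fun b hb => hb.1
  have hAK : Nat.card A ≤ p * Nat.card (K : Subgroup G) := by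
    rw [card_eq_card_quotient_mul_card_subgroup (K.subgroupOf A),
      Nat.card_congr (Subgroup.subgroupOfEquivOfLe hKA).toEquiv]
    refine Nat.mul_le_mul_right _ ?_
    refine card_le_of_pow_eq_one p (fun q : A ⧸ K.subgroupOf A => D'.auto (hAN q.out.2)) ?_ fun q => ?_
    · intro q q' hqq
      rw [← QuotientGroup.out_eq' q, ← QuotientGroup.out_eq' q']
      refine QuotientGroup.eq.2 (mem_subgroupOf.2 ⟨(q.out⁻¹ * q'.out).2, fun c v => ?_⟩)
      have hn := D'.nz (hAN q.out.2)
      have hn' := D'.nz (hAN q'.out.2)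
      show D'.S.act ((q.out : G)⁻¹ * (q'.out : G)) (c • v) =
        c • D'.S.act ((q.out : G)⁻¹ * (q'.out : G)) v
      rw [D'.S.act_mul (inv_mem hn) hn', D'.S.act_mul (inv_mem hn) hn', D'.auto_spec (hAN q'.out.2)]
      have hqq' : D'.auto (hAN q'.out.2) c = D'.auto (hAN q.out.2) c := by
        have := RingEquiv.congr_fun hqq c
        exact this.symm
      rw [hqq']
      conv_lhs => rw [← D'.S.act_act_inv hn (D'.S.act (q'.out : G) v), ← D'.auto_spec (hAN q.out.2),
        D'.S.act_inv_act hn]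
    · refine RingEquiv.ext fun c => ?_
      show (D'.auto (hAN q.out.2) ^ p) c = c
      rw [← D'.auto_pow]
      refine D'.auto_unique _ (ψ := fun c => c) (fun c v => ?_) c
      rw [hA.2.1.2 _ q.out.2, D'.S.act_one, D'.S.act_one]
  -- the fixed points
  let U := (modE p E : Subgroup G)
  let Zu : Subgroup G := U ⊓ centralizer (E : Set G)
  let I := {v : Fin 2 → F // ∀ b ∈ A, D'.S.act b v = v}
  have hCU : Nat.card (U ⊓ centralizer (A : Set G) : Subgroup G) ≤ Nat.card I * Nat.card Zu := by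
    rw [← Nat.card_prod]
    let f : (U ⊓ centralizer (A : Set G) : Subgroup G) → I := fun u => ⟨D'.S.img u, fun b hb => by
      rw [D'.S.act_img (D'.nz (hAN hb)) (D'.img_mem hE u.2.1), u.2.2 b hb, mul_inv_cancel_right]⟩
    classical
    let sel : I → G := fun i => if hi : ∃ u, f u = i then Subtype.val (Classical.choose hi) else 1
    have hsel : ∀ u, (sel (f u))⁻¹ * (u : G) ∈ Zu := fun u => by
      have hi : ∃ u', f u' = f u := ⟨u, rfl⟩
      simp only [sel, dif_pos hi]
      set u' := Classical.choose hi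
      have hu' : D'.S.img u' = D'.S.img u := congrArg Subtype.val (Classical.choose_spec hi)
      have h1 := (D'.S.img_eq_zero (mul_mem (inv_mem (D'.img_mem hE u'.2.1)) (D'.img_mem hE u.2.1))).1 (by
        rw [D'.S.img_mul (inv_mem (D'.img_mem hE u'.2.1)) (D'.img_mem hE u.2.1),
          D'.S.img_inv (D'.img_mem hE u'.2.1), hu', neg_add_cancel])
      rw [D'.U₀_eq] at h1
      exact mem_inf.2 ⟨mul_mem (inv_mem u'.2.1) u.2.1, h1.2⟩
    refine Nat.card_le_card_of_injective (fun u => (f u, (⟨_, hsel u⟩ : Zu))) fun u u' h => ?_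
    obtain ⟨h1, h2⟩ := Prod.ext_iff.1 h
    have h3 : (sel (f u))⁻¹ * (u : G) = (sel (f u'))⁻¹ * (u' : G) := congrArg Subtype.val h2
    rw [show f u = f u' from h1] at h3
    exact Subtype.ext (mul_left_cancel h3)
  have hUcard : Nat.card U = Nat.card F * Nat.card F * Nat.card Zu := by
    let f : U →* Multiplicative (Fin 2 → F) :=
      { toFun := fun u => Multiplicative.ofAdd (D'.S.img u)
        map_one' := by rw [OneMemClass.coe_one, D'.S.img_one]; rfl
        map_mul' := fun u v => by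
          rw [Subgroup.coe_mul, D'.S.img_mul (D'.img_mem hE u.2) (D'.img_mem hE v.2)]; rfl }
    have hsurj : Function.Surjective f := fun v => by
      obtain ⟨w, hw, hwv⟩ := D'.S.exists_img (Multiplicative.toAdd v)
      have hw' := hw
      rw [D'.U_eq, ← hf.mod_sup, ← SetLike.mem_coe, coe_mul_of_left_le_normalizer_right _ _ (fun y hy =>
          normalizer_E_le_normalizer_Z E (le_normalizer (H75.pCoreOf_le E (omega_le_core E (hf.mod_le hy)))))] at hw'
      obtain ⟨u, hu, z, hz, rfl⟩ := hw'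
      refine ⟨⟨u, hu⟩, Multiplicative.toAdd.injective ?_⟩
      show D'.S.img u = _
      have hzU : z ∈ D'.S.U := D'.U_eq ▸ hz.1
      rw [← hwv, D'.S.img_mul (D'.img_mem hE hu) hzU,
        (D'.S.img_eq_zero hzU).2 (D'.U₀_eq ▸ hz), add_zero]
    have hk : f.ker = Zu.subgroupOf U := by
      ext u
      rw [MonoidHom.mem_ker, mem_subgroupOf]
      show Multiplicative.ofAdd (D'.S.img (u : G)) = 1 ↔ _
      rw [ofAdd_eq_one, D'.S.img_eq_zero (D'.img_mem hE u.2), D'.U₀_eq]
      exact ⟨fun h => ⟨u.2, h.2⟩, fun h => ⟨hf.mod_le u.2, h.2⟩⟩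
    rw [card_eq_card_quotient_mul_card_subgroup f.ker,
      Nat.card_congr (QuotientGroup.quotientKerEquivOfSurjective f hsurj).toEquiv, hk,
      Nat.card_congr (Subgroup.subgroupOfEquivOfLe (inf_le_left : Zu ≤ U)).toEquiv,
      Nat.card_congr Multiplicative.toAdd, Nat.card_fun, Nat.card_fin, pow_two]
  -- the offender inequality
  have hoff : Nat.card C1 * Nat.card U ≤ Nat.card A * Nat.card (U ⊓ centralizer (A : Set G) : Subgroup G) := by
    have hw := weight_le hA (inf_le_left : C1 ≤ A)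
    set CA := V ⊓ centralizer (A : Set G) with hCA
    set CB := V ⊓ centralizer (C1 : Set G) with hCB
    have hcap : U ⊓ CA = U ⊓ centralizer (A : Set G) := by
      rw [hCA, ← inf_assoc, inf_eq_left.2 hUV]
    have hsup : Nat.card (U ⊔ CA : Subgroup G) ≤ Nat.card CB :=
      card_le_of_le (sup_le (le_inf hUV fun u hu b hb => (hb.2 u hu).symm)
        (inf_le_inf_left _ (centralizer_le (SetLike.coe_subset_coe.2 inf_le_left))))
    have hnorm : U ≤ normalizer (CA : Set G) := fun u hu => by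
      refine centralizer_le_normalizer _ fun y hy => (omega_pCore_comm hy.1 (hUV hu)).eq
    have hmul := H10.card_mul_card_inf (H := U) (K := CA) hnorm
    rw [hcap] at hmul
    refine Nat.le_of_mul_le_mul_right ?_ (Nat.card_pos (α := CA))
    calc Nat.card C1 * Nat.card U * Nat.card CA
        = Nat.card C1 * (Nat.card (U ⊔ CA : Subgroup G) *
            Nat.card (U ⊓ centralizer (A : Set G) : Subgroup G)) := by rw [hmul]; ring
      _ ≤ Nat.card C1 * Nat.card CB * Nat.card (U ⊓ centralizer (A : Set G) : Subgroup G) := by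
          rw [mul_assoc]
          exact Nat.mul_le_mul_left _ (Nat.mul_le_mul_right _ hsup)
      _ ≤ Nat.card A * Nat.card CA * _ := Nat.mul_le_mul_right _ hw
      _ = _ := by ring
  have hI : Nat.card (K : Subgroup G) * Nat.card I ≤ Nat.card F * Nat.card C1 := by
    have hsq := card_fixed_sq_le φ hζ
    by_cases hall : ∀ b ∈ K, r b = 0
    · refine le_trans (Nat.mul_le_mul (hKC.2 hall) (le_refl _)) ?_
      rw [mul_comm]
      refine Nat.mul_le_mul_right _ (le_trans ?_ hsq)
      rw [← Nat.card_prod]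
      -- coordinates of fixed vectors
      let J := {t : F // φ t * α 1 = t}
      have hI1 : ∀ i : I, φ (i.1 1) * α 1 = i.1 1 ∧ φ (i.1 0) + φ (i.1 1) * α 0 = i.1 0 := by
        intro i
        have h := i.2 a ha
        conv_lhs at h => rw [show i.1 = i.1 0 • (![1, 0] : Fin 2 → F) + i.1 1 • e₁ by
          ext j; fin_cases j <;> simp [he₁]]
        rw [D'.S.act_add (D'.nz (hAN ha)), D'.auto_spec (hAN ha), D'.auto_spec (hAN ha), hfix0 ha,
          ← hφ, ← hα] at h
        have h1 := congrFun h 1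
        have h0 := congrFun h 0
        simp at h0 h1
        exact ⟨h1, h0⟩
      have hJ : Nat.card J ≤ Nat.card F0 := by
        by_cases hz : ∀ t : J, (t : F) = 0
        · exact Nat.card_le_card_of_injective (fun _ => (⟨0, map_zero φ⟩ : F0))
            fun t t' _ => Subtype.ext ((hz t).trans (hz t').symm)
        push Not at hz
        obtain ⟨t₀, ht₀⟩ := hz
        refine Nat.card_le_card_of_injective (fun t => (⟨(t : F) / t₀, ?_⟩ : F0)) fun t t' h => ?_
        · rw [map_div₀]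
          conv_rhs => rw [← t.2, ← t₀.2]
          rw [mul_div_mul_right _ _ hα1]
        · exact Subtype.ext ((div_left_inj' ht₀).1 (congrArg Subtype.val h))
      classical
      let sel : J → F := fun t => if hi : ∃ i : I, i.1 1 = t then (Classical.choose hi).1 0 else 0
      refine le_trans ?_ (le_of_le_of_eq (Nat.mul_le_mul_right _ hJ) (Nat.card_prod _ _).symm)
      rw [← Nat.card_prod]
      refine Nat.card_le_card_of_injective (fun i : I =>
        ((⟨i.1 1, (hI1 i).1⟩ : J), (⟨i.1 0 - sel ⟨i.1 1, (hI1 i).1⟩, ?_⟩ : F0))) fun i i' h => ?_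
      · have hi : ∃ i' : I, i'.1 1 = i.1 1 := ⟨i, rfl⟩
        simp only [sel, dif_pos hi]
        set i' := Classical.choose hi
        have he : i'.1 1 = i.1 1 := Classical.choose_spec hi
        rw [map_sub]
        have h0 := (hI1 i).2
        have h0' := (hI1 i').2
        rw [he] at h0'
        linear_combination h0 - h0'
      · obtain ⟨h1, h2⟩ := Prod.ext_iff.1 h
        have h1' : i.1 1 = i'.1 1 := congrArg Subtype.val h1
        have h2' := congrArg Subtype.val h2
        simp only at h2'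
        refine Subtype.ext (funext fun j => ?_)
        fin_cases j
        · simp only [Fin.zero_eta, Fin.isValue]
          have hsel : sel ⟨i.1 1, (hI1 i).1⟩ = sel ⟨i'.1 1, (hI1 i').1⟩ := congrArg sel (Subtype.ext h1')
          linear_combination h2' + hsel
        · exact h1'
    · push Not at hall
      obtain ⟨b₀, hb₀, hrb₀⟩ := hall
      have hI0 : Nat.card I ≤ Nat.card F0 := by
        have hi1 : ∀ i : I, i.1 1 = 0 := fun i => by
          have h := i.2 b₀ hb₀.1
          rw [hcoef hb₀, hr hb₀] at h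
          have h0 := congrFun h 0
          simp at h0
          exact h0.resolve_right hrb₀
        refine Nat.card_le_card_of_injective (fun i : I => (⟨i.1 0, ?_⟩ : F0)) fun i i' h => ?_
        · have h := i.2 a ha
          have hi : i.1 = i.1 0 • (![1, 0] : Fin 2 → F) := by
            ext j; fin_cases j <;> simp [hi1 i]
          conv_lhs at h => rw [hi]
          rw [D'.auto_spec (hAN ha), hfix0 ha, ← hφ] at h
          have h0 := congrFun h 0
          simpa using h0
        · refine Subtype.ext (funext fun j => ?_)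
          fin_cases j
          · exact congrArg Subtype.val h
          · exact (hi1 i).trans (hi1 i').symm
      calc Nat.card (K : Subgroup G) * Nat.card I ≤ Nat.card F0 * Nat.card C1 * Nat.card F0 :=
            Nat.mul_le_mul hKC.1 hI0
        _ = Nat.card F0 * Nat.card F0 * Nat.card C1 := by ring
        _ ≤ _ := Nat.mul_le_mul_right _ hsq
  have hp2 : p * p ≤ Nat.card F := by
    refine le_trans ?_ (card_fixed_sq_le φ hζ)
    have hz : p ≤ Nat.card F0 := by
      conv_lhs => rw [← Nat.card_zmod p]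
      refine Nat.card_le_card_of_injective (fun z : ZMod p => (⟨ZMod.castHom dvd_rfl F z, ?_⟩ : F0))
        fun z z' h => (ZMod.castHom dvd_rfl F).injective (congrArg Subtype.val h)
      exact RingHom.congr_fun (Subsingleton.elim (φ.toRingHom.comp (ZMod.castHom dvd_rfl F))
        (ZMod.castHom dvd_rfl F)) z
    exact Nat.mul_le_mul hz hz
  have hfin : Nat.card F * Nat.card F ≤ p * Nat.card F := by
    refine Nat.le_of_mul_le_mul_right ?_ (Nat.mul_pos (Nat.card_pos (α := C1)) (Nat.card_pos (α := Zu)))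
    calc Nat.card F * Nat.card F * (Nat.card C1 * Nat.card Zu) = Nat.card C1 * Nat.card U := by
          rw [hUcard]; ring
      _ ≤ _ := hoff
      _ ≤ (p * Nat.card (K : Subgroup G)) * (Nat.card I * Nat.card Zu) := Nat.mul_le_mul hAK hCU
      _ = p * (Nat.card (K : Subgroup G) * Nat.card I) * Nat.card Zu := by ring
      _ ≤ p * (Nat.card F * Nat.card C1) * Nat.card Zu :=
          Nat.mul_le_mul_right _ (Nat.mul_le_mul_left _ hI)
      _ = _ := by ring
  have h1 := Nat.le_of_mul_le_mul_right hfin (Nat.card_pos (α := F))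
  have h2 := Nat.le_of_mul_le_mul_left (hp2.trans (h1.trans (mul_one p).ge)) (Fact.out : p.Prime).pos
  exact absurd h2 (not_le.2 (Fact.out : p.Prime).one_lt)

/-- `B(T')` acts linearly. -/
theorem auto_baumann (hG : centralizer (Cfsg.pCore p G : Set G) ≤ Cfsg.pCore p G)
    (hE : Cfsg.IsBaumannBlock p (T : Subgroup G) E) (hEs : E.IsSubnormal) {b : G}
    (hb : b ∈ Cfsg.baumannSubgroupOf p (T' : Subgroup G)) (c : F) :
    D.auto (baumannOf_le_normalizer hG hE hEs T' hb) c = c := by
  have hbN := baumannOf_le_normalizer hG hE hEs T' hb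
  by_cases hsq : ∃ a : F, a ≠ 0 ∧ a ^ 2 ≠ 1
  swap
  · exact D.auto_unique hbN (ψ := fun c => c)
      (fun c v => map_smul_of_no_square hsq (D.S.actHom (D.nz hbN)) c v) c
  rcases eq_or_ne c 0 with rfl | hc0
  · exact map_zero _
  obtain ⟨x, hxU, hxE, hxR⟩ := exists_fixed hG hE hEs T'
  have hf := facts_of_block hE
  have hUV : modE p E ≤ Cfsg.omegaOneCenter p (Cfsg.pCore p G) := hf.mod_le_omega hG (pCore_le_normalizer hE)
  have hxS := D.img_mem hE hxU
  have himg0 : D.S.img x ≠ 0 := fun h0 => hxE (by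
    have := (D.S.img_eq_zero hxS).1 h0
    rw [D.U₀_eq] at this
    exact this.2)
  set v := D.S.img x with hv
  -- an element of `E` multiplying `v` by `c`
  obtain ⟨g, hg⟩ := exists_sl2_e0 himg0
  let d : SL(2, F) := ⟨!![c, 0; 0, c⁻¹], by simp [Matrix.det_fin_two_of, hc0]⟩
  obtain ⟨e, he⟩ : g * d * g⁻¹ ∈ D.ρ.range := by
    rw [D.range, Cfsg.Agent.H9.commutator_SL_eq_top_of_square hsq]; trivial
  have hev : D.S.act (e : G) v = c • v := by
    rw [D.act, he, sl2v_mul, sl2v_mul]
    conv_lhs => rw [← hg, sl2v_inv_apply]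
    rw [show sl2v d ![1, 0] = c • ![1, 0] by
      ext i; fin_cases i <;> simp [sl2v, d, Matrix.mulVec, dotProduct, Fin.sum_univ_two],
      sl2v_smul, hg]
  set x' := (e : G) * x * (e : G)⁻¹ with hx'
  have hx'U : x' ∈ modE p E :=
    H75.conj_mem_of_mem_normalizer (normalizer_E_le_normalizer_modE E (le_normalizer e.2)) hxU
  have hx'img : D.S.img x' = c • v := by rw [← hev, hv, D.S.act_img (D.nz (le_normalizer e.2)) hxS]
  -- the elements of `E` fixing `v` lie in the Sylow subgroup `E ∩ T'`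
  obtain ⟨Q, hQ⟩ := H3.subnormal_inf_sylow hEs T'
  let P : Subgroup E :=
    { carrier := {k | sl2v (D.ρ k) v = v}
      one_mem' := by simp
      mul_mem' := fun {k k'} (hk : sl2v (D.ρ k) v = v) (hk' : sl2v (D.ρ k') v = v) => by
        show sl2v (D.ρ (k * k')) v = v
        rw [map_mul, sl2v_mul, hk', hk]
      inv_mem' := fun {k} (hk : sl2v (D.ρ k) v = v) => by
        show sl2v (D.ρ k⁻¹) v = v
        conv_lhs => rw [map_inv, ← hk, sl2v_inv_apply] }
  have hPp : IsPGroup p P := by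
    intro k
    have hk : sl2v (g⁻¹ * D.ρ k.1 * g) ![1, 0] = ![1, 0] := by
      rw [sl2v_mul, sl2v_mul, hg, (k.2 : sl2v (D.ρ k.1) v = v), ← hg, sl2v_inv_apply]
    obtain ⟨r, -, hr⟩ := sl2v_e0 hk
    have hρp : D.ρ (k.1 ^ p) = 1 := by
      have h1 : (g⁻¹ * D.ρ k.1 * g) ^ p = 1 := by
        rw [hr, H37.upper2_natCast, CharP.cast_eq_zero, zero_mul]
        ext i j; fin_cases i <;> fin_cases j <;> simp [H37.upper2]
      rw [show g⁻¹ * D.ρ k.1 * g = g⁻¹ * D.ρ k.1 * (g⁻¹)⁻¹ by rw [inv_inv], conj_pow, conj_eq_one_iff] at h1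
      rw [map_pow, h1]
    have hkQ : ((k.1 ^ p : E) : G) ∈ Cfsg.pCoreOf p E :=
      mem_core_of_fix hE (k.1 ^ p).2 fun w hw => by
        have := ((D.S.mem_triv_iff (D.nz (le_normalizer (k.1 ^ p).2))).2 fun a => by
          rw [D.act, hρp, sl2v_one]).2 w (D.U_eq ▸ hw)
        rwa [D.U₀_eq] at this
    obtain ⟨n, hn⟩ := (H75.isPGroup_pCoreOf E) ⟨_, hkQ⟩
    refine ⟨n + 1, ?_⟩
    apply Subtype.ext; apply Subtype.ext
    have hn' := congrArg Subtype.val hn
    simp only [SubgroupClass.coe_pow, OneMemClass.coe_one] at hn' ⊢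
    rw [pow_succ', pow_mul]
    exact hn'
  have hQP : (Q : Subgroup E) ≤ P := fun k hk => by
    rw [hQ, mem_subgroupOf] at hk
    show sl2v (D.ρ k) v = v
    rw [← D.act, hv, D.S.act_img (D.nz (le_normalizer k.2)) hxS,
      hxR (k : G) ⟨hk, le_normalizer k.2⟩, mul_inv_cancel_right]
  have hPQ : P = Q := Q.3 hPp hQP
  have hfixE : ∀ k : E, sl2v (D.ρ k) v = v → Commute (k : G) x := fun k hk => by
    have : k ∈ (Q : Subgroup E) := hPQ ▸ (hk : k ∈ P)
    rw [hQ, mem_subgroupOf] at this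
    exact hxR (k : G) ⟨this, le_normalizer k.2⟩
  -- `x'` is fixed by every largest elementary abelian subgroup
  have hx'I : x' ∈ sInf (maxEl p (T' : Subgroup G)) := by
    rw [Subgroup.mem_sInf]
    intro A hA
    refine H11.mem_of_commute_maxFam_elem hA
      (H1.pCore_le_sylow T' (mem_omegaOneCenter.1 (hUV hx'U)).1.1)
      (mem_omegaOneCenter.1 (hUV hx'U)).2 fun a ha => ?_
    have haN := maxEl_normalises hG hE hEs hA ha
    have hax : a * x = x * a := hxR a ⟨hA.1 ha, haN⟩
    have hava : D.S.act a v = v := by rw [hv, D.S.act_img (D.nz haN) hxS, hax, mul_inv_cancel_right]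
    have hk : (e : G)⁻¹ * (a * e * a⁻¹) ∈ E :=
      mul_mem (inv_mem e.2) (H75.conj_mem_of_mem_normalizer haN e.2)
    have hane : a * (e : G) * a⁻¹ ∈ D.S.Nz := D.nz (le_normalizer (H75.conj_mem_of_mem_normalizer haN e.2))
    have hkv : sl2v (D.ρ ⟨_, hk⟩) v = v := by
      rw [← D.act]
      show D.S.act ((e : G)⁻¹ * (a * e * a⁻¹)) v = v
      rw [D.S.act_mul (inv_mem (D.nz (le_normalizer e.2))) hane,
        D.S.act_mul (mul_mem (D.nz haN) (D.nz (le_normalizer e.2))) (inv_mem (D.nz haN)),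
        D.S.act_mul (D.nz haN) (D.nz (le_normalizer e.2))]
      conv_lhs => rw [← hava, D.S.act_inv_act (D.nz haN), hev, D.auto_spec haN,
        D.auto_maxEl hG hE hEs hA ha, hava, ← hev, D.S.act_inv_act (D.nz (le_normalizer e.2))]
    have hcx : Commute ((e : G)⁻¹ * (a * e * a⁻¹)) x := hfixE ⟨_, hk⟩ hkv
    refine mul_inv_eq_iff_eq_mul.1 ?_
    calc a * x' * a⁻¹ = (a * e * a⁻¹) * (a * x * a⁻¹) * (a * e * a⁻¹)⁻¹ := by rw [hx']; group
      _ = (e : G) * ((e : G)⁻¹ * (a * e * a⁻¹)) * x * ((e : G)⁻¹ * (a * e * a⁻¹))⁻¹ * (e : G)⁻¹ := by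
          rw [hax, mul_inv_cancel_right]; group
      _ = x' := by
          rw [mul_assoc (e : G) _ x, hcx.eq, ← mul_assoc, mul_inv_cancel_right, hx']
  have hb' := hb
  rw [baumann_eq'] at hb'
  have hbx' : x' * b = b * x' := hb'.2 x' hx'I
  have hbx : b * x = x * b := hxR b ⟨hb.1, hbN⟩
  have hbv : D.S.act b v = v := by rw [hv, D.S.act_img (D.nz hbN) hxS, hbx, mul_inv_cancel_right]
  refine smul_vec_left_injective himg0 ?_
  calc D.auto hbN c • v = D.S.act b (c • v) := by rw [D.auto_spec hbN, hbv]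
    _ = c • v := by
      rw [← hx'img, D.S.act_img (D.nz hbN) (D.img_mem hE hx'U), ← hbx', mul_inv_cancel_right]

/-- `B(G)` acts as `SL₂(F)`. -/
theorem exists_sl2_of_mem (hG : centralizer (Cfsg.pCore p G : Set G) ≤ Cfsg.pCore p G)
    (hE : Cfsg.IsBaumannBlock p (T : Subgroup G) E) (hEs : E.IsSubnormal) {g : G}
    (hg : g ∈ Cfsg.baumannSubgroup p G) : ∃ s : SL(2, F), ∀ v, D.S.act g v = sl2v s v := by
  let H : Subgroup G :=
    { carrier := {g | g ∈ normalizer (E : Set G) ∧ ∃ s : SL(2, F), ∀ v, D.S.act g v = sl2v s v}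
      one_mem' := ⟨one_mem _, 1, fun v => by rw [D.S.act_one, sl2v_one]⟩
      mul_mem' := fun {a b} ⟨ha, s, hs⟩ ⟨hb, t, ht⟩ => ⟨mul_mem ha hb, s * t, fun v => by
        rw [D.S.act_mul (D.nz ha) (D.nz hb), ht, hs, sl2v_mul]⟩
      inv_mem' := fun {a} ⟨ha, s, hs⟩ => ⟨inv_mem ha, s⁻¹, fun v => by
        conv_lhs => rw [← sl2v_apply_inv s v, ← hs, D.S.act_inv_act (D.nz ha)]⟩ }
  suffices Cfsg.baumannSubgroup p G ≤ H from (this hg).2
  refine iSup_le fun T' b hb => ?_
  have hbN := baumannOf_le_normalizer hG hE hEs T' hb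
  have hlin : ∀ (c : F) v, D.S.act b (c • v) = c • D.S.act b v := fun c v => by
    rw [D.auto_spec hbN, D.auto_baumann hG hE hEs hb]
  let L : (Fin 2 → F) →ₗ[F] (Fin 2 → F) :=
    { toFun := D.S.act b
      map_add' := D.S.act_add (D.nz hbN)
      map_smul' := hlin }
  set M := LinearMap.toMatrix' L with hM
  have hMv : ∀ v, D.S.act b v = M.mulVec v := fun v => by
    rw [hM, LinearMap.toMatrix'_mulVec]; rfl
  obtain ⟨k, hk⟩ := (T'.2.to_le (inf_le_left : Cfsg.baumannSubgroupOf p (T' : Subgroup G) ≤ T')) ⟨b, hb⟩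
  have hk' : b ^ p ^ k = 1 := congrArg Subtype.val hk
  have hpow : ∀ n : ℕ, ∀ v, D.S.act (b ^ n) v = (M ^ n).mulVec v := by
    intro n
    induction n with
    | zero => intro v; rw [pow_zero, pow_zero, D.S.act_one, Matrix.one_mulVec]
    | succ n ih =>
      intro v
      rw [pow_succ, pow_succ, D.S.act_mul (D.nz (pow_mem hbN n)) (D.nz hbN), ih, hMv, Matrix.mulVec_mulVec]
  have hM1 : M ^ p ^ k = 1 := Matrix.ext_iff_mulVec.2 fun v => by
    rw [← hpow, hk', D.S.act_one, Matrix.one_mulVec]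
  have hdet : M.det = 1 := by
    have h1 := congrArg Matrix.det hM1
    rw [Matrix.det_pow, Matrix.det_one] at h1
    refine sub_eq_zero.1 (eq_zero_of_pow_eq_zero (n := p ^ k) ?_)
    rw [sub_pow_char_pow, h1, one_pow, sub_self]
  exact ⟨hbN, ⟨M, hdet⟩, hMv⟩

include D in
/-- A `p'`-element of `B(G)` acts on `W_E` as an element of `E`. -/
theorem exists_act_eq (hG : centralizer (Cfsg.pCore p G : Set G) ≤ Cfsg.pCore p G)
    (hE : Cfsg.IsBaumannBlock p (T : Subgroup G) E) (hEs : E.IsSubnormal) {g : G}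
    (hg : g ∈ Cfsg.baumannSubgroup p G) (hgo : (orderOf g).Coprime p) :
    ∃ e ∈ E, e⁻¹ * g ∈ centralizer ((modE p E : Subgroup G) : Set G) := by
  have hgN := baumannSubgroup_le_normalizer hG hE hEs hg
  obtain ⟨s, hs⟩ := D.exists_sl2_of_mem hG hE hEs hg
  have hpow : ∀ n : ℕ, ∀ v, D.S.act (g ^ n) v = sl2v (s ^ n) v := by
    intro n
    induction n with
    | zero => intro v; rw [pow_zero, pow_zero, D.S.act_one, sl2v_one]
    | succ n ih =>
      intro v
      rw [pow_succ, pow_succ, D.S.act_mul (D.nz (pow_mem hgN n)) (D.nz hgN), ih, hs, sl2v_mul]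
  have hsn : s ^ orderOf g = 1 := sl2v_injective_left fun v => by
    rw [← hpow, pow_orderOf_eq_one, D.S.act_one, sl2v_one]
  obtain ⟨e, he⟩ : s ∈ D.ρ.range := by
    rw [D.range]
    exact H74.PRed.mem_of_pow_pow hgo (hsn ▸ one_mem _) (pow_mem_commutator p s)
  refine ⟨e, e.2, D.mem_centralizer_of_act hE (mul_mem (inv_mem (le_normalizer e.2)) hgN) fun v => ?_⟩
  rw [D.S.act_mul (inv_mem (D.nz (le_normalizer e.2))) (D.nz hgN), hs, ← he, ← D.act,
    D.S.act_inv_act (D.nz (le_normalizer e.2))]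

end LinData

end H78.Block
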