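import Cfsg.Agent.H78.BlockBasic
import Cfsg.Agent.H10.CentralClosure
import Cfsg.Agent.H67.MetacyclicOdd

/-!
Blocks under automorphisms.
-/

set_option autoImplicit false
set_option linter.unusedSectionVars false

open Subgroup
open scoped commutatorElement

namespace H78.Block

variable {G : Type*} [Group G] [Finite G] {p : ℕ} [Fact p.Prime] (e : G ≃* G)

theorem map_centralizer_eq (A : Subgroup G) :
    (centralizer (A : Set G)).map e.toMonoidHom =
      centralizer ((A.map e.toMonoidHom : Subgroup G) : Set G) := by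
  ext x
  constructor
  · rintro ⟨y, hy, rfl⟩ _ ⟨z, hz, rfl⟩
    rw [← map_mul, ← map_mul, hy z hz]
  · intro hx
    refine ⟨e.symm x, fun z hz => e.injective ?_, e.apply_symm_apply x⟩
    have := hx (e z) ⟨z, hz, rfl⟩
    simpa using this

theorem map_resOf_le (K : Subgroup G) :
    (H75.resOf p K).map e.toMonoidHom ≤ H75.resOf p (K.map e.toMonoidHom) := by
  rw [map_le_iff_le_comap]
  refine (closure_le _).2 fun x hx => ?_
  refine subset_closure ⟨⟨x, hx.1, rfl⟩, ?_⟩
  show (orderOf (e x)).Coprime p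
  rw [MulEquiv.orderOf_eq]
  exact hx.2

theorem map_pCoreOf (K : Subgroup G) :
    (Cfsg.pCoreOf p K).map e.toMonoidHom = Cfsg.pCoreOf p (K.map e.toMonoidHom) := by
  have h : ∀ (e : G ≃* G) (K : Subgroup G),
      (Cfsg.pCoreOf p K).map e.toMonoidHom ≤ Cfsg.pCoreOf p (K.map e.toMonoidHom) := by
    intro e K
    refine H75.le_pCoreOf (map_mono (H75.pCoreOf_le K)) ?_ ((H75.isPGroup_pCoreOf K).map _)
    rw [le_normalizer_iff]
    rintro _ ⟨k, hk, rfl⟩ _ ⟨q, hq, rfl⟩
    exact ⟨k * q * k⁻¹, H75.conj_mem_of_mem_normalizer (H75.le_normalizer_pCoreOf K hk) hq, by simp⟩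
  refine le_antisymm (h e K) fun x hx => ?_
  have := h e.symm (K.map e.toMonoidHom) ⟨x, hx, rfl⟩
  have hK : (K.map e.toMonoidHom).map e.symm.toMonoidHom = K := by
    rw [Subgroup.map_map]
    convert Subgroup.map_id K using 2
    ext y
    simp
  rw [hK] at this
  exact ⟨e.symm x, this, e.apply_symm_apply x⟩

theorem map_omegaOneCenter (A : Subgroup G) :
    (Cfsg.omegaOneCenter p A).map e.toMonoidHom = Cfsg.omegaOneCenter p (A.map e.toMonoidHom) := by
  rw [Cfsg.omegaOneCenter, Cfsg.omegaOneCenter, H10.map_omegaOne,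
    map_inf _ _ _ e.injective, map_centralizer_eq]

theorem map_baumann (T : Subgroup G) :
    (Cfsg.baumannSubgroupOf p T).map e.toMonoidHom =
      Cfsg.baumannSubgroupOf p (T.map e.toMonoidHom) := by
  rw [baumann_eq', baumann_eq', map_inf _ _ _ e.injective, map_centralizer_eq,
    H11.map_sInf_maxFam (H11.replProp_elem p)]

/-- The automorphism restricted to `E ≃ e(E)`. -/
noncomputable def mapEquiv (E : Subgroup G) : E ≃* (E.map e.toMonoidHom : Subgroup G) :=
  E.equivMapOfInjective _ e.injective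

theorem coe_mapEquiv (E : Subgroup G) (x : E) : ((mapEquiv e E x : _) : G) = e x := rfl

theorem map_pCore_mapEquiv (E : Subgroup G) :
    (Cfsg.pCore p E).map (mapEquiv e E).toMonoidHom =
      Cfsg.pCore p (E.map e.toMonoidHom : Subgroup G) := H1.map_pCore_equiv (G := E) p (mapEquiv e E)

theorem map_acts_sl2 {F : Type*} [Field F] {R : Subgroup (Matrix.SpecialLinearGroup (Fin 2) F)}
    {E U U₀ : Subgroup G} (h : Cfsg.ActsAsSL2OnSection F R E U U₀) :
    Cfsg.ActsAsSL2OnSection F R (E.map e.toMonoidHom) (U.map e.toMonoidHom)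
      (U₀.map e.toMonoidHom) := by
  obtain ⟨hEU, hle, ρ, ψ, hρ, hψ, hker, hact⟩ := h
  refine ⟨?_, map_mono hle, ρ.comp (mapEquiv e E).symm.toMonoidHom,
    ψ.comp (mapEquiv e U).symm.toMonoidHom, ?_, hψ.comp (mapEquiv e U).symm.surjective,
    fun u => ?_, fun a u => ?_⟩
  · rw [le_normalizer_iff]
    rintro _ ⟨k, hk, rfl⟩ _ ⟨q, hq, rfl⟩
    exact ⟨k * q * k⁻¹, H75.conj_mem_of_mem_normalizer (hEU hk) hq, by simp⟩
  · rw [MonoidHom.range_comp,
      MonoidHom.range_eq_top.2 (mapEquiv e E).symm.surjective, ← MonoidHom.range_eq_map, hρ]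
  · obtain ⟨v, rfl⟩ := (mapEquiv e U).surjective u
    rw [MonoidHom.comp_apply, MulEquiv.coe_toMonoidHom, MulEquiv.symm_apply_apply, hker, coe_mapEquiv]
    exact (mem_map_iff_mem (f := e.toMonoidHom) e.injective).symm
  · obtain ⟨v, rfl⟩ := (mapEquiv e U).surjective u
    obtain ⟨b, rfl⟩ := (mapEquiv e E).surjective a
    obtain ⟨w, hw, hwe⟩ := hact b v
    refine ⟨mapEquiv e U w, ?_, ?_⟩
    · rw [coe_mapEquiv, coe_mapEquiv, coe_mapEquiv, hw]
      simp
    · simp only [MonoidHom.comp_apply, MulEquiv.coe_toMonoidHom, MulEquiv.symm_apply_apply]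
      exact hwe

theorem map_acts_perm {n : ℕ} {R : Subgroup (Equiv.Perm (Fin n))} {E U U₀ : Subgroup G}
    (h : Cfsg.ActsAsOddPermModuleOnSection n R E U U₀) :
    Cfsg.ActsAsOddPermModuleOnSection n R (E.map e.toMonoidHom) (U.map e.toMonoidHom)
      (U₀.map e.toMonoidHom) := by
  obtain ⟨hEU, hle, ρ, ψ, hρ, heven, hψ, hker, hact⟩ := h
  refine ⟨?_, map_mono hle, ρ.comp (mapEquiv e E).symm.toMonoidHom,
    ψ.comp (mapEquiv e U).symm.toMonoidHom, ?_, fun u => heven _, fun v hv => ?_, fun u => ?_,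
    fun a u => ?_⟩
  · rw [le_normalizer_iff]
    rintro _ ⟨k, hk, rfl⟩ _ ⟨q, hq, rfl⟩
    exact ⟨k * q * k⁻¹, H75.conj_mem_of_mem_normalizer (hEU hk) hq, by simp⟩
  · rw [MonoidHom.range_comp,
      MonoidHom.range_eq_top.2 (mapEquiv e E).symm.surjective, ← MonoidHom.range_eq_map, hρ]
  · obtain ⟨w, hw⟩ := hψ v hv
    exact ⟨mapEquiv e U w, by simpa only [MonoidHom.comp_apply, MulEquiv.coe_toMonoidHom, MulEquiv.symm_apply_apply] using hw⟩
  · obtain ⟨v, rfl⟩ := (mapEquiv e U).surjective u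
    rw [MonoidHom.comp_apply, MulEquiv.coe_toMonoidHom, MulEquiv.symm_apply_apply, hker, coe_mapEquiv]
    exact (mem_map_iff_mem (f := e.toMonoidHom) e.injective).symm
  · obtain ⟨v, rfl⟩ := (mapEquiv e U).surjective u
    obtain ⟨b, rfl⟩ := (mapEquiv e E).surjective a
    obtain ⟨w, hw, hwe⟩ := hact b v
    refine ⟨mapEquiv e U w, ?_, ?_⟩
    · rw [coe_mapEquiv, coe_mapEquiv, coe_mapEquiv, hw]
      simp
    · simp only [MonoidHom.comp_apply, MulEquiv.coe_toMonoidHom, MulEquiv.symm_apply_apply]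
      exact hwe

theorem map_frattini_subtype (Q : Subgroup G) :
    ((frattini Q).map Q.subtype).map e.toMonoidHom =
      (frattini (Q.map e.toMonoidHom : Subgroup G)).map (Q.map e.toMonoidHom).subtype := by
  rw [← H67.frattini_map_equiv (mapEquiv e Q), Subgroup.map_map, Subgroup.map_map]
  rfl

/-- The image of a block under an automorphism. -/
theorem isBaumannBlock_map {T E : Subgroup G} (h : Cfsg.IsBaumannBlock p T E) :
    Cfsg.IsBaumannBlock p (T.map e.toMonoidHom) (E.map e.toMonoidHom) := by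
  obtain ⟨h1, h2, h3, h4, h5⟩ := h
  have hinj : Function.Injective e.toMonoidHom := e.injective
  have hQ := map_pCoreOf (p := p) e E
  have hW := map_omegaOneCenter (p := p) e (Cfsg.pCoreOf p E)
  rw [hQ] at hW
  have hC : ∀ A : Subgroup G, (A ⊓ centralizer (E : Set G)).map e.toMonoidHom =
      A.map e.toMonoidHom ⊓ centralizer ((E.map e.toMonoidHom : Subgroup G) : Set G) := fun A => by
    rw [map_inf _ _ _ hinj, map_centralizer_eq]
  have hquo : ∀ {R : Type} [Group R], Nonempty (E ⧸ Cfsg.pCore p E ≃* R) →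
      Nonempty ((E.map e.toMonoidHom : Subgroup G) ⧸
        Cfsg.pCore p (E.map e.toMonoidHom : Subgroup G) ≃* R) := by
    intro R _ ⟨i⟩
    haveI := H1.pCore_normal' p E
    haveI := H1.pCore_normal' p (E.map e.toMonoidHom : Subgroup G)
    exact ⟨(QuotientGroup.congr _ _ (mapEquiv e E) (map_pCore_mapEquiv e E)).symm.trans i⟩
  refine ⟨le_antisymm ?_ ?_, ?_, ?_, ?_, ?_⟩
  · rw [Cfsg.pResidualOf, H75.map_pResidual_eq_resOf]; exact H75.resOf_le _
  · rw [Cfsg.pResidualOf, H75.map_pResidual_eq_resOf]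
    refine (map_mono ?_).trans (map_resOf_le e E)
    exact h1.ge.trans (H75.map_pResidual_eq_resOf E).le
  · rw [← map_baumann, ← map_commutator, h2]
  · rw [← hQ, ← map_commutator, h3]
  · rw [← map_omegaOneCenter, ← map_commutator]
    exact fun hb => h4 ((map_eq_bot_iff_of_injective _ hinj).1 hb)
  rcases h5 with ⟨F, hFi, hFf, n, hF, hiso, hWs, hQs⟩ | ⟨hp2, m, hiso, hWs, hQ'⟩
  · refine Or.inl ⟨F, hFi, hFf, n, hF, hquo hiso, ?_, ?_⟩
    · rw [← hW, ← hC]
      exact map_acts_sl2 e hWs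
    · rcases hQs with hQs | ⟨hp3, hA, hcomm, hfr, hcE, hcard, hnq⟩
      · left; rw [← hW, ← hQ]; exact congrArg _ hQs
      right
      refine ⟨hp3, ?_, ?_, ?_, ?_, ?_, ?_⟩
      · rw [← hW, ← hQ]
        exact map_acts_sl2 e hA
      · rw [← hW, ← hC, ← hQ, ← map_commutator, hcomm]
      · rw [← hW, ← hC, ← hfr, ← hQ]
        exact (map_frattini_subtype e _).symm
      · rw [← hW, ← hC, ← hC, hcE]
      · rw [← hC, card_map_of_injective hinj]
        exact hcard
      · intro b hb hbW hle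
        rw [← map_baumann] at hb
        obtain ⟨c, hc, rfl⟩ := hb
        refine hnq c hc (fun hcW => hbW ?_) ?_
        · rw [← hW, ← map_centralizer_eq]
          exact ⟨c, hcW, rfl⟩
        · rw [← map_le_map_iff_of_injective hinj, map_commutator, map_commutator,
            MonoidHom.map_zpowers, hC, hQ]
          exact hle
  · refine Or.inr ⟨hp2, m, hquo hiso, ?_, ?_⟩
    · rw [← hW, ← hC]
      exact map_acts_perm e hWs
    · rw [← hW, ← hQ]; exact congrArg _ hQ'

end H78.Block
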