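import Cfsg.Agent.H78.EightNine.Finish
import Cfsg.Agent.H55.SThree.Basic

/-! A group containing a copy of the alternating group of degree 8 which contains the centralizer of
`s`, in the case of two fused invariant subgroups, is alternating of degree 8 or 9. -/

set_option autoImplicit false
set_option maxRecDepth 20000

namespace H78

open H55.SThree EightNine Equiv

/-- An element of order three of the table commutes with no involution but the central one. -/
theorem three_cent_table : ∀ c ∈ allL, mulC true false (mulC true false c c) c = 0 → c ≠ 0 →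
    ∀ d ∈ allL, mulC true false d d = 0 → d ≠ 0 → isC true false c d = true → d = 96 := by
  decide +kernel

theorem conj_facts : (c0 * c0 * c0 = 1 ∧ c0 ≠ 1 ∧ c0 * y0 = y0 * c0) ∧
    (v0 * v0 = 1 ∧ v0 ≠ 1 ∧ v0 * y0 = y0 * v0 ∧ c0 * v0 = v0 * c0 ∧ v0 ≠ y0) := by decide +kernel

/-- A copy of the alternating group of degree 8 containing the centralizer of `s`. -/
theorem eight_or_nine {G : Type*} [Group G] [Finite G] {s : G} {Q : Subgroup G} {φ : ℕ → G}
    (W : TwoData s Q φ) (G0 : Subgroup G) (e0 : G0 ≃* alternatingGroup (Fin 8))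
    (hL : Subgroup.centralizer ({s} : Set G) ≤ G0) :
    Nonempty (G ≃* alternatingGroup (Fin 8)) ∨ Nonempty (G ≃* alternatingGroup (Fin 9)) := by
  have F := W.frame
  have hsG : s ∈ G0 := hL (Subgroup.mem_centralizer_singleton_iff.mpr rfl)
  set s' : A8 := e0 ⟨s, hsG⟩ with hs'
  have hs2 : s' * s' = 1 := by
    rw [hs', ← map_mul, show (⟨s, hsG⟩ : G0) * ⟨s, hsG⟩ = 1 from Subtype.ext F.ss, map_one]
  have hs1 : s' ≠ 1 := by
    intro h
    apply F.s_ne
    have := e0.injective (h.trans (map_one e0).symm)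
    exact congrArg Subtype.val this
  obtain ⟨π, hπ⟩ : ∃ π : A8, π * sgA * π⁻¹ = s' := by
    rcases long_or_short hs2 hs1 with ⟨hc, -⟩ | ⟨hc, -⟩
    · exact isConj_iff.mp hc
    exfalso
    obtain ⟨π, hπ⟩ := isConj_iff.mp hc
    obtain ⟨⟨hc3, hc1, hcy⟩, hv2, hv1, hvy, hcv, hvne⟩ := conj_facts
    let cA : A8 := ⟨c0, sign_facts.2.2.2.2.2.1⟩
    let vA : A8 := ⟨v0, sign_facts.2.2.1⟩
    let f : A8 → G := fun a => ((e0.symm (π * a * π⁻¹) : G0) : G)
    have fmul : ∀ a b, f (a * b) = f a * f b := fun a b => by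
      show _ = ((e0.symm (π * a * π⁻¹) * e0.symm (π * b * π⁻¹) : G0) : G)
      rw [← map_mul, ← show π * (a * b) * π⁻¹ = π * a * π⁻¹ * (π * b * π⁻¹) by group]
    have finj : ∀ a b, f a = f b → a = b := fun a b h =>
      mul_left_cancel (mul_right_cancel (e0.symm.injective (Subtype.ext h)))
    have f1 : f 1 = 1 := by simp [f]
    have fy : f yA = s := by show ((e0.symm (π * yA * π⁻¹) : G0) : G) = s; rw [hπ, hs']; simp
    have code : ∀ a : A8, (a : P8) * y0 = y0 * (a : P8) → ∃ c ∈ allL, φ c = f a := fun a ha =>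
      F.surj (f a) (Subgroup.mem_centralizer_singleton_iff.mpr (by
        rw [← fy, ← fmul, ← fmul]
        exact congrArg f (Subtype.ext ha)))
    have eqv : ∀ c ∈ allL, ∀ d ∈ allL, φ c = φ d → c = d := F.inj
    obtain ⟨c, hc, hce⟩ := code cA hcy
    obtain ⟨d, hd, hde⟩ := code vA hvy
    have hcc := mem_allL.2 (mulC_lt true false c hc c hc)
    have e3 : mulC true false (mulC true false c c) c = 0 := by
      refine eqv _ (mem_allL.2 (mulC_lt true false _ hcc c hc)) _ zero_mem_allL ?_
      rw [← F.mul _ hcc c hc, ← F.mul c hc c hc, hce, ← fmul, ← fmul, F.map_zero, ← f1]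
      exact congrArg f (Subtype.ext hc3)
    have e2 : mulC true false d d = 0 := by
      refine eqv _ (mem_allL.2 (mulC_lt true false d hd d hd)) _ zero_mem_allL ?_
      rw [← F.mul d hd d hd, hde, ← fmul, F.map_zero, ← f1]
      exact congrArg f (Subtype.ext hv2)
    have ec : c ≠ 0 := by
      rintro rfl
      rw [F.map_zero, ← f1] at hce
      exact hc1 (congrArg Subtype.val (finj _ _ hce.symm))
    have ed : d ≠ 0 := by
      rintro rfl
      rw [F.map_zero, ← f1] at hde
      exact hv1 (congrArg Subtype.val (finj _ _ hde.symm))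
    have ecd : isC true false c d = true := by
      rw [← F.commute_iff hc hd, hce, hde]
      show f cA * f vA = f vA * f cA
      rw [← fmul, ← fmul]
      exact congrArg f (Subtype.ext hcv)
    have := three_cent_table c hc e3 ec d hd e2 ed ecd
    rw [this, F.map_s, ← fy] at hde
    exact hvne (congrArg Subtype.val (finj _ _ hde.symm))
  let j : A8 →* G := G0.subtype.comp (e0.symm.toMonoidHom.comp (MulAut.conj π).toMonoidHom)
  have hj : ∀ a, j a = ((e0.symm (π * a * π⁻¹) : G0) : G) := fun a => rfl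
  have hjinj : Function.Injective j :=
    G0.subtype_injective.comp (e0.symm.injective.comp (MulAut.conj π).injective)
  have hjs : j sgA = s := by rw [hj, hπ, hs']; simp
  have hjrange : ∀ g, Commute g (j sgA) → g ∈ j.range := fun g hg => by
    rw [hjs] at hg
    refine ⟨π⁻¹ * e0 ⟨g, hL (Subgroup.mem_centralizer_singleton_iff.mpr hg)⟩ * π, ?_⟩
    rw [hj]
    simp [mul_assoc]
  have hnot : ¬ IsConj (j sgA) (j yA) := by
    intro hconj
    obtain ⟨l, hnd, hlen, hyl, hl⟩ := long_many
    have hdata : ∀ p ∈ y0 :: l, ∃ hp : Perm.sign p = 1, p * sg = sg * p ∧ IsConj s (j ⟨p, hp⟩) := by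
      intro p hp
      rcases List.mem_cons.mp hp with rfl | hp
      · exact ⟨sign_facts.2.1, sg_facts.2.2.2.2.1, hjs ▸ hconj⟩
      · obtain ⟨hi, h2, hs, hcomm⟩ := hl p hp
        refine ⟨hs, hcomm, ?_⟩
        rcases long_or_short (a := ⟨p, hs⟩) (Subtype.ext h2)
          (fun h => hi 0 (by have e : p = 1 := congrArg Subtype.val h; rw [e]; rfl)) with ⟨hc, -⟩ | ⟨-, hh⟩
        · exact hjs ▸ j.map_isConj hc
        · exact absurd hi hh
    have hcode : ∀ p ∈ y0 :: l, ∃ c ∈ kL, ∀ hp : Perm.sign p = 1, φ c = j ⟨p, hp⟩ := by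
      intro p hp
      obtain ⟨hs, hcomm, hc⟩ := hdata p hp
      obtain ⟨c, hcL, hce⟩ := F.surj (j ⟨p, hs⟩) (Subgroup.mem_centralizer_singleton_iff.mpr (by
        rw [← hjs, ← map_mul, ← map_mul]
        exact congrArg j (Subtype.ext hcomm)))
      exact ⟨c, (W.mem_kL c hcL).mp (hce ▸ hc), fun _ => hce⟩
    choose f hf hfe using hcode
    have hinj : Function.Injective fun i : Fin (y0 :: l).length =>
        (⟨f _ (List.getElem_mem i.2), hf _ (List.getElem_mem i.2)⟩ : {c // c ∈ kL}) := by
      intro a b hab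
      have h' : f _ (List.getElem_mem a.2) = f _ (List.getElem_mem b.2) := congrArg Subtype.val hab
      obtain ⟨ha, -, -⟩ := hdata _ (List.getElem_mem a.2)
      obtain ⟨hb, -, -⟩ := hdata _ (List.getElem_mem b.2)
      have h'' := (hfe _ (List.getElem_mem a.2) ha).symm.trans
        ((congrArg φ h').trans (hfe _ (List.getElem_mem b.2) hb))
      exact Fin.ext ((List.nodup_cons.mpr ⟨hyl, hnd⟩).getElem_inj_iff.mp
        (congrArg Subtype.val (hjinj h'')))
    have hcard := Fintype.card_le_of_injective _ hinj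
    rw [Fintype.card_fin, List.length_cons, hlen, Fintype.card_of_subtype kL.toFinset (fun x => by simp)]
      at hcard
    exact absurd hcard (by decide +kernel)
  let E : Eight G := ⟨j, hjinj, hjrange, hnot⟩
  exact E.eight_or_nine

end H78
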