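import Cfsg.Agent.H3.SubnormalJoin
import Cfsg.Agent.H35.Subnormal

/-!
Wielandt: for subnormal subgroups `A`, `B` and a Sylow subgroup `S`,
`⟨A, B⟩ ∩ S = ⟨A ∩ S, B ∩ S⟩`.
-/

set_option autoImplicit false
set_option linter.unusedSectionVars false

open Subgroup

namespace H78

universe u

section aux

variable {G : Type u} [Group G] [Finite G] {p : ℕ} [Fact p.Prime]

/-- `O^p` of a subgroup, inside the ambient group. -/
def resP (p : ℕ) (A : Subgroup G) : Subgroup G :=
  closure {a : G | a ∈ A ∧ (orderOf a).Coprime p}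

theorem resP_le (A : Subgroup G) : resP p A ≤ A := (closure_le _).2 fun _ h => h.1

theorem le_normalizer_resP (A : Subgroup G) :
    normalizer (A : Set G) ≤ normalizer (resP p A : Set G) := by
  rw [resP, le_normalizer_closure_iff]
  intro g hg a ha
  refine subset_closure ⟨(mem_normalizer_iff.1 hg a).1 ha.1, ?_⟩
  rw [show orderOf (g * a * g⁻¹) = orderOf a from (MulAut.conj g).orderOf_eq a]
  exact ha.2

theorem resP_subnormal {A : Subgroup G} (hA : A.IsSubnormal) : (resP p A).IsSubnormal :=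
  IsSubnormal.step _ A (resP_le A) hA ((normal_subgroupOf_iff_le_normalizer (resP_le A)).2
    (le_normalizer.trans (le_normalizer_resP A)))

theorem sylow_relIndex_of_subnormal (S : Sylow p G) {A : Subgroup G} (hA : A.IsSubnormal) :
    ¬ p ∣ (S : Subgroup G).relIndex A := by
  obtain ⟨Q, hQ⟩ := H3.subnormal_inf_sylow hA S
  rw [relIndex, ← hQ]
  exact Q.not_dvd_index

theorem resP_sup_sylow (S : Sylow p G) {A : Subgroup G} (hA : A.IsSubnormal) :
    A ≤ resP p A ⊔ (A ⊓ S) := by
  rw [← relIndex_eq_one]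
  by_contra hne
  obtain ⟨q, hq, hqd⟩ := Nat.exists_prime_and_dvd hne
  have := Fact.mk hq
  by_cases hqp : q = p
  · subst hqp
    refine sylow_relIndex_of_subnormal S hA (hqd.trans ?_)
    rw [← inf_relIndex_right (S : Subgroup G) A, inf_comm (S : Subgroup G) A]
    exact relIndex_dvd_of_le_left A le_sup_right
  · obtain ⟨Q⟩ := (inferInstance : Nonempty (Sylow q ↥A))
    refine Q.not_dvd_index (hqd.trans (index_dvd_of_le ?_))
    intro x hx
    refine mem_subgroupOf.2 (mem_sup_left (subset_closure ⟨x.2, ?_⟩))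
    obtain ⟨k, hk⟩ := IsPGroup.iff_orderOf.1 Q.isPGroup' ⟨x, hx⟩
    rw [orderOf_mk, ← orderOf_coe] at hk
    rw [hk]
    exact ((Nat.coprime_primes hq Fact.out).2 hqp).pow_left k

theorem map_inf_sylow {G' : Type u} [Group G'] [Finite G'] (f : G →* G')
    (S : Sylow p G) {A : Subgroup G} (hA : A.IsSubnormal) :
    A.map f ⊓ (S : Subgroup G).map f = (A ⊓ S).map f := by
  refine (relIndex_eq_one.1 ?_).antisymm (Subgroup.map_inf_le _ _ _)
  obtain ⟨k, hk⟩ := (((S.isPGroup'.map f).to_le (inf_le_right : A.map f ⊓ _ ≤ _))).exists_card_eq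
  have h1 : ((A ⊓ S).map f).relIndex (A.map f ⊓ (S : Subgroup G).map f) ∣ p ^ k :=
    hk ▸ relIndex_dvd_card _ _
  obtain ⟨j, -, hj⟩ := (Nat.dvd_prime_pow Fact.out).1 h1
  rcases Nat.eq_zero_or_pos j with rfl | hj0
  · simpa using hj
  exfalso
  refine sylow_relIndex_of_subnormal S hA ?_
  rw [← inf_relIndex_right, inf_comm]
  have h2 : ((A ⊓ S).map f).relIndex (A.map f) ∣ (A ⊓ (S : Subgroup G)).relIndex A := by
    have he : ((A ⊓ S).subgroupOf A).map (f.subgroupMap A) =
        ((A ⊓ S).map f).subgroupOf (A.map f) := by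
      ext ⟨y, hy⟩
      constructor
      · rintro ⟨x, hx, hxy⟩
        exact ⟨x, hx, congrArg Subtype.val hxy⟩
      · rintro ⟨x, hx, hxy⟩
        exact ⟨⟨x, hx.1⟩, hx, Subtype.ext hxy⟩
    have h := Subgroup.index_map_dvd ((A ⊓ S).subgroupOf A) (f.subgroupMap_surjective A)
    rwa [he] at h
  refine dvd_trans ?_ h2
  have h4 := relIndex_mul_relIndex ((A ⊓ S).map f) (A.map f ⊓ (S : Subgroup G).map f) (A.map f)
    (Subgroup.map_inf_le _ _ _) inf_le_left
  rw [← h4, hj]
  exact (dvd_pow_self p hj0.ne').trans (Dvd.intro _ rfl)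

end aux

theorem sylow_sup (n : ℕ) : ∀ (G : Type u) [Group G] [Finite G], Nat.card G ≤ n →
    ∀ (p : ℕ) [Fact p.Prime] (S : Sylow p G) (A B : Subgroup G), A.IsSubnormal → B.IsSubnormal →
      (A ⊔ B) ⊓ (S : Subgroup G) ≤ (A ⊓ S) ⊔ (B ⊓ S) := by
  induction n with
  | zero => intro G _ _ h; exact absurd h (not_le.2 Nat.card_pos)
  | succ n ih =>
    intro G _ _ hG p _ S
    classical
    -- inside a proper subnormal subgroup
    have ihJ : ∀ A B : Subgroup G, A.IsSubnormal → B.IsSubnormal → A ⊔ B ≠ ⊤ →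
        (A ⊔ B) ⊓ (S : Subgroup G) ≤ (A ⊓ S) ⊔ (B ⊓ S) := by
      intro A B hA hB hne
      have hJ := H3.subnormal_sup hA hB
      obtain ⟨Q, hQ⟩ := H3.subnormal_inf_sylow hJ S
      have hcard : Nat.card ↥(A ⊔ B) ≤ n := by
        have : Nat.card ↥(A ⊔ B) < Nat.card G := by
          by_contra! h
          exact hne (Subgroup.eq_top_of_le_card _ h)
        omega
      have h := ih ↥(A ⊔ B) hcard p Q (A.subgroupOf (A ⊔ B)) (B.subgroupOf (A ⊔ B))
        hA.subgroupOf hB.subgroupOf
      rw [← subgroupOf_sup le_sup_left le_sup_right, subgroupOf_self, top_inf_eq, hQ] at h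
      intro x hx
      obtain ⟨hx1, hx2⟩ := mem_inf.1 hx
      have hmem : x ∈ ((A.subgroupOf (A ⊔ B) ⊓ (S : Subgroup G).subgroupOf (A ⊔ B)) ⊔
          (B.subgroupOf (A ⊔ B) ⊓ (S : Subgroup G).subgroupOf (A ⊔ B))).map (A ⊔ B).subtype :=
        ⟨⟨x, hx1⟩, h (mem_subgroupOf.2 hx2), rfl⟩
      refine SetLike.le_def.1 ?_ hmem
      rw [Subgroup.map_sup]
      refine sup_le_sup ?_ ?_ <;>
      · rintro _ ⟨y, hy, rfl⟩
        exact mem_inf.2 ⟨mem_subgroupOf.1 (mem_inf.1 hy).1, mem_subgroupOf.1 (mem_inf.1 hy).2⟩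
    suffices htop : ∀ (d : ℕ) (A B : Subgroup G), 2 * Nat.card G ≤ Nat.card A + Nat.card B + d →
        A.IsSubnormal → B.IsSubnormal → A ⊔ B = ⊤ →
        (S : Subgroup G) ≤ (A ⊓ S) ⊔ (B ⊓ S) by
      intro A B hA hB
      by_cases h : A ⊔ B = ⊤
      · exact inf_le_right.trans (htop (2 * Nat.card G) A B (Nat.le_add_left _ _) hA hB h)
      · exact ihJ A B hA hB h
    intro d
    induction d using Nat.strong_induction_on with
    | _ d ihd =>
    intro A B hd hA hB hAB
    by_cases hAtop : A = ⊤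
    · subst hAtop; rw [top_inf_eq]; exact le_sup_left
    by_cases hBtop : B = ⊤
    · subst hBtop; rw [top_inf_eq]; exact le_sup_right
    set T := (A ⊓ (S : Subgroup G)) ⊔ (B ⊓ S) with hT
    have hTS : T ≤ S := sup_le inf_le_right inf_le_right
    -- enlarging a subgroup that is not normalized by `T`
    have enlarge : ∀ C : Subgroup G, C.IsSubnormal → C ≠ ⊤ → C ⊓ S ≤ T →
        ¬ T ≤ normalizer (C : Set G) → ∃ C' : Subgroup G, C < C' ∧ C'.IsSubnormal ∧
          C' ⊓ S ≤ T := by
      intro C hC hCtop hCT hn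
      obtain ⟨N, hNn, hCN, hNtop⟩ := hC.lt_normal.resolve_left hCtop
      set fam : Set (Subgroup G) := {X | ∃ t ∈ T, C.map (MulAut.conj t).toMonoidHom = X} with hfam
      have hCmem : C ∈ fam := ⟨1, one_mem T, by ext; simp⟩
      have hsn : ∀ X ∈ fam, X.IsSubnormal := by
        rintro X ⟨t, -, rfl⟩
        exact hC.map (MulEquiv.surjective _)
      have hkey : ∀ F : Set (Subgroup G), F ⊆ fam → sSup F ⊓ (S : Subgroup G) ≤ T := by
        intro F hF
        have hfin : F.Finite := Set.toFinite F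
        induction F, hfin using Set.Finite.induction_on with
        | empty => simp
        | @insert X F' _ _ ihF =>
          rw [Set.insert_subset_iff] at hF
          rw [sSup_insert]
          have hle : ∀ Y ∈ fam, Y ≤ N := by
            rintro Y ⟨t, -, rfl⟩ _ ⟨c, hc, rfl⟩
            exact hNn.conj_mem _ (hCN hc) t
          refine (ihJ X (sSup F') (hsn X hF.1)
            (H3.subnormal_sSup F' fun Y hY => hsn Y (hF.2 hY)) ?_).trans (sup_le ?_ (ihF hF.2))
          · exact fun e => hNtop.ne (top_le_iff.1 (e ▸ sup_le (hle X hF.1)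
              (sSup_le fun Y hY => hle Y (hF.2 hY))))
          · obtain ⟨t, ht, rfl⟩ := hF.1
            rintro _ ⟨⟨c, hc, rfl⟩, hcS⟩
            have hc' : c ∈ (S : Subgroup G) := by
              have := mul_mem (mul_mem (inv_mem (hTS ht)) hcS) (hTS ht)
              simpa [MulAut.conj_apply, mul_assoc] using this
            exact mul_mem (mul_mem ht (hCT ⟨hc, hc'⟩)) (inv_mem ht)
      refine ⟨sSup fam, lt_of_le_of_ne (le_sSup hCmem) fun e => hn ?_,
        H3.subnormal_sSup fam hsn, hkey fam le_rfl⟩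
      rw [le_normalizer_iff]
      intro t ht c hc
      have hm : C.map (MulAut.conj t).toMonoidHom ∈ fam := ⟨t, ht, rfl⟩
      have : t * c * t⁻¹ ∈ sSup fam := le_sSup hm ⟨c, hc, rfl⟩
      rwa [← e] at this
    by_cases hTA : T ≤ normalizer (A : Set G)
    swap
    · obtain ⟨A', hlt, hA', hA'T⟩ := enlarge A hA hAtop le_sup_left hTA
      have hc : Nat.card A < Nat.card A' := by
        by_contra! h
        exact hlt.ne (eq_of_le_of_card_ge hlt.le h)
      have hcA' := card_le_card_group A'
      have hcB := card_le_card_group B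
      refine (ihd (d - (Nat.card A' - Nat.card A)) (by omega) A' B (by omega) hA' hB
        (top_le_iff.1 (hAB ▸ sup_le_sup_right hlt.le B))).trans (sup_le hA'T le_sup_right)
    by_cases hTB : T ≤ normalizer (B : Set G)
    swap
    · obtain ⟨B', hlt, hB', hB'T⟩ := enlarge B hB hBtop le_sup_right hTB
      have hc : Nat.card B < Nat.card B' := by
        by_contra! h
        exact hlt.ne (eq_of_le_of_card_ge hlt.le h)
      have hcA := card_le_card_group A
      have hcB' := card_le_card_group B'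
      refine (ihd (d - (Nat.card B' - Nat.card B)) (by omega) A B' (by omega) hA hB'
        (top_le_iff.1 (hAB ▸ sup_le_sup_left hlt.le A))).trans (sup_le le_sup_left hB'T)
    -- the `p`-residuals
    set R := resP p A ⊔ resP p B with hR
    have hgen : R ⊔ T = ⊤ := by
      refine top_le_iff.1 (hAB ▸ sup_le ?_ ?_)
      · exact (resP_sup_sylow S hA).trans (sup_le_sup le_sup_left le_sup_left)
      · exact (resP_sup_sylow S hB).trans (sup_le_sup le_sup_right le_sup_right)
    have hTR : T ≤ normalizer (R : Set G) :=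
      (le_inf (hTA.trans (le_normalizer_resP A)) (hTB.trans (le_normalizer_resP B))).trans
        (fun g hg => H3.le_normalizer_sup (K := normalizer (resP p A : Set G) ⊓
          normalizer (resP p B : Set G)) inf_le_left inf_le_right hg)
    have hRn : R.Normal := normalizer_eq_top_iff.1
      (top_le_iff.1 (hgen ▸ sup_le le_normalizer hTR))
    by_cases hRtop : R = ⊤
    swap
    · intro s hs
      have hs' : s ∈ R ⊔ T := hgen ▸ mem_top s
      obtain ⟨r, hr, t, ht, rfl⟩ := mem_sup_of_normal_left.1 hs'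
      have hrS : r ∈ (S : Subgroup G) := by
        simpa using mul_mem hs (inv_mem (hTS ht))
      have := ihJ _ _ (resP_subnormal (p := p) hA) (resP_subnormal (p := p) hB) hRtop
        (mem_inf.2 ⟨hr, hrS⟩)
      exact mul_mem (SetLike.le_def.1 (sup_le_sup (inf_le_inf_right _ (resP_le A))
        (inf_le_inf_right _ (resP_le B))) this) ht
    have hnohom : ∀ (f : G →* Multiplicative (ZMod p)) (g : G), f g = 1 := by
      intro f g
      have hle : R ≤ f.ker := by
        refine sup_le ((closure_le _).2 ?_) ((closure_le _).2 ?_) <;>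
        · rintro a ⟨-, ha⟩
          refine orderOf_eq_one_iff.1 (Nat.eq_one_of_dvd_coprimes ha (orderOf_map_dvd f a) ?_)
          have := orderOf_dvd_natCard (f a)
          simpa using this
      exact hle (hRtop ▸ mem_top g)
    -- a minimal normal subgroup
    by_cases htriv : (⊤ : Subgroup G) = ⊥
    · exact fun s _ => by
        have h1 := mem_top s
        rw [htriv, mem_bot] at h1
        rw [h1]; exact one_mem _
    obtain ⟨K, hK, hK0, -, hKmin⟩ := H35.exists_minimal_normal_le (⊤ : Subgroup G) htriv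
    have hKA := H35.minimal_normal_normalizes_subnormal K A hKmin hA
    have hKB := H35.minimal_normal_normalizes_subnormal K B hKmin hB
    have hcardq : Nat.card (G ⧸ K) ≤ n := by
      have h1 : 1 < Nat.card K := (Subgroup.one_lt_card_iff_ne_bot K).2 hK0
      have h2 := Subgroup.card_eq_card_quotient_mul_card_subgroup K
      have h3 : 0 < Nat.card (G ⧸ K) := Nat.card_pos
      nlinarith
    have hSTK : ∀ s ∈ (S : Subgroup G), ∃ t ∈ T, ∃ k ∈ K ⊓ (S : Subgroup G), t * k = s := by
      intro s hs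
      set π := QuotientGroup.mk' K
      have hπ : Function.Surjective π := QuotientGroup.mk'_surjective K
      have h := ih (G ⧸ K) hcardq p (S.mapSurjective hπ) (A.map π) (B.map π) (hA.map hπ) (hB.map hπ)
      rw [Sylow.coe_mapSurjective, ← Subgroup.map_sup, hAB, map_top_of_surjective _ hπ, top_inf_eq,
        map_inf_sylow π S hA, map_inf_sylow π S hB, ← Subgroup.map_sup] at h
      obtain ⟨t, ht, hts⟩ := h ⟨s, hs, rfl⟩
      exact ⟨t, ht, t⁻¹ * s, mem_inf.2 ⟨(QuotientGroup.eq).1 hts, mul_mem (inv_mem (hTS ht)) hs⟩,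
        mul_inv_cancel_left t s⟩
    suffices hKS : K ⊓ (S : Subgroup G) ≤ T by
      intro s hs
      obtain ⟨t, ht, k, hk, rfl⟩ := hSTK s hs
      exact mul_mem ht (hKS hk)
    have hmix : ∀ X : Subgroup G, K ≤ normalizer (X : Set G) → ∀ a ∈ X, ∀ k ∈ K,
        a * k * a⁻¹ * k⁻¹ ∈ K ⊓ X := by
      intro X hKX a ha k hk
      refine mem_inf.2 ⟨mul_mem (hK.conj_mem k hk a) (inv_mem hk), ?_⟩
      have := mul_mem ha ((mem_normalizer_iff.1 (hKX hk) a⁻¹).1 (inv_mem ha))
      simpa [mul_assoc] using this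
    set K0 := (K ⊓ A) ⊔ (K ⊓ B) with hK0def
    have hK0n : K0.Normal := by
      refine normalizer_eq_top_iff.1 (top_le_iff.1 (hAB ▸ sup_le ?_ ?_)) <;>
      · rw [le_normalizer_iff]
        intro a ha k hk
        have hkK : k ∈ K := (sup_le inf_le_left inf_le_left : K0 ≤ K) hk
        have h1 : a * k * a⁻¹ * k⁻¹ ∈ K0 := by
          first
            | exact mem_sup_left (hmix A hKA a ha k hkK)
            | exact mem_sup_right (hmix B hKB a ha k hkK)
        simpa [mul_assoc] using mul_mem h1 hk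
    rcases hKmin K0 hK0n (sup_le inf_le_left inf_le_left) with h | h
    swap
    · by_cases hKtop : K = ⊤
      · exfalso
        subst hKtop
        have hAsimple : ∀ N : Subgroup G, N.Normal → N = ⊥ ∨ N = ⊤ := fun N hN =>
          hKmin N hN le_top
        have hXbot : ∀ X : Subgroup G, X.IsSubnormal → X ≠ ⊤ → X = ⊥ := fun X hX hne => by
          obtain ⟨N, hN, hXN, hNt⟩ := hX.lt_normal.resolve_left hne
          exact le_bot_iff.1 (hXN.trans ((hAsimple N hN).resolve_right hNt.ne).le)
        rw [hXbot A hA hAtop, hXbot B hB hBtop, sup_idem] at hAB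
        exact htriv hAB.symm
      · rw [hK0def] at h
        have := ihJ (K ⊓ A) (K ⊓ B) ((hK.isSubnormal).inf hA) ((hK.isSubnormal).inf hB)
          (by rw [h]; exact hKtop)
        rw [h] at this
        exact this.trans (sup_le_sup (inf_le_inf_right _ inf_le_right)
          (inf_le_inf_right _ inf_le_right))
    -- `K` is central of prime order
    have hcen : K ≤ center G := by
      intro k hk
      have hc : A ⊔ B ≤ centralizer ({k} : Set G) := by
        refine sup_le ?_ ?_ <;> intro a ha <;> rw [mem_centralizer_singleton_iff]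
        · have h1 : a * k * a⁻¹ * k⁻¹ ∈ K0 := mem_sup_left (hmix A hKA a ha k hk)
          rw [h, mem_bot] at h1
          calc a * k = (a * k * a⁻¹ * k⁻¹) * (k * a) := by group
            _ = k * a := by rw [h1, one_mul]
        · have h1 : a * k * a⁻¹ * k⁻¹ ∈ K0 := mem_sup_right (hmix B hKB a ha k hk)
          rw [h, mem_bot] at h1
          calc a * k = (a * k * a⁻¹ * k⁻¹) * (k * a) := by group
            _ = k * a := by rw [h1, one_mul]
      rw [mem_center_iff]
      exact fun g => mem_centralizer_singleton_iff.1 (hc (hAB ▸ mem_top g))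
    have hsub : ∀ X : Subgroup G, X ≤ K → X = ⊥ ∨ X = K := fun X hX =>
      hKmin X ⟨fun x hx g => by
        rw [mem_center_iff.1 (hcen (hX hx)) g, mul_inv_cancel_right]; exact hx⟩ hX
    by_cases hKSbot : K ⊓ (S : Subgroup G) = ⊥
    · rw [hKSbot]; exact bot_le
    have hKS' : K ≤ S := inf_eq_left.1 ((hsub _ inf_le_left).resolve_left hKSbot)
    rcases hsub (K ⊓ T) inf_le_left with hKT | hKT
    swap
    · exact inf_le_left.trans (hKT.ge.trans inf_le_right)
    exfalso
    obtain ⟨k, hk, hk1⟩ := K.ne_bot_iff_exists_ne_one.1 hK0 |>.elim fun x hx =>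
      (⟨(x : G), x.2, fun e => hx (Subtype.ext e)⟩ : ∃ k, k ∈ K ∧ k ≠ 1)
    have hTn : (T.subgroupOf (S : Subgroup G)).Normal := by
      rw [normal_subgroupOf_iff_le_normalizer hTS, le_normalizer_iff]
      intro s hs t ht
      obtain ⟨t', ht', k', hk', rfl⟩ := hSTK s hs
      have hc := mem_center_iff.1 (hcen hk'.1) t
      rw [show t' * k' * t * (t' * k')⁻¹ = t' * (k' * t * k'⁻¹) * t'⁻¹ by group, ← hc,
        mul_inv_cancel_right]
      exact mul_mem (mul_mem ht' ht) (inv_mem ht')
    have hKp : Nat.card K = p := by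
      have hz : zpowers k = K := (hsub _ (zpowers_le.2 hk)).resolve_left (zpowers_ne_bot.2 hk1)
      obtain ⟨j, hj⟩ := IsPGroup.iff_orderOf.1 S.isPGroup' ⟨k, hKS' hk⟩
      rw [orderOf_mk] at hj
      have hd : p ∣ Nat.card K := by
        rw [← hz, Nat.card_zpowers, hj]
        refine dvd_pow_self p fun e => hk1 (orderOf_eq_one_iff.1 ?_)
        rw [hj, e, pow_zero]
      obtain ⟨c, hc⟩ := exists_prime_orderOf_dvd_card' p hd
      have hc1 : (c : G) ≠ 1 := fun e => by
        rw [show c = 1 from Subtype.ext e, orderOf_one] at hc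
        exact (Fact.out : p.Prime).one_lt.ne hc
      rw [← (hsub _ (zpowers_le.2 c.2)).resolve_left (zpowers_ne_bot.2 hc1), Nat.card_zpowers,
        orderOf_coe, hc]
    have hidx : (T.subgroupOf (S : Subgroup G)).index = p := by
      let f : ↥K → ↥(S : Subgroup G) ⧸ T.subgroupOf (S : Subgroup G) :=
        fun x => QuotientGroup.mk ⟨(x : G), hKS' x.2⟩
      refine Eq.trans ?_ hKp
      refine (Nat.card_eq_of_bijective f ⟨fun x y hxy => ?_, fun q => ?_⟩).symm
      · have hxy' : (x : G)⁻¹ * y ∈ K ⊓ T :=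
          mem_inf.2 ⟨mul_mem (inv_mem x.2) y.2, mem_subgroupOf.1 (QuotientGroup.eq.1 hxy)⟩
        rw [hKT, mem_bot, inv_mul_eq_one] at hxy'
        exact Subtype.ext hxy'
      · obtain ⟨⟨s, hs⟩, rfl⟩ := QuotientGroup.mk_surjective q
        obtain ⟨t', ht', k', hk', rfl⟩ := hSTK s hs
        refine ⟨⟨k', hk'.1⟩, QuotientGroup.eq.2 (mem_subgroupOf.2 ?_)⟩
        change k'⁻¹ * (t' * k') ∈ T
        rw [mem_center_iff.1 (hcen hk'.1) t', inv_mul_cancel_left]
        exact ht'
    let e : (↥(S : Subgroup G) ⧸ T.subgroupOf (S : Subgroup G)) ≃* Multiplicative (ZMod p) :=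
      mulEquivOfPrimeCardEq (p := p) hidx (by simp)
    let φ : ↥(S : Subgroup G) →* Multiplicative (ZMod p) :=
      e.toMonoidHom.comp (QuotientGroup.mk' _)
    have hker : ∀ x : ↥(S : Subgroup G), φ x = 1 → (x : G) ∈ T := fun x hx => by
      change e (QuotientGroup.mk x) = 1 at hx
      rw [EmbeddingLike.map_eq_one_iff, QuotientGroup.eq_one_iff] at hx
      exact hx
    have key := MonoidHom.transfer_eq_pow φ k (fun i g₀ _ => by
      have hki : k ^ i ∈ center G := pow_mem (hcen hk) i
      rw [mul_assoc, ← mem_center_iff.1 hki g₀, inv_mul_cancel_left])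
    rw [hnohom] at key
    have hmem : k ^ (S : Subgroup G).index ∈ K ⊓ T := ⟨pow_mem hk _, hker _ key.symm⟩
    rw [hKT, mem_bot] at hmem
    have hdvd := orderOf_dvd_of_pow_eq_one hmem
    obtain ⟨j, hj⟩ := IsPGroup.iff_orderOf.1 S.isPGroup' ⟨k, hKS' hk⟩
    rw [orderOf_mk] at hj
    rcases Nat.eq_zero_or_pos j with rfl | hj0
    · exact hk1 (orderOf_eq_one_iff.1 (by simpa using hj))
    · exact S.not_dvd_index ((hj ▸ dvd_pow_self p hj0.ne').trans hdvd)

end H78
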