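import Cfsg.Prelude.Def_BaumannBlocks
import Cfsg.Agent.H75.Basic
import Cfsg.Agent.H74.PRed
import Cfsg.Agent.H11.MaxFam
import Cfsg.Agent.H1.CoprimeAction
import Cfsg.Agent.H1.CoprimeAction2

/-!
Blocks relative to the Baumann subgroup are normalised by the `p`-groups they normalise.
-/

set_option autoImplicit false
set_option linter.unusedSectionVars false

open Subgroup
open scoped Pointwise commutatorElement

namespace H78.Block

variable {G : Type*} [Group G] [Finite G] {p : ℕ} [Fact p.Prime]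

/-- The elementary abelian subgroups of `T` of largest order. -/
abbrev maxEl (p : ℕ) (T : Subgroup G) : Set (Subgroup G) :=
  H11.maxFam (fun A : Subgroup G => Cfsg.IsElementaryAbelian p A) T

omit [Fact p.Prime] in
theorem baumann_eq' (T : Subgroup G) :
    Cfsg.baumannSubgroupOf p T = T ⊓ centralizer ((sInf (maxEl p T) : Subgroup G) : Set G) := by
  rw [Cfsg.baumannSubgroupOf, H11.omegaOne_centerThompsonOf_eq]

omit [Fact p.Prime] in
theorem maxEl_le_baumann {T A : Subgroup G} (hA : A ∈ maxEl p T) :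
    A ≤ Cfsg.baumannSubgroupOf p T := by
  rw [baumann_eq']
  exact le_inf hA.1 fun a ha y hy => (H11.comm_of_mulCommutative hA.2.1.1 ((sInf_le hA) hy) ha).eq

/-- A Sylow subgroup containing `B(T)` has the same Baumann subgroup. -/
theorem baumann_eq_of_le (T T₁ : Sylow p G)
    (h : Cfsg.baumannSubgroupOf p (T : Subgroup G) ≤ (T₁ : Subgroup G)) :
    Cfsg.baumannSubgroupOf p (T₁ : Subgroup G) = Cfsg.baumannSubgroupOf p (T : Subgroup G) := by
  obtain ⟨g, rfl⟩ := MulAction.exists_smul_eq G T T₁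
  set e := MulAut.conj g with he
  have hmap : ((g • T : Sylow p G) : Subgroup G) = (T : Subgroup G).map e.toMonoidHom := rfl
  have hsub : maxEl p (T : Subgroup G) ⊆ maxEl p ((g • T : Sylow p G) : Subgroup G) := by
    intro A hA
    have hC := H11.map_mem_maxFam (H11.replProp_elem p) e hA
    rw [← hmap] at hC
    refine ⟨(maxEl_le_baumann hA).trans h, hA.2.1, fun B hB hB' => (hC.2.2 B hB hB').trans ?_⟩
    exact (card_map_of_injective (f := e.toMonoidHom) (MulEquiv.injective _)).le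
  symm
  refine eq_of_le_of_card_ge ?_ ?_
  · rw [baumann_eq', baumann_eq'] at *
    exact le_inf h (inf_le_right.trans (centralizer_le (le_sInf fun A hA => sInf_le (hsub hA) : sInf (maxEl p ((g • T : Sylow p G) : Subgroup G)) ≤ sInf (maxEl p (T : Subgroup G)))))
  · have hinj : Function.Injective e.toMonoidHom := e.injective
    rw [← card_map_of_injective (K := Cfsg.baumannSubgroupOf p (T : Subgroup G)) hinj]
    refine card_le_of_le fun x hx => ?_
    rw [baumann_eq', hmap, ← H11.map_sInf_maxFam (H11.replProp_elem p)] at hx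
    obtain ⟨⟨t, ht, rfl⟩, hc⟩ := hx
    refine ⟨t, ?_, rfl⟩
    rw [baumann_eq']
    refine ⟨ht, fun y hy => ?_⟩
    have := hc _ ⟨y, hy, rfl⟩
    rw [← map_mul, ← map_mul] at this
    exact e.injective this

/-- A `p`-group normalised by `B(T)` normalises `B(T)`. -/
theorem le_normalizer_baumann (T : Sylow p G) {R : Subgroup G} (hR : IsPGroup p R)
    (hBR : Cfsg.baumannSubgroupOf p (T : Subgroup G) ≤ normalizer (R : Set G)) :
    R ≤ normalizer (Cfsg.baumannSubgroupOf p (T : Subgroup G) : Set G) := by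
  have hB : IsPGroup p (Cfsg.baumannSubgroupOf p (T : Subgroup G)) := T.2.to_le inf_le_left
  obtain ⟨T₁, hT₁⟩ := (hR.to_sup_of_normal_left' hB hBR).exists_le_sylow
  rw [← baumann_eq_of_le T T₁ (le_sup_right.trans hT₁)]
  refine le_trans (le_sup_left.trans hT₁) ?_
  rw [baumann_eq']
  exact (le_inf le_normalizer
    ((H11.normalizer_le_normalizer_sInf_maxFam (H11.replProp_elem p) _).trans
      (H75.normalizer_le_normalizer_centralizer _) |> (le_trans le_normalizer))).trans
    (H75.normalizer_inf_le_normalizer_inf _ _)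

omit [Fact p.Prime] in
/-- The coprime step modulo a subgroup. -/
theorem mem_of_coprime_step {R M : Subgroup G} (hR : IsPGroup p R) {e r : G}
    (he : (orderOf e).Coprime p) (hc : ⁅e, r⁆ ∈ R) (hstep : ⁅e, ⁅e, r⁆⁆ ∈ M)
    (heM : e ∈ normalizer (M : Set G)) (hcM : ⁅e, r⁆ ∈ normalizer (M : Set G)) :
    ⁅e, r⁆ ∈ M := by
  set c := ⁅e, r⁆ with hc'
  have key : ∀ n : ℕ, ∃ m ∈ M, e ^ n * r * (e ^ n)⁻¹ = m * c ^ n * r := by
    intro n
    induction n with
    | zero => exact ⟨1, one_mem _, by simp⟩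
    | succ n ih =>
      obtain ⟨m, hm, hmn⟩ := ih
      have hpow : ∀ k : ℕ, ∃ m' ∈ M, e * c ^ k * e⁻¹ = m' * c ^ k := by
        intro k
        induction k with
        | zero => exact ⟨1, one_mem _, by simp⟩
        | succ k ihk =>
          obtain ⟨m', hm', hk⟩ := ihk
          refine ⟨m' * (c ^ k * ⁅e, c⁆ * (c ^ k)⁻¹),
            mul_mem hm' (H75.conj_mem_of_mem_normalizer (pow_mem hcM k) hstep), ?_⟩
          calc e * c ^ (k + 1) * e⁻¹ = e * c ^ k * e⁻¹ * (e * c * e⁻¹) := by rw [pow_succ]; group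
            _ = m' * c ^ k * (⁅e, c⁆ * c) := by rw [hk, commutatorElement_def e c]; group
            _ = _ := by rw [pow_succ]; group
      obtain ⟨m', hm', hk⟩ := hpow n
      refine ⟨e * m * e⁻¹ * m', mul_mem (H75.conj_mem_of_mem_normalizer heM hm) hm', ?_⟩
      calc e ^ (n + 1) * r * (e ^ (n + 1))⁻¹ = e * (e ^ n * r * (e ^ n)⁻¹) * e⁻¹ := by
            rw [pow_succ']; group
        _ = e * m * e⁻¹ * (e * c ^ n * e⁻¹) * (e * r * e⁻¹) := by rw [hmn]; group
        _ = e * m * e⁻¹ * (m' * c ^ n) * (c * r) := by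
            rw [hk, hc', commutatorElement_def e r]; group
        _ = _ := by rw [pow_succ]; group
  obtain ⟨m, hm, hmn⟩ := key (orderOf e)
  rw [pow_orderOf_eq_one, one_mul, inv_one, mul_one, right_eq_mul, mul_eq_one_iff_inv_eq] at hmn
  have hcn : c ^ orderOf e ∈ M := hmn ▸ inv_mem hm
  obtain ⟨k, hk⟩ := hR ⟨c, hc⟩
  have hck : c ^ p ^ k ∈ M := by
    rw [show c ^ p ^ k = 1 from congrArg Subtype.val hk]
    exact one_mem _
  exact H74.PRed.mem_of_pow_pow (he.pow_right k) hcn hck

/-- If `E = O^p(E) = [E,B]` normalises a `p`-group `R` normalised by and normalising `B`, then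
`[R,E] ≤ R ∩ E`. -/
theorem commutator_le_inf {E B : Subgroup G} (hE : H75.resOf p E = E) (hEB : ⁅E, B⁆ = E) :
    ∀ R : Subgroup G, IsPGroup p R → E ≤ normalizer (R : Set G) → B ≤ normalizer (R : Set G) →
      R ≤ normalizer (B : Set G) → ⁅R, E⁆ ≤ R ⊓ E := by
  intro R
  induction hcard : Nat.card R using Nat.strong_induction_on generalizing R with
  | _ N ih =>
  intro hR hER hBR hRB
  by_cases hR0 : R = ⊥
  · subst hR0; simp [commutator_bot_left]
  have hBE : B ≤ normalizer (E : Set G) := hEB ▸ H1.right_le_normalizer_commutator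
  set F := ⁅R, R⁆ with hF
  have hFR : F < R := H1.commutator_lt_of_isPGroup hR hR le_normalizer hR0
  have hnF : ∀ {X : Subgroup G}, X ≤ normalizer (R : Set G) → X ≤ normalizer (F : Set G) :=
    fun {X} hX => (le_inf hX hX).trans (H75.normalizer_inf_le_normalizer_commutator R R)
  have hIH : ⁅F, E⁆ ≤ F ⊓ E := ih _
    (by rw [← hcard]; exact lt_of_le_of_ne (card_le_of_le hFR.le) fun h =>
      hFR.ne (eq_of_le_of_card_ge hFR.le h.ge))
    F rfl (hR.to_le hFR.le) (hnF hER) (hnF hBR) (hFR.le.trans hRB)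
  set K := R ⊓ E with hK
  have hEK : E ≤ normalizer (K : Set G) :=
    (le_inf hER le_normalizer).trans (H75.normalizer_inf_le_normalizer_inf _ _)
  have hBK : B ≤ normalizer (K : Set G) :=
    (le_inf hBR hBE).trans (H75.normalizer_inf_le_normalizer_inf _ _)
  have hFK : F ≤ normalizer (K : Set G) := by
    rw [le_normalizer_iff]
    intro f hf k hk
    have h1 : ⁅f, k⁆ ∈ K := (inf_le_inf_right E hFR.le) (hIH (commutator_mem_commutator hf hk.2))
    simpa [commutatorElement_def] using mul_mem h1 hk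
  set M := K ⊔ F with hM
  have hMR : M ≤ R := sup_le inf_le_left hFR.le
  have hMK : M ≤ normalizer (K : Set G) := sup_le le_normalizer hFK
  have hEM : E ≤ normalizer (M : Set G) :=
    (le_inf hEK (hnF hER)).trans (H75.normalizer_inf_le_normalizer_sup _ _)
  have hBM : B ≤ normalizer (M : Set G) :=
    (le_inf hBK (hnF hBR)).trans (H75.normalizer_inf_le_normalizer_sup _ _)
  have hconj : ∀ r ∈ R, ∀ x ∈ R, (M : Subgroup G) ≤ R → x ∈ M → r * x * r⁻¹ ∈ M := by
    intro r hr x hxR _ hx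
    have : ⁅r, x⁆ ∈ M := mem_sup_right (commutator_mem_commutator hr hxR)
    simpa [commutatorElement_def] using mul_mem this hx
  have hRM : R ≤ normalizer (M : Set G) := by
    rw [le_normalizer_iff]
    exact fun r hr x hx => hconj r hr x (hMR hx) hMR hx
  -- `D`: the elements of `R` fixed by `E` modulo `M`
  let D : Subgroup G :=
    { carrier := {r | r ∈ R ∧ ∀ e ∈ E, ⁅e, r⁆ ∈ M}
      one_mem' := ⟨one_mem _, fun e _ => by simp⟩
      mul_mem' := fun {a b} ha hb => ⟨mul_mem ha.1 hb.1, fun e he => by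
        rw [show ⁅e, a * b⁆ = ⁅e, a⁆ * (a * ⁅e, b⁆ * a⁻¹) by simp [commutatorElement_def, mul_assoc]]
        exact mul_mem (ha.2 e he) (H75.conj_mem_of_mem_normalizer (hRM ha.1) (hb.2 e he))⟩
      inv_mem' := fun {a} ha => ⟨inv_mem ha.1, fun e he => by
        rw [show ⁅e, a⁻¹⁆ = a⁻¹ * ⁅e, a⁆⁻¹ * a by simp [commutatorElement_def, mul_assoc]]
        exact H75.conj'_mem_of_mem_normalizer (hRM ha.1) (inv_mem (ha.2 e he))⟩ }
  have hMD : M ≤ D := fun m hm => ⟨hMR hm, fun e he => mul_mem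
    (H75.conj_mem_of_mem_normalizer (hEM he) hm) (inv_mem hm)⟩
  have hRD : R ≤ normalizer (D : Set G) := by
    rw [le_normalizer_iff]
    intro r hr d hd
    have : ⁅r, d⁆ ∈ D := hMD (mem_sup_right (commutator_mem_commutator hr hd.1))
    simpa [commutatorElement_def] using mul_mem this hd
  have hnD : ∀ {X : Subgroup G}, X ≤ normalizer (R : Set G) → X ≤ normalizer (E : Set G) →
      X ≤ normalizer (M : Set G) → X ≤ normalizer (D : Set G) := by
    intro X hXR hXE hXM
    rw [le_normalizer_iff]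
    intro x hx d hd
    refine ⟨H75.conj_mem_of_mem_normalizer (hXR hx) hd.1, fun e he => ?_⟩
    rw [show ⁅e, x * d * x⁻¹⁆ = x * ⁅x⁻¹ * e * x, d⁆ * x⁻¹ by
      simp [commutatorElement_def, mul_assoc]]
    exact H75.conj_mem_of_mem_normalizer (hXM hx)
      (hd.2 _ (H75.conj'_mem_of_mem_normalizer (hXE hx) he))
  have hED := hnD hER le_normalizer hEM
  have hBD := hnD hBR hBE hBM
  have hBfix : ∀ b ∈ B, ∀ r ∈ R, ⁅b, r⁆ ∈ D := by
    intro b hb r hr
    have h1 : ⁅b, r⁆ ∈ R := mul_mem (H75.conj_mem_of_mem_normalizer (hBR hb) hr) (inv_mem hr)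
    have h2 : ⁅b, r⁆ ∈ B := by
      rw [show ⁅b, r⁆ = b * (r * b⁻¹ * r⁻¹) by simp [commutatorElement_def, mul_assoc]]
      exact mul_mem hb (H75.conj_mem_of_mem_normalizer (hRB hr) (inv_mem hb))
    refine ⟨h1, fun e he => mem_sup_left ⟨?_, ?_⟩⟩
    · exact R.mul_mem (H75.conj_mem_of_mem_normalizer (hER he) h1) (R.inv_mem h1)
    · exact hEB.le (commutator_mem_commutator he h2)
  have hEfix : ∀ e ∈ E, ∀ r ∈ R, ⁅e, r⁆ ∈ D := by
    let P : Subgroup G :=
      { carrier := {x | x ∈ E ∧ ∀ r ∈ R, ⁅x, r⁆ ∈ D}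
        one_mem' := ⟨one_mem _, fun r _ => by simp⟩
        mul_mem' := fun {a b} ha hb => ⟨mul_mem ha.1 hb.1, fun r hr => by
          rw [show ⁅a * b, r⁆ = a * ⁅b, r⁆ * a⁻¹ * ⁅a, r⁆ by
            simp [commutatorElement_def, mul_assoc]]
          exact mul_mem (H75.conj_mem_of_mem_normalizer (hED ha.1) (hb.2 r hr)) (ha.2 r hr)⟩
        inv_mem' := fun {a} ha => ⟨inv_mem ha.1, fun r hr => by
          rw [show ⁅a⁻¹, r⁆ = a⁻¹ * ⁅a, r⁆⁻¹ * a by simp [commutatorElement_def, mul_assoc]]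
          exact H75.conj'_mem_of_mem_normalizer (hED ha.1) (inv_mem (ha.2 r hr))⟩ }
    have hle : E ≤ P := by
      refine hEB.ge.trans (commutator_le.2 fun e he b hb => ⟨hEB.le (commutator_mem_commutator he hb),
        fun r hr => ?_⟩)
      have he' : e⁻¹ * r * e ∈ R := H75.conj'_mem_of_mem_normalizer (hER he) hr
      rw [show ⁅⁅e, b⁆, r⁆ = (e * b * e⁻¹) * ⁅b⁻¹, r⁆ * (e * b * e⁻¹)⁻¹ *
          (e * ⁅b, e⁻¹ * r * e⁆ * e⁻¹) by simp [commutatorElement_def, mul_assoc]]
      refine mul_mem (H75.conj_mem_of_mem_normalizer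
        (mul_mem (mul_mem (hED he) (hBD hb)) (inv_mem (hED he))) (hBfix _ (inv_mem hb) r hr)) ?_
      exact H75.conj_mem_of_mem_normalizer (hED he) (hBfix b hb _ he')
    exact fun e he => (hle he).2
  -- descend to `M`, then to `K`
  have hgen : ∀ T : Subgroup G, E ≤ normalizer (T : Set G) →
      (∀ e ∈ E, (orderOf e).Coprime p → ∀ r ∈ R, ⁅e, r⁆ ∈ T) → ⁅R, E⁆ ≤ T := by
    intro T hT h
    rw [← hE]
    refine H74.PRed.commutator_le_of_closure rfl (hE.le.trans hT) fun r hr x hx => ?_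
    rw [← commutatorElement_inv]
    exact inv_mem (h x hx.1 hx.2 r hr)
  have hstepM : ⁅R, E⁆ ≤ M := hgen M hEM fun e he heo r hr => by
    have hc := hEfix e he r hr
    exact mem_of_coprime_step hR heo hc.1 (hc.2 e he) (hEM he) (hRM hc.1)
  refine hgen K hEK fun e he heo r hr => ?_
  have hc : ⁅e, r⁆ ∈ M := by
    rw [← commutatorElement_inv]
    exact inv_mem (hstepM (commutator_mem_commutator hr he))
  refine mem_of_coprime_step hR heo (hMR hc) ?_ (hEK he) (hMK hc)
  have hc' := hc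
  rw [← SetLike.mem_coe, coe_mul_of_right_le_normalizer_left K F hFK] at hc'
  obtain ⟨k, hk, f, hf, hkf⟩ := hc'
  rw [← hkf, show ⁅e, k * f⁆ = ⁅e, k⁆ * (k * ⁅e, f⁆ * k⁻¹) by
    simp [commutatorElement_def, mul_assoc]]
  refine mul_mem (mul_mem (H75.conj_mem_of_mem_normalizer (hEK he) hk) (inv_mem hk))
    (H75.conj_mem_of_mem_normalizer (le_normalizer hk) ?_)
  rw [← commutatorElement_inv]
  exact inv_mem (inf_le_inf_right E hFR.le (hIH (commutator_mem_commutator hf he)))

/-- A `p`-group normalised by `B(T)` and by a block `E` has its commutator with `E` inside `E`. -/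
theorem commutator_block {T : Sylow p G} {E : Subgroup G}
    (hE : Cfsg.IsBaumannBlock p (T : Subgroup G) E) {R : Subgroup G} (hR : IsPGroup p R)
    (hBR : Cfsg.baumannSubgroupOf p (T : Subgroup G) ≤ normalizer (R : Set G))
    (hER : E ≤ normalizer (R : Set G)) : ⁅R, E⁆ ≤ R ⊓ E :=
  commutator_le_inf ((H75.map_pResidual_eq_resOf E).symm.trans hE.1) hE.2.1 R hR hER hBR
    (le_normalizer_baumann T hR hBR)

theorem le_normalizer_block {T : Sylow p G} {E : Subgroup G}
    (hE : Cfsg.IsBaumannBlock p (T : Subgroup G) E) {R : Subgroup G} (hR : IsPGroup p R)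
    (hBR : Cfsg.baumannSubgroupOf p (T : Subgroup G) ≤ normalizer (R : Set G))
    (hER : E ≤ normalizer (R : Set G)) : R ≤ normalizer (E : Set G) := by
  rw [le_normalizer_iff]
  intro r hr e he
  simpa [commutatorElement_def] using
    mul_mem (commutator_block hE hR hBR hER (commutator_mem_commutator hr he)).2 he

end H78.Block
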