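import Cfsg.Prelude.Def_BaumannBlocks
import Cfsg.Agent.H9.SLQuasi
import Cfsg.Agent.H37.Two

/-!
The sections occurring in blocks are irreducible and nontrivial.
-/

set_option autoImplicit false
set_option linter.unusedSectionVars false

open Subgroup Matrix
open scoped MatrixGroups commutatorElement

namespace H78.Block

variable {G : Type*} [Group G]

/-- `E` acts nontrivially and irreducibly on the section `U / U₀`. -/
structure IrredSection (E U U₀ : Subgroup G) : Prop where
  le : U₀ ≤ U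
  norm : E ≤ normalizer (U : Set G)
  irr : ∀ X : Subgroup G, U₀ ≤ X → X ≤ U → E ≤ normalizer (X : Set G) → X = U₀ ∨ X = U
  nontriv : ¬ ⁅U, E⁆ ≤ U₀

variable {F : Type*} [Field F]

theorem commutator_elem_mem (g h : SL(2, F)) : ⁅g, h⁆ ∈ commutator SL(2, F) := by
  rw [_root_.commutator_def]
  exact commutator_mem_commutator (mem_top g) (mem_top h)

/-- An additive subgroup of `F²` invariant under `SL₂(F)'` is trivial. -/
theorem sl2_irreducible [Finite F] (A : AddSubgroup (Fin 2 → F))
    (hA : ∀ g ∈ commutator SL(2, F), ∀ v ∈ A, (g : Matrix (Fin 2) (Fin 2) F).mulVec v ∈ A) :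
    A = ⊥ ∨ A = ⊤ := by
  by_cases hA0 : A = ⊥
  · exact Or.inl hA0
  right
  obtain ⟨v, hv, hv0⟩ := A.bot_or_exists_ne_zero.resolve_left hA0
  by_cases hsq : ∃ a : F, a ≠ 0 ∧ a ^ 2 ≠ 1
  · rw [Cfsg.Agent.H9.commutator_SL_eq_top_of_square hsq] at hA
    have up : ∀ (t : F), ∀ w ∈ A, (![t * w 1, 0] : Fin 2 → F) ∈ A := by
      intro t w hw
      have := A.sub_mem (hA (H37.upper2 t) trivial w hw) hw
      convert this using 1
      ext i
      fin_cases i <;> simp [Matrix.mulVec, dotProduct, Fin.sum_univ_two]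
    have low : ∀ (t : F), ∀ w ∈ A, (![0, t * w 0] : Fin 2 → F) ∈ A := by
      intro t w hw
      have := A.sub_mem (hA (H37.lower2 t) trivial w hw) hw
      convert this using 1
      ext i
      fin_cases i <;> simp [Matrix.mulVec, dotProduct, Fin.sum_univ_two]
    obtain ⟨w, hw, hw1⟩ : ∃ w ∈ A, w 1 ≠ 0 := by
      by_contra hcon
      push Not at hcon
      have h0 : v 0 ≠ 0 := fun h => hv0 (funext fun i => by fin_cases i <;> simp [h, hcon v hv])
      simpa [h0] using hcon _ (low 1 v hv)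
    have hx : ∀ s : F, (![s, 0] : Fin 2 → F) ∈ A := fun s => by
      simpa [hw1] using up (s / w 1) w hw
    have hy : ∀ s : F, (![0, s] : Fin 2 → F) ∈ A := fun s => by
      simpa using low s _ (hx 1)
    refine eq_top_iff.2 fun u _ => ?_
    have := A.add_mem (hx (u 0)) (hy (u 1))
    convert this using 1
    ext i
    fin_cases i <;> simp
  · push Not at hsq
    have hel : ∀ x : F, x = 0 ∨ x = 1 ∨ x = -1 := fun x => by
      by_cases hx : x = 0
      · exact Or.inl hx
      · exact Or.inr (sq_eq_one_iff.1 (hsq x hx))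
    set g : SL(2, F) := ⁅(H37.upper2 1 : SL(2, F)), (H37.lower2 1 : SL(2, F))⁆ with hg
    have hgv : (g : Matrix (Fin 2) (Fin 2) F).mulVec v = ![3 * v 0 - v 1, v 0] := by
      have : (g : Matrix (Fin 2) (Fin 2) F) = !![3, -1; 1, 0] := by
        rw [hg, commutatorElement_def]
        ext i j
        fin_cases i <;> fin_cases j <;>
          simp [Matrix.mul_apply, Fin.sum_univ_two, Matrix.SpecialLinearGroup.coe_inv,
            Matrix.adjugate_fin_two] <;> norm_num
      rw [this]
      ext i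
      fin_cases i <;> simp [Matrix.mulVec, dotProduct, Fin.sum_univ_two, sub_eq_add_neg]
    have hw := hA g (commutator_elem_mem _ _) v hv
    rw [hgv] at hw
    -- `v` and its image are independent
    have h5 : (5 : F) ≠ 0 := by
      intro h5
      apply one_ne_zero (α := F)
      rcases hel 2 with h2 | h2 | h2
      · linear_combination h5 - (2 : F) * h2
      · linear_combination h2
      · linear_combination (2 : F) * h2 - h5
    have hd : v 0 ^ 2 - 3 * v 0 * v 1 + v 1 ^ 2 ≠ 0 := by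
      intro h
      rcases hel (v 0) with h0 | h0 | h0 <;> rcases hel (v 1) with h1 | h1 | h1 <;>
        rw [h0, h1] at h <;>
        first
          | exact h5 (by linear_combination h)
          | exact one_ne_zero (α := F) (by linear_combination h)
          | exact one_ne_zero (α := F) (by linear_combination -h)
          | (apply hv0; funext i; fin_cases i <;> simp [h0, h1])
    have hzero : ∀ w ∈ A, ∀ c : F, c • w ∈ A := by
      intro w hw c
      rcases hel c with rfl | rfl | rfl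
      · simp
      · simpa using hw
      · simpa using A.neg_mem hw
    refine eq_top_iff.2 fun u _ => ?_
    set d := v 0 ^ 2 - 3 * v 0 * v 1 + v 1 ^ 2 with hdd
    have := A.add_mem (hzero v hv ((u 0 * v 0 - u 1 * (3 * v 0 - v 1)) / d))
      (hzero _ hw ((v 0 * u 1 - v 1 * u 0) / d))
    convert this using 1
    ext i
    fin_cases i <;> simp <;> field_simp <;> rw [hdd] <;> ring

theorem irred_of_sl2 [Finite F] {E U U₀ : Subgroup G}
    (h : Cfsg.ActsAsSL2OnSection F (commutator SL(2, F)) E U U₀) : IrredSection E U U₀ := by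
  obtain ⟨hEU, hle, ρ, ψ, hρ, hψ, hker, hact⟩ := h
  refine ⟨hle, hEU, fun X hX hXU hEX => ?_, ?_⟩
  · let A : AddSubgroup (Fin 2 → F) := Subgroup.toAddSubgroup' ((X.subgroupOf U).map ψ)
    have hA : ∀ g ∈ commutator SL(2, F), ∀ v ∈ A,
        (g : Matrix (Fin 2) (Fin 2) F).mulVec v ∈ A := by
      intro g hg v hv
      rw [← hρ] at hg
      obtain ⟨e, rfl⟩ := hg
      obtain ⟨x, hx, hxv⟩ := (hv : Multiplicative.ofAdd v ∈ (X.subgroupOf U).map ψ)
      obtain ⟨w, hw, hwv⟩ := hact e x
      refine (?_ : Multiplicative.ofAdd _ ∈ (X.subgroupOf U).map ψ)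
      refine ⟨w, mem_subgroupOf.2 (hw ▸ (mem_normalizer_iff.1 (hEX e.2) x).1 hx), ?_⟩
      apply Multiplicative.toAdd.injective
      rw [hwv, hxv]
      rfl
    rcases sl2_irreducible A hA with h0 | h1
    · left
      refine le_antisymm (fun x hx => ?_) hX
      have : Multiplicative.toAdd (ψ ⟨x, hXU hx⟩) ∈ A :=
        (⟨_, mem_subgroupOf.2 hx, rfl⟩ : Multiplicative.ofAdd _ ∈ (X.subgroupOf U).map ψ)
      rw [h0, AddSubgroup.mem_bot, toAdd_eq_zero] at this
      exact (hker _).1 this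
    · right
      refine le_antisymm hXU fun u hu => ?_
      obtain ⟨x, hx, hxu⟩ := (h1 ▸ AddSubgroup.mem_top _ :
        Multiplicative.toAdd (ψ ⟨u, hu⟩) ∈ A)
      have : ((x : U) : G)⁻¹ * u ∈ U₀ := (hker (x⁻¹ * ⟨u, hu⟩)).1 (by
        rw [map_mul, map_inv, hxu]
        exact inv_mul_cancel _)
      simpa using X.mul_mem hx (hX this)
  · intro hle'
    -- `ρ` would be trivial
    set g : SL(2, F) := ⁅(H37.upper2 1 : SL(2, F)), (H37.lower2 1 : SL(2, F))⁆ with hg
    obtain ⟨e, he⟩ := (hρ ▸ commutator_elem_mem _ _ : g ∈ ρ.range)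
    obtain ⟨u, hu⟩ := hψ (Multiplicative.ofAdd ![0, 1])
    obtain ⟨w, hw, hwu⟩ := hact e u
    have hwψ : ψ w = ψ u := by
      rw [← mul_inv_eq_one, ← map_inv, ← map_mul, hker]
      have h2 : ⁅(e : G), (u : G)⁆ ∈ ⁅U, E⁆ := by
        rw [commutator_comm]
        exact commutator_mem_commutator e.2 u.2
      simpa [hw, commutatorElement_def] using hle' h2
    rw [hwψ, hu, toAdd_ofAdd, he, hg] at hwu
    have h0 := congrFun hwu 0
    simp [commutatorElement_def, Matrix.mulVec, dotProduct, Fin.sum_univ_two, Matrix.mul_apply,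
      Matrix.SpecialLinearGroup.coe_inv, Matrix.adjugate_fin_two] at h0

/-- An invariant subgroup of the even vectors of odd degree. -/
theorem alt_irreducible {m : ℕ} (hm : 1 ≤ m) (A : AddSubgroup (Fin (2 * m + 1) → ZMod 2))
    (heven : ∀ v ∈ A, ∑ i, v i = 0)
    (hA : ∀ σ ∈ alternatingGroup (Fin (2 * m + 1)), ∀ v ∈ A, (fun i => v (σ⁻¹ i)) ∈ A) :
    A = ⊥ ∨ ∀ v : Fin (2 * m + 1) → ZMod 2, ∑ i, v i = 0 → v ∈ A := by
  classical
  by_cases hA0 : A = ⊥
  · exact Or.inl hA0
  right
  obtain ⟨v, hv, hv0⟩ := A.bot_or_exists_ne_zero.resolve_left hA0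
  have h01 : ∀ x : ZMod 2, x = 0 ∨ x = 1 := by decide
  let pr : Fin (2 * m + 1) → Fin (2 * m + 1) → (Fin (2 * m + 1) → ZMod 2) :=
    fun a b => Pi.single a 1 + Pi.single b 1
  have cyc : ∀ a b c : Fin (2 * m + 1), a ≠ b → a ≠ c → b ≠ c →
      ∀ w ∈ A, (fun i => w ((Equiv.swap a b * Equiv.swap a c)⁻¹ i)) ∈ A := fun a b c h1 h2 _ w hw =>
    hA _ (by
      rw [Equiv.Perm.mem_alternatingGroup, map_mul, Equiv.Perm.sign_swap h1,
        Equiv.Perm.sign_swap h2]
      rfl) w hw
  -- a single pair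
  obtain ⟨i, hi⟩ : ∃ i, v i = 1 := by
    by_contra hcon
    push Not at hcon
    exact hv0 (funext fun i => (h01 (v i)).resolve_right (hcon i))
  obtain ⟨j, hj⟩ : ∃ j, v j = 0 := by
    by_contra hcon
    push Not at hcon
    have h := heven v hv
    simp [fun i => (h01 (v i)).resolve_left (hcon i), CharTwo.two_eq_zero (R := ZMod 2)] at h
  have hij : i ≠ j := fun h => by rw [h, hj] at hi; exact zero_ne_one hi
  obtain ⟨k, hki, hkj⟩ : ∃ k, k ≠ i ∧ k ≠ j := by
    obtain ⟨k, hk⟩ : ((Finset.univ.erase i).erase j).Nonempty := Finset.card_pos.1 (by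
      rw [Finset.card_erase_of_mem (by simp [hij.symm]), Finset.card_erase_of_mem (by simp),
        Finset.card_univ, Fintype.card_fin]
      omega)
    simp at hk
    exact ⟨k, hk.2, hk.1⟩
  have hvk := A.add_mem hv (cyc i j k hij hki.symm hkj.symm v hv)
  obtain ⟨a, b, hab, hpab⟩ : ∃ a b, a ≠ b ∧ pr a b ∈ A := by
    rcases h01 (v k) with h | h
    · refine ⟨i, k, hki.symm, ?_⟩
      convert hvk using 1
      funext x
      simp only [pr, Pi.add_apply, _root_.mul_inv_rev, Equiv.swap_inv, Equiv.Perm.mul_apply]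
      rcases eq_or_ne x i with rfl | hxi
      · simp [Equiv.swap_apply_of_ne_of_ne, hi, hj, hij, hki, hkj, hki.symm, hkj.symm, h, hij.symm]
      rcases eq_or_ne x j with rfl | hxj
      · simp [Equiv.swap_apply_of_ne_of_ne, hi, hj, hki, hkj, hki.symm, hkj.symm, h, hij.symm, hij]
      rcases eq_or_ne x k with rfl | hxk
      · simp [Equiv.swap_apply_of_ne_of_ne, hi, hj, hki, hkj, hki.symm, hkj.symm, h, hij.symm, hij]
      simp [Equiv.swap_apply_of_ne_of_ne hxi hxk, Equiv.swap_apply_of_ne_of_ne hxi hxj, hxi, hxj, hxk,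
        CharTwo.add_self_eq_zero]
    · refine ⟨i, j, hij, ?_⟩
      convert hvk using 1
      funext x
      simp only [pr, Pi.add_apply, _root_.mul_inv_rev, Equiv.swap_inv, Equiv.Perm.mul_apply]
      rcases eq_or_ne x i with rfl | hxi
      · simp [Equiv.swap_apply_of_ne_of_ne, hi, hj, hij, hki, hkj, hki.symm, hkj.symm, h, hij.symm, CharTwo.add_self_eq_zero]
      rcases eq_or_ne x j with rfl | hxj
      · simp [Equiv.swap_apply_of_ne_of_ne, hi, hj, hki, hkj, hki.symm, hkj.symm, h, hij.symm, hij, CharTwo.add_self_eq_zero]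
      rcases eq_or_ne x k with rfl | hxk
      · simp [Equiv.swap_apply_of_ne_of_ne, hi, hj, hki, hkj, hki.symm, hkj.symm, h, hij.symm, hij, CharTwo.add_self_eq_zero]
      simp [Equiv.swap_apply_of_ne_of_ne hxi hxk, Equiv.swap_apply_of_ne_of_ne hxi hxj, hxk, hxj, hxi,
        CharTwo.add_self_eq_zero]
  -- all pairs at `a`
  have hpa : ∀ c, pr a c ∈ A := by
    intro c
    rcases eq_or_ne c a with rfl | hca
    · convert A.zero_mem using 1
      funext x
      simp [pr, CharTwo.add_self_eq_zero]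
    rcases eq_or_ne c b with rfl | hcb
    · exact hpab
    convert A.add_mem hpab (cyc a c b hca.symm hab hcb _ hpab) using 1
    funext x
    simp only [pr, Pi.add_apply, _root_.mul_inv_rev, Equiv.swap_inv, Equiv.Perm.mul_apply]
    rcases eq_or_ne x a with rfl | hxa
    · simp [hab, hab.symm, hca, hca.symm, hcb, hcb.symm, Equiv.swap_apply_of_ne_of_ne]
    rcases eq_or_ne x b with rfl | hxb
    · simp [hab, hab.symm, hca, hca.symm, hcb, hcb.symm, Equiv.swap_apply_of_ne_of_ne,
        CharTwo.add_self_eq_zero]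
    rcases eq_or_ne x c with rfl | hxc
    · simp [hab, hab.symm, hca, hca.symm, hcb, hcb.symm, Equiv.swap_apply_of_ne_of_ne]
    simp [hxa, hxb, hxc, Equiv.swap_apply_of_ne_of_ne]
  intro u hu
  have : u = ∑ c, (if u c = 1 then pr a c else 0) := by
    funext x
    simp only [Finset.sum_apply, apply_ite (fun f : Fin (2 * m + 1) → ZMod 2 => f x)]
    have hterm : ∀ c, (if u c = 1 then pr a c x else (0 : Fin (2 * m + 1) → ZMod 2) x) =
        u c * (Pi.single a 1 : Fin (2 * m + 1) → ZMod 2) x + (Pi.single c (u c) : _ → ZMod 2) x := by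
      intro c
      rcases h01 (u c) with h | h <;> simp [h, pr]
    rw [Finset.sum_congr rfl fun c _ => hterm c, Finset.sum_add_distrib, ← Finset.sum_mul, hu,
      zero_mul, zero_add, Finset.sum_pi_single x u Finset.univ]
    simp
  rw [this]
  exact A.sum_mem fun c _ => by
    split
    · exact hpa c
    · exact A.zero_mem

theorem irred_of_alt {m : ℕ} (hm : 1 ≤ m) {E U U₀ : Subgroup G}
    (h : Cfsg.ActsAsOddPermModuleOnSection (2 * m + 1) (alternatingGroup (Fin (2 * m + 1))) E U U₀) :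
    IrredSection E U U₀ := by
  obtain ⟨hEU, hle, ρ, ψ, hρ, heven, hsurj, hker, hact⟩ := h
  refine ⟨hle, hEU, fun X hX hXU hEX => ?_, ?_⟩
  · let A : AddSubgroup (Fin (2 * m + 1) → ZMod 2) :=
      Subgroup.toAddSubgroup' ((X.subgroupOf U).map ψ)
    have hA1 : ∀ v ∈ A, ∑ i, v i = 0 := by
      intro v hv
      obtain ⟨x, -, hxv⟩ := (hv : Multiplicative.ofAdd v ∈ (X.subgroupOf U).map ψ)
      have := heven x
      rwa [hxv] at this
    have hA2 : ∀ σ ∈ alternatingGroup (Fin (2 * m + 1)), ∀ v ∈ A,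
        (fun i => v (σ⁻¹ i)) ∈ A := by
      intro g hg v hv
      rw [← hρ] at hg
      obtain ⟨e, rfl⟩ := hg
      obtain ⟨x, hx, hxv⟩ := (hv : Multiplicative.ofAdd v ∈ (X.subgroupOf U).map ψ)
      obtain ⟨w, hw, hwv⟩ := hact e x
      refine (?_ : Multiplicative.ofAdd _ ∈ (X.subgroupOf U).map ψ)
      refine ⟨w, mem_subgroupOf.2 (hw ▸ (mem_normalizer_iff.1 (hEX e.2) x).1 hx), ?_⟩
      apply Multiplicative.toAdd.injective
      funext i
      rw [hwv i, hxv]
      rfl
    rcases alt_irreducible hm A hA1 hA2 with h0 | h1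
    · left
      refine le_antisymm (fun x hx => ?_) hX
      have : Multiplicative.toAdd (ψ ⟨x, hXU hx⟩) ∈ A :=
        (⟨_, mem_subgroupOf.2 hx, rfl⟩ : Multiplicative.ofAdd _ ∈ (X.subgroupOf U).map ψ)
      rw [h0, AddSubgroup.mem_bot, toAdd_eq_zero] at this
      exact (hker _).1 this
    · right
      refine le_antisymm hXU fun u hu => ?_
      obtain ⟨x, hx, hxu⟩ := (h1 _ (heven ⟨u, hu⟩) : Multiplicative.toAdd (ψ ⟨u, hu⟩) ∈ A)
      have : ((x : U) : G)⁻¹ * u ∈ U₀ := (hker (x⁻¹ * ⟨u, hu⟩)).1 (by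
        rw [map_mul, map_inv, hxu]
        exact inv_mul_cancel _)
      simpa using X.mul_mem hx (hX this)
  · intro hle'
    classical
    have h2m : 2 < 2 * m + 1 := by omega
    set a : Fin (2 * m + 1) := ⟨0, by omega⟩
    set b : Fin (2 * m + 1) := ⟨1, by omega⟩
    set c : Fin (2 * m + 1) := ⟨2, h2m⟩
    have hab : a ≠ b := by simp [a, b, Fin.ext_iff]
    have hac : a ≠ c := by simp [a, c, Fin.ext_iff]
    have hbc : b ≠ c := by simp [b, c, Fin.ext_iff]
    set σ := Equiv.swap a b * Equiv.swap a c with hσ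
    have hσm : σ ∈ alternatingGroup (Fin (2 * m + 1)) := by
      rw [Equiv.Perm.mem_alternatingGroup, map_mul, Equiv.Perm.sign_swap hab,
        Equiv.Perm.sign_swap hac]
      rfl
    obtain ⟨e, he⟩ := (hρ ▸ hσm : σ ∈ ρ.range)
    obtain ⟨u, hu⟩ := hsurj (Pi.single a 1 + Pi.single b 1) (by
      simp [Finset.sum_add_distrib, CharTwo.add_self_eq_zero])
    obtain ⟨w, hw, hwu⟩ := hact e u
    have hwψ : ψ w = ψ u := by
      rw [← mul_inv_eq_one, ← map_inv, ← map_mul, hker]
      have h2 : ⁅(e : G), (u : G)⁆ ∈ ⁅U, E⁆ := by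
        rw [commutator_comm]
        exact commutator_mem_commutator e.2 u.2
      simpa [hw, commutatorElement_def] using hle' h2
    have h0 := hwu c
    rw [hwψ, hu, he] at h0
    have hinv : σ⁻¹ c = a := by
      simp [hσ, _root_.mul_inv_rev, Equiv.swap_inv, Equiv.swap_apply_of_ne_of_ne hac.symm hbc.symm]
    rw [hinv] at h0
    simp [hab, hac.symm, hbc.symm] at h0

end H78.Block
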