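import Cfsg.Agent.H78.BlockBasic
import Cfsg.Agent.H78.BlockModule
import Cfsg.Agent.H78.PushingUpMCL

/-!
The structure of a single block.
-/

set_option autoImplicit false
set_option linter.unusedSectionVars false

open Subgroup
open scoped Pointwise commutatorElement

namespace H78.Block

variable {G : Type*} [Group G] [Finite G] {p : ℕ} [Fact p.Prime]

omit [Finite G] [Fact p.Prime] in
theorem normalizer_le_normalizer_omegaOne (A : Subgroup G) :
    normalizer (A : Set G) ≤ normalizer (Cfsg.omegaOne p A : Set G) := by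
  rw [le_normalizer_iff]
  intro g hg x hx
  refine (?_ : Cfsg.omegaOne p A ≤ (Cfsg.omegaOne p A).comap (MulAut.conj g).toMonoidHom) hx
  refine (closure_le _).2 fun y hy => subset_closure ⟨H75.conj_mem_of_mem_normalizer hg hy.1, ?_⟩
  simp only [MulEquiv.coe_toMonoidHom, MulAut.conj_apply, conj_pow, hy.2]
  group

omit [Finite G] [Fact p.Prime] in
theorem normalizer_le_normalizer_omegaOneCenter (A : Subgroup G) :
    normalizer (A : Set G) ≤ normalizer (Cfsg.omegaOneCenter p A : Set G) :=
  ((le_inf le_rfl (H75.normalizer_le_normalizer_centralizer A)).trans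
    (H75.normalizer_inf_le_normalizer_inf _ _)).trans (normalizer_le_normalizer_omegaOne _)

omit [Finite G] [Fact p.Prime] in
theorem mem_omegaOneCenter {A : Subgroup G} {x : G} :
    x ∈ Cfsg.omegaOneCenter p A ↔ (x ∈ A ∧ x ∈ centralizer (A : Set G)) ∧ x ^ p = 1 :=
  H78.PU.mem_omegaOne_of_comm (inf_le_right.trans (centralizer_le (SetLike.coe_subset_coe.2 inf_le_left)))

/-- The subgroup `W_E`. -/
abbrev modE (p : ℕ) (E : Subgroup G) : Subgroup G :=
  ⁅Cfsg.omegaOneCenter p (Cfsg.pCoreOf p E), E⁆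

/-- The properties of a block that do not depend on its type. -/
structure Facts (p : ℕ) (T E : Subgroup G) : Prop where
  res : H75.resOf p E = E
  comm : ⁅E, Cfsg.baumannSubgroupOf p T⁆ = E
  core : ⁅Cfsg.pCoreOf p E, E⁆ = Cfsg.pCoreOf p E
  omega : ⁅E, Cfsg.omegaOneCenter p T⁆ ≠ ⊥
  irrW : IrredSection E (Cfsg.omegaOneCenter p (Cfsg.pCoreOf p E))
    (Cfsg.omegaOneCenter p (Cfsg.pCoreOf p E) ⊓ centralizer (E : Set G))
  irrQ : Cfsg.pCoreOf p E = Cfsg.omegaOneCenter p (Cfsg.pCoreOf p E) ∨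
    IrredSection E (Cfsg.pCoreOf p E) (Cfsg.omegaOneCenter p (Cfsg.pCoreOf p E))

theorem facts_of_block {T E : Subgroup G} (hE : Cfsg.IsBaumannBlock p T E) : Facts p T E := by
  obtain ⟨h1, h2, h3, h4, h5⟩ := hE
  have hres : H75.resOf p E = E := (H75.map_pResidual_eq_resOf E).symm.trans h1
  rcases h5 with ⟨F, hFi, hFf, n, hF, -, hW, hQ⟩ | ⟨-, m, hiso, hW, hQ⟩
  · exact ⟨hres, h2, h3, h4, irred_of_sl2 hW, hQ.imp id fun h => irred_of_sl2 h.2.1⟩
  · refine ⟨hres, h2, h3, h4, ?_, Or.inl hQ⟩
    rcases Nat.eq_zero_or_pos m with rfl | hm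
    · exfalso
      obtain ⟨e⟩ := hiso
      have hsub : Subsingleton (Equiv.Perm (Fin (2 * 0 + 1))) :=
        ⟨fun a b => Equiv.ext fun x => Fin.ext (by omega)⟩
      have htop : Cfsg.pCore p E = ⊤ := by
        have := H1.pCore_normal' p E
        refine eq_top_iff.2 fun x _ => (QuotientGroup.eq_one_iff x).1 (e.injective ?_)
        exact Subtype.ext (Subsingleton.elim _ _)
      have hp : IsPGroup p E :=
        (htop ▸ H1.isPGroup_pCore p E : IsPGroup p (⊤ : Subgroup E)).of_equiv Subgroup.topEquiv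
      have hbot : E = ⊥ := by
        rw [← hres, eq_bot_iff]
        exact (closure_le _).2 fun x hx => H75.eq_one_of_mem_of_coprime hp hx.1 hx.2
      exact h4 (by rw [hbot, commutator_bot_left])
    · exact irred_of_alt hm hW

namespace Facts

variable {T E : Subgroup G}

theorem mod_le (h : Facts p T E) : modE p E ≤ Cfsg.omegaOneCenter p (Cfsg.pCoreOf p E) := by
  refine commutator_le.2 fun w hw e he => ?_
  rw [commutatorElement_def, mul_assoc, mul_assoc]
  refine mul_mem hw ?_
  rw [← mul_assoc]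
  exact H75.conj_mem_of_mem_normalizer (h.irrW.norm he) (inv_mem hw)

/-- An invariant subgroup of `W` not centralised by `E` contains `W_E`. -/
theorem mod_min (h : Facts p T E) {X : Subgroup G}
    (hX : X ≤ Cfsg.omegaOneCenter p (Cfsg.pCoreOf p E)) (hEX : E ≤ normalizer (X : Set G))
    (hne : ¬ X ≤ centralizer (E : Set G)) : modE p E ≤ X := by
  set W := Cfsg.omegaOneCenter p (Cfsg.pCoreOf p E) with hW
  set Z := W ⊓ centralizer (E : Set G) with hZ
  have hEZ : E ≤ normalizer (Z : Set G) :=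
    (le_inf h.irrW.norm (le_normalizer.trans (H75.normalizer_le_normalizer_centralizer E))).trans
      (H75.normalizer_inf_le_normalizer_inf _ _)
  have hWab : W ≤ centralizer (W : Set G) := fun x hx y hy =>
    (mem_omegaOneCenter.1 hx).1.2 y (mem_omegaOneCenter.1 hy).1.1
  have heq : X ⊔ Z = W := (h.irrW.irr _ le_sup_right (sup_le hX inf_le_left)
    ((le_inf hEX hEZ).trans (H75.normalizer_inf_le_normalizer_sup _ _))).resolve_left
      fun he => hne ((le_sup_left.trans he.le).trans inf_le_right)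
  refine commutator_le.2 fun w hw e he => ?_
  have hXZ : X ≤ normalizer (Z : Set G) :=
    ((hX.trans hWab).trans (centralizer_le (SetLike.coe_subset_coe.2 inf_le_left))).trans
      (centralizer_le_normalizer _)
  have hw' : w ∈ X ⊔ Z := heq.ge hw
  rw [← SetLike.mem_coe, coe_mul_of_left_le_normalizer_right X Z hXZ] at hw'
  obtain ⟨x, hx, z, hz, rfl⟩ := hw'
  rw [show ⁅x * z, e⁆ = x * ⁅z, e⁆ * x⁻¹ * ⁅x, e⁆ by simp [commutatorElement_def, mul_assoc],
    commutatorElement_eq_one_iff_mul_comm.2 (hz.2 e he).symm, mul_one, mul_inv_cancel, one_mul,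
    commutatorElement_def, mul_assoc, mul_assoc]
  refine mul_mem hx ?_
  rw [← mul_assoc]
  exact H75.conj_mem_of_mem_normalizer (hEX he) (inv_mem hx)

/-- `W = W_E Z`. -/
theorem mod_sup (h : Facts p T E) :
    modE p E ⊔ (Cfsg.omegaOneCenter p (Cfsg.pCoreOf p E) ⊓ centralizer (E : Set G)) =
      Cfsg.omegaOneCenter p (Cfsg.pCoreOf p E) := by
  set W := Cfsg.omegaOneCenter p (Cfsg.pCoreOf p E) with hW
  refine (h.irrW.irr _ le_sup_right (sup_le h.mod_le inf_le_left) ?_).resolve_left fun he =>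
    h.irrW.nontriv (le_sup_left.trans he.le)
  exact (le_inf (H1.right_le_normalizer_commutator)
    ((le_inf h.irrW.norm (le_normalizer.trans (H75.normalizer_le_normalizer_centralizer E))).trans
      (H75.normalizer_inf_le_normalizer_inf _ _))).trans (H75.normalizer_inf_le_normalizer_sup _ _)

/-- `W_E` is not centralised by `E`. -/
theorem not_mod_le_centralizer (h : Facts p T E) : ¬ modE p E ≤ centralizer (E : Set G) := fun hle =>
  h.irrW.nontriv ((le_inf h.mod_le hle).trans le_rfl)

/-- If `E` fixes every `⁅e, a⁆`, a `p`-element, it fixes `a`. -/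
theorem commute_of_fixed (h : Facts p T E) {P : Subgroup G} (hP : IsPGroup p P) {a : G}
    (h1 : ∀ e ∈ E, ⁅e, a⁆ ∈ P) (h2 : ∀ e ∈ E, ⁅e, a⁆ ∈ centralizer (E : Set G)) :
    ∀ e ∈ E, Commute e a := by
  have : E ≤ centralizer ({a} : Set G) := h.res.ge.trans ((closure_le _).2 fun e he =>
    mem_centralizer_singleton_iff.2
      (H75.commute_of_coprime_step hP he.2 (h1 e he.1) (h2 e he.1 e he.1)).eq)
  exact fun e he => mem_centralizer_singleton_iff.1 (this he)

/-- `W_E ≤ Ω₁(Z(O_p(G)))`. -/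
theorem mod_le_omega {T : Sylow p G} {E : Subgroup G} (h : Facts p (T : Subgroup G) E)
    (hG : centralizer (Cfsg.pCore p G : Set G) ≤ Cfsg.pCore p G)
    (hPE : Cfsg.pCore p G ≤ normalizer (E : Set G)) :
    modE p E ≤ Cfsg.omegaOneCenter p (Cfsg.pCore p G) := by
  set P0 := Cfsg.pCore p G with hP0
  set Q := Cfsg.pCoreOf p E with hQ
  set W := Cfsg.omegaOneCenter p Q with hW
  set V := Cfsg.omegaOneCenter p P0 with hV
  have := H1.pCore_normal' p G
  have hVn : ∀ g : G, g ∈ normalizer (V : Set G) := fun g =>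
    normalizer_le_normalizer_omegaOneCenter _ (by rw [normalizer_eq_top]; trivial)
  set U := E ⊓ V with hU
  have hUp : IsPGroup p U := (H1.isPGroup_pCore p G).to_le
    fun x hx => (mem_omegaOneCenter.1 hx.2).1.1
  have hEU : E ≤ normalizer (U : Set G) :=
    (le_inf le_normalizer fun g _ => hVn g).trans (H75.normalizer_inf_le_normalizer_inf _ _)
  have hUQ : U ≤ Q := H75.le_pCoreOf inf_le_left hEU hUp
  have hUW : U ≤ W := by
    rcases h.irrQ with hq | hq
    · exact hUQ.trans hq.le
    · rcases hq.irr (U ⊔ W) le_sup_right (sup_le hUQ hq.le)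
        ((le_inf hEU h.irrW.norm).trans (H75.normalizer_inf_le_normalizer_sup _ _)) with he | he
      · exact le_sup_left.trans he.le
      · have hUab : U ≤ centralizer (U : Set G) := fun x hx y hy =>
          (mem_omegaOneCenter.1 hx.2).1.2 y (mem_omegaOneCenter.1 hy.2).1.1
        have hWc : W ≤ centralizer (Q : Set G) := fun x hx => (mem_omegaOneCenter.1 hx).1.2
        intro x hx
        refine mem_omegaOneCenter.2 ⟨⟨hUQ hx, ?_⟩, (mem_omegaOneCenter.1 hx.2).2⟩
        intro q hq'
        have : U ⊔ W ≤ centralizer ({x} : Set G) := sup_le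
          (fun u hu => mem_centralizer_singleton_iff.2 (hUab hx u hu))
          (fun w hw => mem_centralizer_singleton_iff.2 (hWc hw x (hUQ hx)).symm)
        exact mem_centralizer_singleton_iff.1 (this (he.ge hq'))
  refine (h.mod_min hUW hEU fun hle => h.omega ?_).trans inf_le_right
  rw [eq_bot_iff, commutator_le]
  intro e he z hz
  obtain ⟨⟨hzT, hzC⟩, hzp⟩ := mem_omegaOneCenter.1 hz
  have hz0 : z ∈ centralizer (P0 : Set G) := fun y hy => hzC y (H1.pCore_le_sylow T hy)
  have hzV : z ∈ V := mem_omegaOneCenter.2 ⟨⟨hG hz0, hz0⟩, hzp⟩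
  have hin : ∀ a ∈ E, ⁅a, z⁆ ∈ U := fun a ha => ⟨by
    rw [commutatorElement_def, mul_assoc, mul_assoc]
    refine mul_mem ha ?_
    rw [← mul_assoc]
    exact H75.conj_mem_of_mem_normalizer (hPE (hG hz0)) (inv_mem ha),
    V.mul_mem (H75.conj_mem_of_mem_normalizer (hVn a) hzV) (V.inv_mem hzV)⟩
  rw [mem_bot]
  exact commutatorElement_eq_one_iff_commute.2
    (h.commute_of_fixed hUp hin (fun a ha => hle (hin a ha)) e he)

/-- `W_E` is not centralised by `J(T)`. -/
theorem mod_not_fixed {T : Sylow p G} {E : Subgroup G} (h : Facts p (T : Subgroup G) E)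
    (hV : modE p E ≤ Cfsg.omegaOneCenter p (Cfsg.pCore p G)) :
    ⁅modE p E, Cfsg.thompsonSubgroupOf p (T : Subgroup G)⁆ ≠ ⊥ := by
  intro hbot
  rw [commutator_eq_bot_iff_le_centralizer, H11.thompsonSubgroupOf_eq] at hbot
  set W := Cfsg.omegaOneCenter p (Cfsg.pCoreOf p E) with hW
  have hel : Cfsg.IsElementaryAbelian p (modE p E) :=
    ⟨H11.isMulCommutative_of_commute fun x hx y hy =>
      ((mem_omegaOneCenter.1 (h.mod_le hx)).1.2 y (mem_omegaOneCenter.1 (h.mod_le hy)).1.1).symm,
      fun x hx => (mem_omegaOneCenter.1 (h.mod_le hx)).2⟩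
  have hWT : modE p E ≤ (T : Subgroup G) :=
    hV.trans fun x hx => H1.pCore_le_sylow T (mem_omegaOneCenter.1 hx).1.1
  have hle : modE p E ≤ sInf (maxEl p (T : Subgroup G)) := by
    refine le_sInf fun A hA w hw => ?_
    refine H11.mem_of_commute_maxFam_elem hA (hWT hw) (hel.2 w hw) fun a ha => ?_
    exact hbot hw a (le_sSup (α := Subgroup G) hA ha)
  have hB : Cfsg.baumannSubgroupOf p (T : Subgroup G) ≤
      centralizer ((modE p E : Subgroup G) : Set G) := by
    rw [baumann_eq']
    exact inf_le_right.trans (centralizer_le hle)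
  apply h.not_mod_le_centralizer
  rw [le_centralizer_iff]
  refine h.comm.ge.trans (commutator_le.2 fun e he b hb w hw => ?_)
  have h1 : b⁻¹ * w = w * b⁻¹ := (hB (inv_mem hb) w hw).symm
  have hw' : e⁻¹ * w * e ∈ modE p E :=
    H75.conj'_mem_of_mem_normalizer (H1.right_le_normalizer_commutator he) hw
  have h2 : b * (e⁻¹ * w * e) = e⁻¹ * w * e * b := (hB hb _ hw').symm
  rw [commutatorElement_def]
  calc w * (e * b * e⁻¹ * b⁻¹) = e * (e⁻¹ * w * e * b) * e⁻¹ * b⁻¹ := by group
    _ = e * b * e⁻¹ * (w * b⁻¹) := by rw [← h2]; group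
    _ = e * b * e⁻¹ * (b⁻¹ * w) := by rw [h1]
    _ = _ := by group

end Facts

/-- The `p`-core of `G` normalises a block. -/
theorem pCore_le_normalizer {T : Sylow p G} {E : Subgroup G}
    (hE : Cfsg.IsBaumannBlock p (T : Subgroup G) E) :
    Cfsg.pCore p G ≤ normalizer (E : Set G) := by
  have := H1.pCore_normal' p G
  exact le_normalizer_block hE (H1.isPGroup_pCore p G) le_normalizer_of_normal
    le_normalizer_of_normal

theorem resOf_sup_pCore {T : Sylow p G} {E : Subgroup G}
    (hE : Cfsg.IsBaumannBlock p (T : Subgroup G) E) :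
    H75.resOf p (E ⊔ Cfsg.pCore p G) = E :=
  le_antisymm (H75.resOf_le_of_sup (sup_le le_normalizer (pCore_le_normalizer hE))
    (H1.isPGroup_pCore p G) rfl)
    ((facts_of_block hE).res.ge.trans (H75.resOf_mono le_sup_left))

end H78.Block
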