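import Cfsg.Agent.H78.BlockLinearAct

/-!
`2'`-elements normalising an alternating block act on its module as elements of the block.
-/

set_option autoImplicit false
set_option linter.unusedSectionVars false

open Subgroup
open scoped commutatorElement

namespace H78.Block

/-- The complement of a point. -/
def coPoint {m : ℕ} (i : Fin (2 * m + 1)) : evenVec (2 * m + 1) :=
  ⟨fun j => 1 + (Pi.single i 1 : Fin (2 * m + 1) → ZMod 2) j, by
    show ∑ j, (1 + (Pi.single i 1 : Fin (2 * m + 1) → ZMod 2) j) = 0
    rw [Finset.sum_add_distrib, Finset.sum_pi_single', if_pos (Finset.mem_univ i),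
      Finset.sum_const, Finset.card_univ, Fintype.card_fin, nsmul_one]
    push_cast
    have : (2 : ZMod 2) = 0 := rfl
    rw [this]
    simp
    rfl⟩

theorem coPoint_apply {m : ℕ} (i j : Fin (2 * m + 1)) :
    (coPoint i : Fin (2 * m + 1) → ZMod 2) j = if j = i then 0 else 1 := by
  show 1 + (Pi.single i 1 : Fin (2 * m + 1) → ZMod 2) j = _
  by_cases h : j = i
  · subst h; simp; rfl
  · simp [h]

theorem coPoint_injective {m : ℕ} : Function.Injective (coPoint (m := m)) := fun i j h => by
  have := congrFun (congrArg Subtype.val h) i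
  rw [coPoint_apply, coPoint_apply, if_pos rfl] at this
  by_contra hne
  rw [if_neg hne] at this
  exact zero_ne_one this

theorem zmod_two_cases (x : ZMod 2) : x = 0 ∨ x = 1 := by revert x; decide

variable {G : Type*} [Group G] [Finite G]

/-- `2'`-elements of `N(E)` act as elements of an alternating block. -/
theorem exists_act_eq_alt [Fact (Nat.Prime 2)] {T : Sylow 2 G} {E : Subgroup G}
    (hE : Cfsg.IsBaumannBlock 2 (T : Subgroup G) E) {m : ℕ}
    (h : Cfsg.ActsAsOddPermModuleOnSection (2 * m + 1) (alternatingGroup (Fin (2 * m + 1))) E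
      (Cfsg.omegaOneCenter 2 (Cfsg.pCoreOf 2 E))
      (Cfsg.omegaOneCenter 2 (Cfsg.pCoreOf 2 E) ⊓ centralizer (E : Set G)))
    {g : G} (hg : g ∈ normalizer (E : Set G)) (hgo : (orderOf g).Coprime 2) :
    ∃ e ∈ E, e⁻¹ * g ∈ centralizer ((modE 2 E : Subgroup G) : Set G) := by
  classical
  obtain ⟨S, ρ, hU, hU₀, hr, hact⟩ :=
    exists_sec_alt h (le_normalizer.trans (normalizer_E_le_normalizer_Z E))
  have hnz : ∀ {x : G}, x ∈ normalizer (E : Set G) → x ∈ S.Nz := fun hx => S.mem_Nz.2
    ⟨hU ▸ normalizer_E_le_normalizer_pCore_omega E hx, hU₀ ▸ normalizer_E_le_normalizer_Z E hx⟩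
  have hne : ∀ e : E, (e : G) ∈ S.Nz := fun e => hnz (le_normalizer e.2)
  let O : evenVec (2 * m + 1) → Set (evenVec (2 * m + 1)) := fun v =>
    Set.range fun e : E => S.act (e : G) v
  have hO : ∀ v, Nat.card (O (S.act g v)) ≤ Nat.card (O v) := by
    intro v
    have hsub : O (S.act g v) ⊆ S.act g '' O v := by
      rintro _ ⟨e, rfl⟩
      have hk : g⁻¹ * e * g ∈ E := H75.conj'_mem_of_mem_normalizer hg e.2
      refine ⟨_, ⟨⟨_, hk⟩, rfl⟩, ?_⟩
      show S.act g (S.act (g⁻¹ * e * g) v) = S.act e (S.act g v)
      rw [← S.act_mul (hnz hg) (hnz (le_normalizer hk)), ← S.act_mul (hne e) (hnz hg)]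
      congr 1
      group
    refine (Nat.card_mono (Set.toFinite _) hsub).trans ?_
    exact (Nat.card_image_le (Set.toFinite _))
  -- orbits of co-points are small
  have hsmall : ∀ i, Nat.card (O (coPoint i)) ≤ 2 * m + 1 := by
    intro i
    have hsub : O (coPoint i) ⊆ Set.range (coPoint (m := m)) := by
      rintro _ ⟨e, rfl⟩
      refine ⟨ρ e i, Subtype.ext (funext fun j => ?_)⟩
      rw [hact, coPoint_apply, coPoint_apply]
      by_cases hj : j = ρ e i
      · simp [hj]
      · rw [if_neg hj, if_neg]
        intro h'
        exact hj (by rw [← h']; simp)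
    refine (Nat.card_mono (Set.toFinite _) hsub).trans ?_
    rw [Nat.card_range_of_injective coPoint_injective, Nat.card_fin]
  -- the image of a co-point
  have himg : ∀ i, ∃ j, S.act g (coPoint i) = coPoint j := by
    intro i
    set u := S.act g (coPoint i) with hu
    set u' : Fin (2 * m + 1) → ZMod 2 := (u : Fin (2 * m + 1) → ZMod 2) with hu'
    set ones := Finset.univ.filter fun j => u' j = 1 with hones
    set zeros := Finset.univ.filter fun j => u' j = 0 with hzeros
    have hcard : ones.card + zeros.card = 2 * m + 1 := by
      have h1 := Finset.card_filter_add_card_filter_not (s := (Finset.univ : Finset (Fin (2 * m + 1))))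
        (fun j => u' j = 1)
      rw [Finset.card_univ, Fintype.card_fin] at h1
      rw [hones, hzeros]
      convert h1 using 3
      ext j
      simp only [Finset.mem_filter, Finset.mem_univ, true_and]
      rcases zmod_two_cases (u' j) with h0 | h0 <;> simp [h0]
    have hzc : zeros.card ≤ 1 ∨ ones.card < 2 := by
      by_contra hcon
      push Not at hcon
      obtain ⟨hz, ho⟩ := hcon
      obtain ⟨o1, ho1, o2, ho2, ho12⟩ := Finset.one_lt_card.1 ho
      simp only [hones, Finset.mem_filter, Finset.mem_univ, true_and] at ho1 ho2
      let τ : Option (ones × zeros) → Equiv.Perm (Fin (2 * m + 1)) := fun z =>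
        match z with
        | none => 1
        | some (a, b) => Equiv.swap (a : Fin (2 * m + 1)) b * Equiv.swap o1 o2
      have ha1 : ∀ a : ones, u' a = 1 := fun a => (Finset.mem_filter.1 a.2).2
      have hb0 : ∀ b : zeros, u' b = 0 := fun b => (Finset.mem_filter.1 b.2).2
      have hsign : ∀ z, τ z ∈ ρ.range := fun z => by
        rw [hr]
        rcases z with _ | ⟨a, b⟩
        · exact one_mem _
        · rw [Equiv.Perm.mem_alternatingGroup]
          show Equiv.Perm.sign (Equiv.swap (a : Fin (2 * m + 1)) b * Equiv.swap o1 o2) = 1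
          rw [map_mul, Equiv.Perm.sign_swap (fun he => by
            have := hb0 b; rw [← he, ha1 a] at this; exact one_ne_zero this),
            Equiv.Perm.sign_swap ho12]
          rfl
      choose ε hε using hsign
      have hval : ∀ (a : ones) (b : zeros) j,
          (S.act (ε (some (a, b)) : G) u : Fin (2 * m + 1) → ZMod 2) j =
            u' (Equiv.swap (a : Fin (2 * m + 1)) b j) := by
        intro a b j
        rw [hact, hε]
        show u' ((Equiv.swap (a : Fin (2 * m + 1)) b * Equiv.swap o1 o2)⁻¹ j) = _
        rw [_root_.mul_inv_rev, Equiv.swap_inv, Equiv.swap_inv, Equiv.Perm.mul_apply]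
        set k := Equiv.swap (a : Fin (2 * m + 1)) b j
        rcases eq_or_ne k o1 with rfl | h1
        · rw [Equiv.swap_apply_left, ho2, ho1]
        rcases eq_or_ne k o2 with rfl | h2
        · rw [Equiv.swap_apply_right, ho1, ho2]
        rw [Equiv.swap_apply_of_ne_of_ne h1 h2]
      have hnone : ∀ j, (S.act (ε none : G) u : Fin (2 * m + 1) → ZMod 2) j = u' j := fun j => by
        rw [hact, hε]; rfl
      let f : Option (ones × zeros) → O u := fun z => ⟨S.act (ε z : G) u, ε z, rfl⟩
      have hinj : Function.Injective f := by
        intro z z' hzz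
        have hzz' : ∀ j, (S.act (ε z : G) u : Fin (2 * m + 1) → ZMod 2) j =
            (S.act (ε z' : G) u : Fin (2 * m + 1) → ZMod 2) j :=
          fun j => congrFun (congrArg (fun w : O u => ((w : evenVec (2 * m + 1)) : Fin (2 * m + 1) → ZMod 2)) hzz) j
        rcases z with _ | ⟨a, b⟩ <;> rcases z' with _ | ⟨a', b'⟩
        · rfl
        · exfalso
          have := hzz' (b' : Fin (2 * m + 1))
          rw [hnone, hval, Equiv.swap_apply_right, hb0, ha1] at this
          exact zero_ne_one this
        · exfalso
          have := hzz' (b : Fin (2 * m + 1))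
          rw [hnone, hval, Equiv.swap_apply_right, hb0, ha1] at this
          exact one_ne_zero this
        · have hbb : (b : Fin (2 * m + 1)) = b' := by
            by_contra hne'
            have := hzz' (b : Fin (2 * m + 1))
            rw [hval, hval, Equiv.swap_apply_right, ha1,
              Equiv.swap_apply_of_ne_of_ne (fun he => by
                have := hb0 b; rw [he, ha1] at this; exact one_ne_zero this) hne', hb0] at this
            exact one_ne_zero this
          have haa : (a : Fin (2 * m + 1)) = a' := by
            by_contra hne'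
            have := hzz' (a : Fin (2 * m + 1))
            rw [hval, hval, Equiv.swap_apply_left, hb0,
              Equiv.swap_apply_of_ne_of_ne hne' (fun he => by
                have := hb0 b'; rw [← he, ha1] at this; exact one_ne_zero this), ha1] at this
            exact zero_ne_one this
          rw [Subtype.ext haa, Subtype.ext hbb]
      have h1 := Nat.card_le_card_of_injective f hinj
      rw [Nat.card_eq_fintype_card, Fintype.card_option, Fintype.card_prod, Fintype.card_coe,
        Fintype.card_coe] at h1
      have h2 := h1.trans ((hO (coPoint i)).trans (hsmall i))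
      have h3 : ones.card + zeros.card ≤ ones.card * zeros.card := Nat.add_le_mul ho hz
      omega
    have hsum : (ones.card : ZMod 2) = 0 := by
      have h0 : ∑ j, u' j = 0 := u.2
      rw [← h0, hones]
      rw [← Finset.sum_boole]
      refine Finset.sum_congr rfl fun j _ => ?_
      rcases zmod_two_cases (u' j) with h1 | h1 <;> simp [h1]
    have hone : ones.card ≠ 1 := fun h1 => by rw [h1, Nat.cast_one] at hsum; exact one_ne_zero hsum
    have hone0 : 1 ≤ m → ones.card ≠ 0 := by
      intro hm h1
      have hz : u = 0 := Subtype.ext (funext fun j => (zmod_two_cases (u' j)).resolve_right fun hj => by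
        have : j ∈ ones := Finset.mem_filter.2 ⟨Finset.mem_univ _, hj⟩
        rw [Finset.card_eq_zero.1 h1] at this
        simp at this)
      have hz' := congrArg (S.act g⁻¹) hz
      rw [hu, S.act_inv_act (hnz hg), S.act_zero (hnz (inv_mem hg))] at hz'
      obtain ⟨j, hj⟩ : ∃ j, j ≠ i := by
        by_contra hcon
        push Not at hcon
        have := Fintype.card_le_one_iff.2 fun a b => (hcon a).trans (hcon b).symm
        rw [Fintype.card_fin] at this
        omega
      have := congrFun (congrArg Subtype.val hz') j
      rw [coPoint_apply, if_neg hj] at this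
      exact one_ne_zero this
    rcases Nat.lt_or_ge 1 zeros.card with ho | hz
    swap
    · rcases Nat.lt_or_ge zeros.card 1 with hz0 | hz1
      · exfalso
        have : (ones.card : ZMod 2) = 1 := by
          rw [show ones.card = 2 * m + 1 by omega]
          push_cast
          rw [show (2 : ZMod 2) = 0 from rfl]
          simp
        rw [hsum] at this
        exact zero_ne_one this
      · obtain ⟨j, hj⟩ := Finset.card_eq_one.1 (le_antisymm hz hz1)
        refine ⟨j, Subtype.ext (funext fun l => ?_)⟩
        show u' l = _
        rw [coPoint_apply]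
        by_cases hl : l = j
        · rw [if_pos hl]
          have : l ∈ zeros := by rw [hj, hl]; simp
          exact (Finset.mem_filter.1 this).2
        · rw [if_neg hl]
          refine (zmod_two_cases (u' l)).resolve_left fun h0 => hl ?_
          have : l ∈ zeros := Finset.mem_filter.2 ⟨Finset.mem_univ _, h0⟩
          rw [hj] at this
          simpa using this
    · exfalso
      rcases hzc with h | h
      · omega
      · have := hone0 (by omega)
        omega
  choose σ hσ using himg
  have hσinj : Function.Injective σ := fun i j hij => coPoint_injective (by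
    have := congrArg (S.act g⁻¹) ((hσ i).trans ((congrArg coPoint hij).trans (hσ j).symm))
    rwa [S.act_inv_act (hnz hg), S.act_inv_act (hnz hg)] at this)
  let π : Equiv.Perm (Fin (2 * m + 1)) := Equiv.ofBijective σ (Finite.injective_iff_bijective.1 hσinj)
  have hgen : ∀ v : evenVec (2 * m + 1), v = ∑ i, if (v : Fin (2 * m + 1) → ZMod 2) i = 1 then coPoint i else 0 := by
    intro v
    apply Subtype.ext
    funext j
    rw [AddSubgroup.val_finsetSum, Finset.sum_apply]
    have hterm : ∀ i, ((if (v : Fin (2 * m + 1) → ZMod 2) i = 1 then coPoint i else 0 : evenVec (2 * m + 1)) :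
        Fin (2 * m + 1) → ZMod 2) j =
        (v : Fin (2 * m + 1) → ZMod 2) i + (Pi.single j ((v : Fin (2 * m + 1) → ZMod 2) j) : _ → ZMod 2) i := by
      intro i
      rcases zmod_two_cases ((v : Fin (2 * m + 1) → ZMod 2) i) with h0 | h0
      · rw [if_neg (by rw [h0]; exact zero_ne_one)]
        by_cases hij : i = j
        · subst hij; simp [h0]
        · simp [h0, hij]
      · rw [if_pos h0, coPoint_apply]
        by_cases hij : j = i
        · subst hij; simp [h0]; rfl
        · simp [h0, hij, Ne.symm hij]
    rw [Finset.sum_congr rfl fun i _ => hterm i, Finset.sum_add_distrib, v.2, zero_add,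
      Finset.sum_pi_single', if_pos (Finset.mem_univ j)]
  have hgact : ∀ (v : evenVec (2 * m + 1)) i,
      (S.act g v : Fin (2 * m + 1) → ZMod 2) i = (v : Fin (2 * m + 1) → ZMod 2) (π⁻¹ i) := by
    intro v i
    conv_lhs => rw [hgen v]
    rw [show S.act g (∑ j, _) = S.actHom (hnz hg) (∑ j, _) from rfl, map_sum,
      AddSubgroup.val_finsetSum, Finset.sum_apply]
    conv_rhs => rw [hgen v]
    rw [AddSubgroup.val_finsetSum, Finset.sum_apply]
    refine Finset.sum_congr rfl fun j _ => ?_
    split
    · show (S.act g (coPoint j) : Fin (2 * m + 1) → ZMod 2) i = _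
      rw [hσ, coPoint_apply, coPoint_apply]
      by_cases hij : i = σ j
      · rw [if_pos hij, if_pos]
        rw [hij]
        exact π.symm_apply_apply j
      · rw [if_neg hij, if_neg]
        intro h'
        exact hij (by rw [← h']; exact (π.apply_symm_apply i).symm)
    · rw [map_zero]; rfl
  have hpow : ∀ n : ℕ, ∀ (v : evenVec (2 * m + 1)) i,
      (S.act (g ^ n) v : Fin (2 * m + 1) → ZMod 2) i = (v : Fin (2 * m + 1) → ZMod 2) ((π ^ n)⁻¹ i) := by
    intro n
    induction n with
    | zero => intro v i; rw [pow_zero, pow_zero, S.act_one, inv_one, Equiv.Perm.one_apply]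
    | succ n ih =>
      intro v i
      rw [pow_succ, pow_succ, S.act_mul (hnz (pow_mem hg n)) (hnz hg), ih, hgact, _root_.mul_inv_rev,
        Equiv.Perm.mul_apply]
  have hπn : π ^ orderOf g = 1 := by
    rw [← inv_eq_one]
    ext i
    rw [Equiv.Perm.one_apply]
    refine congrArg Fin.val ?_
    by_contra hne'
    have := hpow (orderOf g) (coPoint i) i
    rw [pow_orderOf_eq_one, S.act_one, coPoint_apply, coPoint_apply, if_pos rfl, if_neg hne'] at this
    exact zero_ne_one this
  obtain ⟨e, he⟩ : π ∈ ρ.range := by
    rw [hr, Equiv.Perm.mem_alternatingGroup]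
    have h1 : Equiv.Perm.sign π ^ orderOf g = 1 := by rw [← map_pow, hπn, map_one]
    rcases Int.units_eq_one_or (Equiv.Perm.sign π) with h2 | h2
    · exact h2
    · exfalso
      rw [h2, Odd.neg_one_pow (Nat.coprime_two_right.1 hgo)] at h1
      exact absurd h1 (by decide)
  refine ⟨e, e.2, centralizes_of_fix hE (mul_mem (inv_mem (le_normalizer e.2)) hg) fun w hw => ?_⟩
  have hy : ((e : G)⁻¹ * g) ∈ S.triv := by
    refine (S.mem_triv_iff (hnz (mul_mem (inv_mem (le_normalizer e.2)) hg))).2 fun v => ?_
    rw [S.act_mul (hnz (inv_mem (le_normalizer e.2))) (hnz hg)]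
    have : S.act g v = S.act (e : G) v := Subtype.ext (funext fun i => by rw [hgact, hact, he])
    rw [this, S.act_inv_act (hne e)]
  have := hy.2 w (hU ▸ hw)
  rwa [hU₀] at this

end H78.Block
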