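import Cfsg.Agent.H78.BlockOffender

/-!
`B(G)` normalises a subnormal block, and the block belongs to every Sylow subgroup.
-/

set_option autoImplicit false
set_option linter.unusedSectionVars false

open Subgroup
open scoped commutatorElement

namespace H78.Block

variable {G : Type*} [Group G] [Finite G] {p : ℕ} [Fact p.Prime] {T : Sylow p G} {E : Subgroup G}

attribute [local instance] omegaCommGroup

/-- `Ω₁(Z(O_p(G)))` as a module over `ZMod p`. -/
noncomputable abbrev omegaModule :
    Module (ZMod p) (Additive (Cfsg.omegaOneCenter p (Cfsg.pCore p G) : Subgroup G)) :=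
  AddCommGroup.zmodModule fun v => Additive.toMul.injective
    (Subtype.ext (by simpa using (mem_omegaOneCenter.1 (Additive.toMul v).2).2))

theorem omega_normal : (Cfsg.omegaOneCenter p (Cfsg.pCore p G) : Subgroup G).Normal :=
  ⟨fun _ hv g => omega_pCore_conj g hv⟩

attribute [local instance] omegaModule in
/-- Conjugation on `Ω₁(Z(O_p(G)))`. -/
noncomputable def omegaRep :
    Representation (ZMod p) G (Additive (Cfsg.omegaOneCenter p (Cfsg.pCore p G) : Subgroup G)) where
  toFun g := (AddMonoidHom.mk' (fun v : Additive (Cfsg.omegaOneCenter p (Cfsg.pCore p G) : Subgroup G) =>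
      Additive.ofMul (⟨g * ((Additive.toMul v : (Cfsg.omegaOneCenter p (Cfsg.pCore p G) : Subgroup G)) : G) * g⁻¹,
        omega_pCore_conj g (Additive.toMul v).2⟩ : (Cfsg.omegaOneCenter p (Cfsg.pCore p G) : Subgroup G)))
      fun a b => by
        apply Additive.toMul.injective
        exact Subtype.ext (by simp [mul_assoc])).toZModLinearMap p
  map_one' := LinearMap.ext fun v => Additive.toMul.injective (Subtype.ext (by simp))
  map_mul' g h := LinearMap.ext fun v => Additive.toMul.injective (Subtype.ext (by simp [mul_assoc]))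

/-- `W_E = ⁅W_E, E⁆`. -/
theorem mod_le_commutator (hE : Cfsg.IsBaumannBlock p (T : Subgroup G) E) :
    modE p E ≤ ⁅modE p E, E⁆ := by
  have hf := facts_of_block hE
  have hEU : E ≤ normalizer ((modE p E : Subgroup G) : Set G) :=
    le_normalizer.trans (normalizer_E_le_normalizer_modE E)
  refine hf.mod_min ((H1.commutator_le_left_of_le_normalizer hEU).trans hf.mod_le)
    H1.right_le_normalizer_commutator fun hle => hf.not_mod_le_centralizer ?_
  exact le_centralizer_of_commutator_le hf
    ((H75.isPGroup_pCoreOf E).to_le (hf.mod_le.trans (omega_le_core E))) hEU hle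

local notation "𝐕" => Cfsg.omegaOneCenter p (Cfsg.pCore p G)

attribute [local instance] omegaModule

/-- A largest elementary abelian subgroup normalises a subnormal block. -/
theorem maxEl_normalises (hG : centralizer (Cfsg.pCore p G : Set G) ≤ Cfsg.pCore p G)
    (hE : Cfsg.IsBaumannBlock p (T : Subgroup G) E) (hEs : E.IsSubnormal) {T' : Sylow p G}
    {A : Subgroup G} (hA : A ∈ maxEl p (T' : Subgroup G)) : A ≤ normalizer (E : Set G) := by
  rcases isSmall_or_quasisimple hE with hs | hq
  · exact maxEl_normalises_small hG hE hEs hs hA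
  haveI := H1.pCore_normal' p G
  set C := centralizer ((𝐕 : Subgroup G) : Set G) with hC
  haveI : (Cfsg.omegaOneCenter p (Cfsg.pCore p G) : Subgroup G).Normal := omega_normal
  haveI hCn : C.Normal := by rw [hC]; infer_instance
  have hf := facts_of_block hE
  have hUV : modE p E ≤ 𝐕 := hf.mod_le_omega hG (pCore_le_normalizer hE)
  have hUE : modE p E ≤ E := hf.mod_le.trans ((omega_le_core E).trans (H75.pCoreOf_le E))
  -- the component
  have hPC : (Cfsg.pCore p G) ≤ C := fun y hy v hv => ((mem_omegaOneCenter.1 hv).1.2 y hy).symm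
  set π := QuotientGroup.mk' C with hπ
  have hne : E.map π ≠ ⊥ := by
    intro hb
    rw [Subgroup.map_eq_bot_iff, hπ, QuotientGroup.ker_mk'] at hb
    exact hf.not_mod_le_centralizer fun u hu e he => (hb he u (hUV hu)).symm
  have hcomp : Cfsg.IsComponent (E.map π) := by
    let f : (G ⧸ (Cfsg.pCore p G)) →* G ⧸ C := QuotientGroup.map (Cfsg.pCore p G) C (MonoidHom.id G) hPC
    have hf' : Function.Surjective f := fun y => by
      obtain ⟨g, rfl⟩ := QuotientGroup.mk'_surjective C y
      exact ⟨QuotientGroup.mk' (Cfsg.pCore p G) g, rfl⟩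
    have he : (E.map (QuotientGroup.mk' (Cfsg.pCore p G))).map f = E.map π := by
      rw [Subgroup.map_map]; rfl
    exact he ▸ Cfsg.Comp.isComponent_map_of_ne_bot hf' (isComponent_image hEs hq) (he.symm ▸ hne)
  -- the representation
  let ρ₀ := omegaRep (G := G) (p := p)
  have hker : C ≤ ρ₀.ker := fun g hg => by
    rw [MonoidHom.mem_ker]
    refine LinearMap.ext fun v => Additive.toMul.injective (Subtype.ext ?_)
    show g * ((Additive.toMul v : 𝐕) : G) * g⁻¹ = _
    rw [← hg _ (Additive.toMul v).2]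
    simp
  let ρ : Representation (ZMod p) (G ⧸ C) (Additive 𝐕) := QuotientGroup.lift C ρ₀ hker
  have hρa : ∀ (g : G) (v : 𝐕), ((Additive.toMul (ρ (π g) (Additive.ofMul v)) : 𝐕) : G) =
      g * (v : G) * g⁻¹ := fun g v => rfl
  have hρ : Function.Injective ρ := by
    intro a b hab
    obtain ⟨g, rfl⟩ := QuotientGroup.mk'_surjective C a
    obtain ⟨h, rfl⟩ := QuotientGroup.mk'_surjective C b
    rw [QuotientGroup.mk'_apply, QuotientGroup.mk'_apply, QuotientGroup.eq]
    intro v hv
    have h1 : g * v * g⁻¹ = h * v * h⁻¹ := by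
      rw [← hρa g ⟨v, hv⟩, ← hρa h ⟨v, hv⟩, hπ, hab]
    calc v * (g⁻¹ * h) = g⁻¹ * (g * v * g⁻¹) * h := by group
      _ = g⁻¹ * h * v := by rw [h1]; group
  have hAel : Cfsg.IsElementaryAbelian p (A.map π) := by
    refine ⟨H11.isMulCommutative_map hA.2.1.1 π, ?_⟩
    rintro _ ⟨a, ha, rfl⟩
    rw [← map_pow, hA.2.1.2 a ha, map_one]
  have hfix : ∀ B : Subgroup G, Nat.card {v : Additive 𝐕 // ∀ b ∈ B.map π, ρ b v = v} =
      Nat.card (𝐕 ⊓ centralizer (B : Set G) : Subgroup G) := fun B =>
    Nat.card_congr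
      { toFun := fun v => ⟨((Additive.toMul v.1 : 𝐕) : G), (Additive.toMul v.1).2, fun b hb => by
          have h := congrArg (fun w => ((Additive.toMul w : 𝐕) : G)) (v.2 _ ⟨b, hb, rfl⟩)
          exact mul_inv_eq_iff_eq_mul.1 ((hρa b (Additive.toMul v.1)).symm.trans h)⟩
        invFun := fun v => ⟨Additive.ofMul ⟨v.1, v.2.1⟩, by
          rintro _ ⟨b, hb, rfl⟩
          apply Additive.toMul.injective
          apply Subtype.ext
          rw [hρa b ⟨v.1, v.2.1⟩]
          show b * (v : G) * b⁻¹ = v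
          rw [v.2.2 b hb, mul_inv_cancel_right]⟩
        left_inv := fun v => rfl
        right_inv := fun v => rfl }
  have hquot : ∀ B : Subgroup G, Nat.card B = Nat.card (B.map π) * Nat.card (B ⊓ C : Subgroup G) := by
    intro B
    have h := card_eq_card_quotient_mul_card_subgroup (π.comp B.subtype).ker
    rw [Nat.card_congr (QuotientGroup.quotientKerEquivRange _).toEquiv, MonoidHom.range_comp,
      range_subtype] at h
    rw [h]
    congr 1
    rw [inf_comm, ← card_map_of_injective (K := (π.comp B.subtype).ker) B.subtype_injective]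
    refine congrArg (fun K : Subgroup G => Nat.card K) ?_
    ext y
    constructor
    · rintro ⟨z, hz, rfl⟩
      refine ⟨?_, z.2⟩
      rw [SetLike.mem_coe, MonoidHom.mem_ker, MonoidHom.comp_apply, hπ, QuotientGroup.mk'_apply,
        QuotientGroup.eq_one_iff] at hz
      exact hz
    · rintro ⟨hyC, hyB⟩
      refine ⟨⟨y, hyB⟩, ?_, rfl⟩
      rw [SetLike.mem_coe, MonoidHom.mem_ker, MonoidHom.comp_apply, hπ, QuotientGroup.mk'_apply,
        QuotientGroup.eq_one_iff]
      exact hyC
  have hnormA := H79.Offender.components_normalized p ρ hρ (A.map π) hAel (fun B hBA => by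
    set B' := A ⊓ B.comap π with hB'
    have hB : B'.map π = B := by
      refine le_antisymm (by rintro _ ⟨y, hy, rfl⟩; exact hy.2) fun y hy => ?_
      obtain ⟨a, ha, rfl⟩ := hBA hy
      exact ⟨a, ⟨ha, hy⟩, rfl⟩
    have hker' : B' ⊓ C = A ⊓ C := by
      refine le_antisymm (inf_le_inf_right C inf_le_left) fun y hy => ⟨⟨hy.1, ?_⟩, hy.2⟩
      show π y ∈ B
      rw [hπ, QuotientGroup.mk'_apply, (QuotientGroup.eq_one_iff y).2 hy.2]
      exact one_mem _
    rw [← hB, hfix, hfix]
    refine Nat.le_of_mul_le_mul_left ?_ (Nat.card_pos (α := (A ⊓ C : Subgroup G)))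
    have h := weight_le hA (inf_le_left : B' ≤ A)
    rw [hquot B', hquot A, hker'] at h
    calc _ = Nat.card (B'.map π) * Nat.card (A ⊓ C : Subgroup G) *
          Nat.card (𝐕 ⊓ centralizer (B' : Set G) : Subgroup G) := by ring
      _ ≤ _ := h
      _ = _ := by ring) (E.map π) hcomp
  -- back to `E`
  intro a ha
  by_contra hna
  have hcomm : ⁅E, E.map (MulAut.conj a).toMonoidHom⁆ = ⊥ :=
    (eq_or_commute_of_subnormal hG ⟨T, hE⟩ ⟨a • T, isBaumannBlock_map (MulAut.conj a) hE⟩ hEs
      (hEs.map (MulEquiv.surjective _))).resolve_left fun h =>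
        hna (mem_normalizer_iff_map_conj_eq.2 h.symm)
  refine hf.not_mod_le_centralizer fun u hu e he => ?_
  -- `U' ≤ U`
  have hle : (modE p E).map (MulAut.conj a).toMonoidHom ≤ modE p E := by
    refine (map_mono (mod_le_commutator hE)).trans ?_
    rw [map_commutator, commutator_le]
    rintro _ ⟨w, hw, rfl⟩ _ ⟨z, hz, rfl⟩
    show ⁅a * w * a⁻¹, a * z * a⁻¹⁆ ∈ modE p E
    have hwV : a * w * a⁻¹ ∈ 𝐕 := omega_pCore_conj a (hUV hw)
    have h2 := H75.conj_mem_of_mem_normalizer (hnormA ⟨a, ha, rfl⟩) (⟨z, hz, rfl⟩ : π z ∈ E.map π)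
    rw [← map_inv, ← map_mul, ← map_mul] at h2
    obtain ⟨e', he', hee⟩ := h2
    have hc : e'⁻¹ * (a * z * a⁻¹) ∈ C := by
      rw [← QuotientGroup.eq]; exact hee
    rw [show a * z * a⁻¹ = e' * (e'⁻¹ * (a * z * a⁻¹)) by group]
    have key : ∀ x y c : G, ⁅x, y * c⁆ = ⁅x, y⁆ * (y * ⁅x, c⁆ * y⁻¹) := fun x y c => by
      simp [commutatorElement_def, mul_assoc]
    rw [key, commutatorElement_eq_one_iff_mul_comm.2 (hc _ hwV), mul_one, mul_inv_cancel, mul_one]
    exact commutator_omega_le hE (commutator_mem_commutator hwV he')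
  exact (commutator_eq_bot_iff_le_centralizer.1 hcomm he _ ((map_mono hUE) ((eq_of_le_of_card_ge hle
    (card_map_of_injective (MulEquiv.injective _)).ge).ge hu))).symm

end H78.Block

namespace H78.Block

variable {G : Type*} [Group G] [Finite G] {p : ℕ} [Fact p.Prime] {T : Sylow p G} {E : Subgroup G}

theorem thompson_le_normalizer (hG : centralizer (Cfsg.pCore p G : Set G) ≤ Cfsg.pCore p G)
    (hE : Cfsg.IsBaumannBlock p (T : Subgroup G) E) (hEs : E.IsSubnormal) (T' : Sylow p G) :
    sSup (maxEl p (T' : Subgroup G)) ≤ normalizer (E : Set G) :=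
  sSup_le fun _ hA => maxEl_normalises hG hE hEs hA

/-- `B(T')` normalises a subnormal block. -/
theorem baumannOf_le_normalizer (hG : centralizer (Cfsg.pCore p G : Set G) ≤ Cfsg.pCore p G)
    (hE : Cfsg.IsBaumannBlock p (T : Subgroup G) E) (hEs : E.IsSubnormal) (T' : Sylow p G) :
    Cfsg.baumannSubgroupOf p (T' : Subgroup G) ≤ normalizer (E : Set G) := by
  intro b hb
  by_contra hbn
  have hf := facts_of_block hE
  obtain ⟨x, hxU, hxE, hxR⟩ := exists_fixed hG hE hEs T'
  have hxV := hf.mod_le_omega hG (pCore_le_normalizer hE) hxU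
  have hxI : x ∈ sInf (maxEl p (T' : Subgroup G)) := by
    rw [Subgroup.mem_sInf]
    intro A hA
    exact H11.mem_of_commute_maxFam_elem hA (H1.pCore_le_sylow T' (mem_omegaOneCenter.1 hxV).1.1)
      (mem_omegaOneCenter.1 hxV).2 fun a ha => hxR a ⟨hA.1 ha, maxEl_normalises hG hE hEs hA ha⟩
  rw [baumann_eq'] at hb
  have hbx : x * b = b * x := hb.2 x hxI
  have hxUE : x ∈ E := H75.pCoreOf_le E (omega_le_core E (hf.mod_le hxU))
  have hx' : x ∈ E.map (MulAut.conj b).toMonoidHom :=
    ⟨x, hxUE, by show b * x * b⁻¹ = x; rw [← hbx, mul_inv_cancel_right]⟩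
  have hcomm : ⁅E, E.map (MulAut.conj b).toMonoidHom⁆ = ⊥ :=
    (eq_or_commute_of_subnormal hG ⟨T, hE⟩ ⟨b • T, isBaumannBlock_map (MulAut.conj b) hE⟩ hEs
      (hEs.map (MulEquiv.surjective _))).resolve_left fun h =>
        hbn (mem_normalizer_iff_map_conj_eq.2 h.symm)
  exact hxE fun e he => (commutator_eq_bot_iff_le_centralizer.1 hcomm he _ hx').symm

/-- `B(G)` normalises a subnormal block. -/
theorem baumannSubgroup_le_normalizer (hG : centralizer (Cfsg.pCore p G : Set G) ≤ Cfsg.pCore p G)
    (hE : Cfsg.IsBaumannBlock p (T : Subgroup G) E) (hEs : E.IsSubnormal) :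
    Cfsg.baumannSubgroup p G ≤ normalizer (E : Set G) :=
  iSup_le fun T' => baumannOf_le_normalizer hG hE hEs T'

end H78.Block
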