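import Cfsg.Agent.H78.BlockExcFinal

/-!
`C(W_E)` normalises a block.
-/

set_option autoImplicit false
set_option linter.unusedSectionVars false

open Subgroup
open scoped MatrixGroups commutatorElement

namespace H78.Block

variable {G : Type*} [Group G] [Finite G] {p : ℕ} [Fact p.Prime]

/-- The case `⁅O_p(G), E⁆ ≤ W`. -/
theorem centralizer_le_normalizer_of_le {T : Sylow p G} {E : Subgroup G}
    (hG : centralizer (Cfsg.pCore p G : Set G) ≤ Cfsg.pCore p G)
    (hE : Cfsg.IsBaumannBlock p (T : Subgroup G) E)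
    (h : ⁅Cfsg.pCore p G, E⁆ ≤ Cfsg.omegaOneCenter p (Cfsg.pCoreOf p E)) :
    centralizer ((modE p E : Subgroup G) : Set G) ≤ normalizer (E : Set G) := by
  have := H1.pCore_normal' p G
  have hf := facts_of_block hE
  set P0 := Cfsg.pCore p G with hP0
  have hPE := pCore_le_normalizer hE
  have hP : IsPGroup p P0 := H1.isPGroup_pCore p G
  have hNE : normalizer (E : Set G) ≤ normalizer ((modE p E : Subgroup G) : Set G) :=
    (le_inf ((H75.normalizer_le_normalizer_pCoreOf E).trans
      (normalizer_le_normalizer_omegaOneCenter _)) le_rfl).trans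
      (H75.normalizer_inf_le_normalizer_commutator _ _)
  have hWp : IsPGroup p (modE p E : Subgroup G) := (H75.isPGroup_pCoreOf E).to_le
    fun x hx => (mem_omegaOneCenter.1 (hf.mod_le hx)).1.1
  -- `E` stabilises `O_p(G) ≥ W_E`
  have hEst : E ≤ stab P0 (modE p E) := by
    refine hf.res.ge.trans ((closure_le _).2 fun x hx => ⟨hNE (le_normalizer hx.1), fun a ha => ?_⟩)
    have hcW : ⁅x, a⁆ ∈ Cfsg.omegaOneCenter p (Cfsg.pCoreOf p E) := by
      rw [← commutatorElement_inv]
      exact inv_mem (h (commutator_mem_commutator ha hx.1))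
    have hcP : ⁅x, a⁆ ∈ P0 := by
      rw [commutatorElement_def]
      exact mul_mem ((inferInstance : P0.Normal).conj_mem a ha x) (inv_mem ha)
    refine mem_of_coprime_step hP hx.2 hcP ?_ (hNE (le_normalizer hx.1)) (hNE (hPE hcP))
    rw [← commutatorElement_inv]
    exact inv_mem (commutator_mem_commutator hcW hx.1)
  set R := stab P0 (modE p E) ⊓ centralizer ((modE p E : Subgroup G) : Set G) with hR
  have hRp : IsPGroup p R := by
    refine H75.isPGroup_of_no_coprime fun x hx hxo => ?_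
    obtain ⟨hx1, hx2⟩ := mem_inf.1 hx
    have : x ∈ P0 := hG fun u hu => (H75.commute_of_stabilize hWp hxo
      (fun a ha => hx1.2 a ha) (fun b hb => (hx2 b hb).symm) u hu).symm.eq
    exact H75.eq_one_of_mem_of_coprime hP this hxo
  have hnR : normalizer (E : Set G) ≤ normalizer (R : Set G) :=
    hNE.trans ((le_inf (le_normalizer_stab P0 (modE p E))
      (H75.normalizer_le_normalizer_centralizer _)).trans (H75.normalizer_inf_le_normalizer_inf _ _))
  have hBE : Cfsg.baumannSubgroupOf p (T : Subgroup G) ≤ normalizer (E : Set G) :=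
    hf.comm ▸ H1.right_le_normalizer_commutator
  have hRE : R ≤ normalizer (E : Set G) :=
    le_normalizer_block hE hRp (hBE.trans hnR) (le_normalizer.trans hnR)
  intro g hg
  refine mem_normalizer_of_commutator_mem hf.res hRp hRE fun e he => mem_inf.2 ⟨?_, ?_⟩
  · rw [commutatorElement_def]
    exact mul_mem (H75.conj_mem_of_mem_normalizer
      (le_normalizer_stab P0 (modE p E) (centralizer_le_normalizer _ hg)) (hEst he))
      (inv_mem (hEst he))
  · rw [show ⁅g, e⁆ = g * (e * g⁻¹ * e⁻¹) by rw [commutatorElement_def]; group]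
    exact mul_mem hg (H75.conj_mem_of_mem_normalizer
      (H75.normalizer_le_normalizer_centralizer _ (hNE (le_normalizer he))) (inv_mem hg))

/-- Building the data of an exceptional block from the section actions. -/
theorem exists_sec {F : Type*} [Field F] {E U U₀ : Subgroup G}
    (h : Cfsg.ActsAsSL2OnSection F (commutator SL(2, F)) E U U₀)
    (hn : E ≤ normalizer (U₀ : Set G)) :
    ∃ (S : Sec G (Fin 2 → F)) (ρ : E →* SL(2, F)), S.U = U ∧ S.U₀ = U₀ ∧
      ρ.range = commutator SL(2, F) ∧ ∀ (e : E) v, S.act (e : G) v = sl2v (ρ e) v := by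
  obtain ⟨hEU, -, ρ, ψ, hρ, hψ, hker, hact⟩ := h
  let S : Sec G (Fin 2 → F) := ⟨U, U₀, ψ, hψ, hker⟩
  refine ⟨S, ρ, rfl, rfl, hρ, fun e v => ?_⟩
  obtain ⟨u, hu, rfl⟩ := S.exists_img v
  have hen : (e : G) ∈ S.Nz := S.mem_Nz.2 ⟨hEU e.2, hn e.2⟩
  obtain ⟨w, hw, hwe⟩ := hact e ⟨u, hu⟩
  rw [S.act_img hen hu, S.img_apply hu]
  show S.img ((e : G) * u * (e : G)⁻¹) = _
  rw [← hw, S.img_apply w.2]
  exact hwe

/-- **`C(W_E)` normalises a block.** -/
theorem centralizer_modE_le_normalizer {T : Sylow p G} {E : Subgroup G}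
    (hG : centralizer (Cfsg.pCore p G : Set G) ≤ Cfsg.pCore p G)
    (hE : Cfsg.IsBaumannBlock p (T : Subgroup G) E) :
    centralizer ((modE p E : Subgroup G) : Set G) ≤ normalizer (E : Set G) := by
  have := H1.pCore_normal' p G
  have hf := facts_of_block hE
  set Q := Cfsg.pCoreOf p E with hQ
  set W := Cfsg.omegaOneCenter p Q with hW
  have hPE := pCore_le_normalizer hE
  have hD : ⁅Cfsg.pCore p G, E⁆ ≤ Q := by
    have h1 : ⁅Cfsg.pCore p G, E⁆ ≤ Cfsg.pCore p G := commutator_le_left _ _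
    have h2 : ⁅Cfsg.pCore p G, E⁆ ≤ E := by
      rw [commutator_comm]
      exact H1.commutator_le_left_of_le_normalizer hPE
    exact H75.le_pCoreOf h2 H1.right_le_normalizer_commutator
      ((H1.isPGroup_pCore p G).to_le h1)
  by_cases hQW : Q = W
  · exact centralizer_le_normalizer_of_le hG hE (hD.trans hQW.le)
  have hirr := hf.irrQ.resolve_left hQW
  have hEW : E ≤ normalizer (W : Set G) :=
    (H75.le_normalizer_pCoreOf E).trans (normalizer_le_normalizer_omegaOneCenter _)
  have hWQ : W ≤ Q := fun x hx => (mem_omegaOneCenter.1 hx).1.1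
  rcases hirr.irr (⁅Cfsg.pCore p G, E⁆ ⊔ W) le_sup_right (sup_le hD hWQ)
    ((le_inf H1.right_le_normalizer_commutator hEW).trans
      (H75.normalizer_inf_le_normalizer_sup _ _)) with hle | heq
  · exact centralizer_le_normalizer_of_le hG hE (le_sup_left.trans hle.le)
  have hE' := hE
  obtain ⟨-, -, -, -, hcase⟩ := hE'
  rcases hcase with ⟨F, hFi, hFf, n, hcard, hiso, hWs, hQs⟩ | ⟨-, m, -, -, hQ'⟩
  swap
  · exact absurd hQ' hQW
  obtain ⟨rfl, hQs, hcomm, hfrat, hcent, hZ, hnq⟩ := hQs.resolve_left hQW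
  haveI : CharP F 3 := by
    haveI : CharP F (ringChar F) := ringChar.charP F
    obtain ⟨m, hm, hm'⟩ := FiniteField.card F (ringChar F)
    have h3 : ringChar F = 3 := by
      have hd : ringChar F ∣ 3 ^ n := hcard ▸ hm' ▸ dvd_pow_self _ m.ne_zero
      exact (Nat.prime_dvd_prime_iff_eq hm Nat.prime_three).1 (hm.dvd_of_dvd_pow hd)
    exact h3 ▸ (ringChar.charP F)
  -- `Q ≤ O_3(G)`
  have hQP : Q ≤ Cfsg.pCore 3 G := by
    have hV := hf.mod_le_omega hG hPE
    have hgen : (Q ⊓ Cfsg.pCore 3 G).subgroupOf Q ⊔ frattini (Q : Subgroup G) = ⊤ := by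
      apply Subgroup.map_injective (Subgroup.subtype_injective (Q : Subgroup G))
      rw [Subgroup.map_sup, hfrat, subgroupOf_map_subtype, ← MonoidHom.range_eq_map, range_subtype,
        inf_right_comm, inf_idem]
      refine le_antisymm (sup_le inf_le_left (inf_le_left.trans hWQ)) ?_
      conv_lhs => rw [hQ, ← heq]
      refine sup_le ((le_inf hD (commutator_le_left _ _)).trans le_sup_left) ?_
      conv_lhs => rw [hW, hQ, ← hf.mod_sup]
      exact sup_le ((le_inf (hf.mod_le.trans hWQ)
        fun x hx => (mem_omegaOneCenter.1 (hV hx)).1.1).trans le_sup_left) le_sup_right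
    exact (Subgroup.subgroupOf_eq_top.1 (frattini_nongenerating hgen)).trans inf_le_right
  obtain ⟨SW, ρW, hWU, hWU₀, hWr, hWa⟩ := exists_sec hWs
    ((le_inf hEW (le_normalizer.trans (H75.normalizer_le_normalizer_centralizer E))).trans
      (H75.normalizer_inf_le_normalizer_inf _ _))
  obtain ⟨SQ, ρQ, hQU, hQU₀, hQr, hQa⟩ := exists_sec hQs hEW
  have hcardE : Nat.card (E ⧸ Cfsg.pCore 3 E) = Nat.card (commutator SL(2, F)) := by
    obtain ⟨i⟩ := hiso
    exact Nat.card_congr i.toEquiv
  have X : Exc F T E :=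
    { hG := hG, blk := hE, SW := SW, SQ := SQ, SW_U := hWU, SW_U₀ := hWU₀, SQ_U := hQU,
      SQ_U₀ := hQU₀, ρW := ρW, ρQ := ρQ, ρW_range := hWr, ρQ_range := hQr, actW := hWa,
      actQ := hQa, QleP := hQP, commQQ := hcomm, frat := hfrat, centE := hcent,
      cardZ := by rw [hZ, Nat.card_eq_fintype_card, hcard]
      cardE := hcardE, nonquad := hnq }
  exact X.centralizer_le_normalizer

end H78.Block
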