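import Cfsg.Agent.H78.BlockBaumannNorm

/-!
A subnormal block is a block for every Sylow subgroup.
-/

set_option autoImplicit false
set_option linter.unusedSectionVars false

open Subgroup
open scoped commutatorElement Pointwise

namespace H78.Block

attribute [local instance] omegaCommGroup

variable {G : Type*} [Group G] [Finite G] {p : ℕ} [Fact p.Prime] {T : Sylow p G} {E : Subgroup G}

omit [Fact p.Prime] in
/-- A block depends on `T` only through `B(T)` and `⁅E, Ω₁(Z(T))⁆ ≠ 1`. -/
theorem block_congr {T T' : Subgroup G} (hE : Cfsg.IsBaumannBlock p T E)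
    (hB : Cfsg.baumannSubgroupOf p T = Cfsg.baumannSubgroupOf p T')
    (ho : ⁅E, Cfsg.omegaOneCenter p T'⁆ ≠ ⊥) : Cfsg.IsBaumannBlock p T' E := by
  obtain ⟨h1, h2, h3, -, h5⟩ := hE
  exact ⟨h1, hB ▸ h2, h3, ho, hB ▸ h5⟩

theorem baumannSubgroup_normal : (Cfsg.baumannSubgroup p G).Normal := by
  refine ⟨fun x hx g => ?_⟩
  have h : (Cfsg.baumannSubgroup p G).map (MulAut.conj g).toMonoidHom ≤ Cfsg.baumannSubgroup p G := by
    rw [Cfsg.baumannSubgroup, Subgroup.map_iSup]
    refine iSup_le fun T => ?_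
    rw [map_baumann]
    exact le_iSup (fun T : Sylow p G => Cfsg.baumannSubgroupOf p (T : Subgroup G)) (g • T)
  exact h ⟨x, hx, rfl⟩

/-- A block lies in `B(G)`. -/
theorem block_le_baumannSubgroup (hE : Cfsg.IsBaumannBlock p (T : Subgroup G) E) :
    E ≤ Cfsg.baumannSubgroup p G := by
  have := baumannSubgroup_normal (G := G) (p := p)
  rw [← (facts_of_block hE).comm]
  exact (commutator_mono le_top
    (le_iSup (fun T : Sylow p G => Cfsg.baumannSubgroupOf p (T : Subgroup G)) T :
      _ ≤ Cfsg.baumannSubgroup p G)).trans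
    (commutator_le_right (⊤ : Subgroup G) (Cfsg.baumannSubgroup p G))

/-- **A subnormal block is a block for every Sylow subgroup.** -/
theorem block_of_every_sylow (hG : centralizer (Cfsg.pCore p G : Set G) ≤ Cfsg.pCore p G)
    (hE : Cfsg.IsBaumannBlock p (T : Subgroup G) E) (hEs : E.IsSubnormal) (T' : Sylow p G) :
    Cfsg.IsBaumannBlock p (T' : Subgroup G) E := by
  have := baumannSubgroup_normal (G := G) (p := p)
  set N := Cfsg.baumannSubgroup p G with hN
  obtain ⟨g, rfl⟩ := MulAction.exists_smul_eq G T T'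
  -- `g = b n`
  obtain ⟨Q, hQ⟩ := H3.subnormal_inf_sylow (Subgroup.Normal.isSubnormal this) T
  have hg : g ∈ N ⊔ normalizer ((Q : Subgroup N).map N.subtype : Set G) := by
    rw [sup_comm, Sylow.normalizer_sup_eq_top Q]; trivial
  rw [← SetLike.mem_coe, normal_mul] at hg
  obtain ⟨b, hb, n, hn, rfl⟩ := hg
  rw [hQ, subgroupOf_map_subtype] at hn
  have hBn : Cfsg.baumannSubgroupOf p ((n • T : Sylow p G) : Subgroup G) =
      Cfsg.baumannSubgroupOf p (T : Subgroup G) := by
    refine baumann_eq_of_le T (n • T) fun x hx => ?_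
    have hx' : x ∈ (T : Subgroup G) ⊓ N :=
      ⟨inf_le_left (a := (T : Subgroup G)) hx, le_iSup (fun T : Sylow p G => Cfsg.baumannSubgroupOf p (T : Subgroup G)) T hx⟩
    refine ⟨n⁻¹ * x * n, (H75.conj'_mem_of_mem_normalizer hn hx').1, ?_⟩
    show n * (n⁻¹ * x * n) * n⁻¹ = x
    group
  have hbE : E.map (MulAut.conj b).toMonoidHom = E :=
    mem_normalizer_iff_map_conj_eq.1 (baumannSubgroup_le_normalizer hG hE hEs hb)
  have hE' : Cfsg.IsBaumannBlock p ((b • T : Sylow p G) : Subgroup G) E := by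
    have := isBaumannBlock_map (MulAut.conj b) hE
    rwa [hbE] at this
  refine block_congr hE' ?_ ?_
  · show Cfsg.baumannSubgroupOf p ((T : Subgroup G).map (MulAut.conj b).toMonoidHom) = _
    rw [← map_baumann, ← hBn, map_baumann]
    congr 1
    rw [Sylow.coe_subgroup_smul, Sylow.coe_subgroup_smul]
    dsimp only
    rw [map_mul, mul_smul]
    rfl
  -- a fixed point of the Sylow subgroup not centralised by `E`
  set T' := (b * n) • T with hT'
  have hf := facts_of_block hE
  obtain ⟨x, hxU, hxE, hxR⟩ := exists_fixed hG hE hEs T'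
  set S := (T' : Subgroup G) ⊓ normalizer (E : Set G) with hS
  set V := Cfsg.omegaOneCenter p (Cfsg.pCore p G) with hV
  have hxV : x ∈ V := hf.mod_le_omega hG (pCore_le_normalizer hE) hxU
  set y := avg p (T' : Subgroup G) S x with hy
  have hyV : y ∈ V := avg_mem x
  have hyC : y ∈ centralizer ((T' : Subgroup G) : Set G) := avg_centralizer hxV hxR
  intro hbot
  rw [commutator_comm, commutator_eq_bot_iff_le_centralizer] at hbot
  have hyE : y ∈ centralizer (E : Set G) := hbot (mem_omegaOneCenter.2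
    ⟨⟨H1.pCore_le_sylow T' (mem_omegaOneCenter.1 hyV).1.1, hyC⟩, (mem_omegaOneCenter.1 hyV).2⟩)
  refine hxE ?_
  letI : Fintype ((T' : Subgroup G) ⧸ S.subgroupOf (T' : Subgroup G)) := Fintype.ofFinite _
  classical
  set q₀ : (T' : Subgroup G) ⧸ S.subgroupOf (T' : Subgroup G) := QuotientGroup.mk 1 with hq₀
  have hq1 : ((q₀.out : (T' : Subgroup G)) : G) * x * ((q₀.out : (T' : Subgroup G)) : G)⁻¹ = x := by
    rw [hq₀, out_conj_eq hxR]
    simp
  have hsplit : y = x * Subtype.val (∏ q ∈ Finset.univ.erase q₀,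
      (⟨(q.out : G) * x * (q.out : G)⁻¹, omega_pCore_conj _ hxV⟩ :
        (Cfsg.omegaOneCenter p (Cfsg.pCore p G) : Subgroup G))) := by
    rw [hy, avg, dif_pos hxV, ← Finset.mul_prod_erase _ _ (Finset.mem_univ q₀), Subgroup.coe_mul]
    congr 1
  have hrest : Subtype.val (∏ q ∈ Finset.univ.erase q₀,
      (⟨(q.out : G) * x * (q.out : G)⁻¹, omega_pCore_conj _ hxV⟩ :
        (Cfsg.omegaOneCenter p (Cfsg.pCore p G) : Subgroup G))) ∈ centralizer (E : Set G) := by
    refine Finset.prod_induction _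
      (fun v : (Cfsg.omegaOneCenter p (Cfsg.pCore p G) : Subgroup G) => (v : G) ∈ centralizer (E : Set G))
      (fun a b ha hb => mul_mem ha hb) (one_mem _) fun q hq e he => ?_
    have ht : (q.out : G) ∉ normalizer (E : Set G) := fun h => Finset.ne_of_mem_erase hq (by
      rw [hq₀, ← QuotientGroup.out_eq' q]
      refine QuotientGroup.eq.2 (mem_subgroupOf.2 ?_)
      rw [mul_one, Subgroup.coe_inv]
      exact inv_mem ⟨q.out.2, h⟩)
    have hcomm : ⁅E, E.map (MulAut.conj (q.out : G)).toMonoidHom⁆ = ⊥ :=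
      (eq_or_commute_of_subnormal hG ⟨T, hE⟩ ⟨(q.out : G) • T, isBaumannBlock_map (MulAut.conj _) hE⟩
        hEs (hEs.map (MulEquiv.surjective _))).resolve_left fun h =>
          ht (mem_normalizer_iff_map_conj_eq.2 h.symm)
    exact (commutator_eq_bot_iff_le_centralizer.1 hcomm he _
      ⟨x, H75.pCoreOf_le E (omega_le_core E (hf.mod_le hxU)), rfl⟩).symm
  rw [hsplit] at hyE
  exact (mul_mem_cancel_right hrest).1 hyE

end H78.Block
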