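import Cfsg.Agent.H78.BlockModule
import Cfsg.Agent.H37.Sylow

/-!
Additive maps of `F²` commuting with parts of `SL₂(F)'`, characteristic 3.
-/

set_option autoImplicit false
set_option linter.unusedSectionVars false

open Subgroup Matrix
open scoped MatrixGroups commutatorElement

namespace H78.Block

variable {F : Type*} [Field F]

/-- The natural action of `SL₂(F)` on `F²`. -/
def sl2v (g : SL(2, F)) (v : Fin 2 → F) : Fin 2 → F := (g : Matrix (Fin 2) (Fin 2) F).mulVec v

@[simp] theorem sl2v_one (v : Fin 2 → F) : sl2v (1 : SL(2, F)) v = v := by simp [sl2v]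

theorem sl2v_mul (g h : SL(2, F)) (v : Fin 2 → F) : sl2v (g * h) v = sl2v g (sl2v h v) := by
  simp only [sl2v, Matrix.SpecialLinearGroup.coe_mul, Matrix.mulVec_mulVec]

theorem sl2v_inv_apply (g : SL(2, F)) (v : Fin 2 → F) : sl2v g⁻¹ (sl2v g v) = v := by
  rw [← sl2v_mul, inv_mul_cancel, sl2v_one]

theorem sl2v_apply_inv (g : SL(2, F)) (v : Fin 2 → F) : sl2v g (sl2v g⁻¹ v) = v := by
  rw [← sl2v_mul, mul_inv_cancel, sl2v_one]

theorem sl2v_smul (g : SL(2, F)) (c : F) (v : Fin 2 → F) : sl2v g (c • v) = c • sl2v g v := by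
  simp [sl2v, Matrix.mulVec_smul]

theorem sl2v_injective_left {g h : SL(2, F)} (H : ∀ v, sl2v g v = sl2v h v) : g = h := by
  apply Subtype.ext
  ext i j
  have := congrFun (H (Pi.single j 1)) i
  simpa [sl2v, Matrix.mulVec_single] using this

theorem sl2v_upper (c : F) (v : Fin 2 → F) : sl2v (H37.upper2 c) v = ![v 0 + c * v 1, v 1] := by
  ext i
  fin_cases i <;> simp [sl2v, Matrix.mulVec, dotProduct, Fin.sum_univ_two]

theorem sl2v_lower (c : F) (v : Fin 2 → F) : sl2v (H37.lower2 c) v = ![v 0, c * v 0 + v 1] := by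
  ext i
  fin_cases i <;> simp [sl2v, Matrix.mulVec, dotProduct, Fin.sum_univ_two]

theorem vec_eq (v : Fin 2 → F) : v = ![v 0, v 1] := by
  ext i
  fin_cases i <;> rfl

theorem vec_split (v : Fin 2 → F) : v = ![v 0, 0] + ![0, v 1] := by
  ext i
  fin_cases i <;> simp

/-- The structure of an additive map commuting with the upper unipotent matrices. -/
theorem exists_of_commute_upper (g : (Fin 2 → F) →+ (Fin 2 → F))
    (hg : ∀ (c : F) v, g (sl2v (H37.upper2 c) v) = sl2v (H37.upper2 c) (g v)) :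
    ∃ a : F, (∀ x : F, g ![x, 0] = ![a * x, 0]) ∧ ∀ y : F, g ![0, y] 1 = a * y := by
  have e0 : g ![1, 0] 1 = 0 := by
    have h := hg 1 ![1, 0]
    rw [sl2v_upper, sl2v_upper] at h
    simp only [Matrix.cons_val_zero, Matrix.cons_val_one, mul_zero, add_zero, one_mul] at h
    simpa using congrFun h 0
  have key : ∀ c y : F, g ![c * y, 0] = ![c * g ![0, y] 1, 0] := by
    intro c y
    have h := hg c ![0, y]
    rw [sl2v_upper, sl2v_upper] at h
    simp only [Matrix.cons_val_zero, Matrix.cons_val_one, zero_add] at h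
    have h2 : (![c * y, y] : Fin 2 → F) = ![c * y, 0] + ![0, y] := by simp
    rw [h2, map_add] at h
    have h0 := congrFun h 0
    have h1 := congrFun h 1
    simp only [Pi.add_apply, Matrix.cons_val_zero, Matrix.cons_val_one] at h0 h1
    ext i
    fin_cases i
    · simp only [Fin.zero_eta, Fin.isValue, Matrix.cons_val_zero]
      linear_combination h0
    · simp only [Fin.mk_one, Fin.isValue, Matrix.cons_val_one, Matrix.cons_val_zero]
      simpa using h1
  refine ⟨g ![0, 1] 1, fun x => ?_, fun y => ?_⟩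
  · have := key x 1
    rw [mul_one] at this
    rw [this, mul_comm]
  · have h1 := key 1 y
    have h2 := key y 1
    rw [one_mul, one_mul] at h1
    rw [mul_one] at h2
    have := congrFun (h1.symm.trans h2) 0
    simp only [Matrix.cons_val_zero] at this
    rw [this, mul_comm]

theorem elem_of_no_square (hsq : ¬ ∃ a : F, a ≠ 0 ∧ a ^ 2 ≠ 1) (x : F) :
    x = 0 ∨ x = 1 ∨ x = -1 := by
  push Not at hsq
  by_cases hx : x = 0
  · exact Or.inl hx
  · exact Or.inr (sq_eq_one_iff.1 (hsq x hx))

theorem map_smul_of_no_square (hsq : ¬ ∃ a : F, a ≠ 0 ∧ a ^ 2 ≠ 1)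
    (g : (Fin 2 → F) →+ (Fin 2 → F)) (c : F) (v : Fin 2 → F) : g (c • v) = c • g v := by
  rcases elem_of_no_square hsq c with rfl | rfl | rfl <;> simp

/-- The element of order four in `SL₂(F)'` in characteristic 3. -/
def quat (F : Type*) [Field F] : SL(2, F) := ⁅(H37.upper2 1 : SL(2, F)), (H37.lower2 1 : SL(2, F))⁆

theorem quat_mem : quat F ∈ commutator SL(2, F) := commutator_elem_mem _ _

theorem coe_quat (h3 : (3 : F) = 0) :
    (quat F : Matrix (Fin 2) (Fin 2) F) = !![0, -1; 1, 0] := by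
  rw [quat, commutatorElement_def]
  ext i j
  fin_cases i <;> fin_cases j <;>
    simp [Matrix.mul_apply, Fin.sum_univ_two, Matrix.SpecialLinearGroup.coe_inv,
      Matrix.adjugate_fin_two] <;> first | linear_combination h3 | linear_combination (0 : F) * h3

theorem sl2v_quat_sq (h3 : (3 : F) = 0) (v : Fin 2 → F) : sl2v (quat F * quat F) v = -v := by
  ext i
  fin_cases i <;>
    simp [sl2v, coe_quat h3, Matrix.mulVec, dotProduct, Fin.sum_univ_two, Matrix.mul_apply]

theorem sl2v_quat (h3 : (3 : F) = 0) (v : Fin 2 → F) : sl2v (quat F) v = ![-v 1, v 0] := by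
  ext i
  fin_cases i <;> simp [sl2v, coe_quat h3, Matrix.mulVec, dotProduct, Fin.sum_univ_two]

/-- An additive map commuting with `SL₂(F)'` is a scalar. -/
theorem scalar_of_commute (h3 : (3 : F) = 0) (g : (Fin 2 → F) →+ (Fin 2 → F))
    (hg : ∀ s ∈ commutator SL(2, F), ∀ v, g (sl2v s v) = sl2v s (g v)) :
    ∃ a : F, ∀ v, g v = a • v := by
  by_cases hsq : ∃ a : F, a ≠ 0 ∧ a ^ 2 ≠ 1
  · rw [Cfsg.Agent.H9.commutator_SL_eq_top_of_square hsq] at hg
    obtain ⟨a, hx, hy⟩ := exists_of_commute_upper g fun c v => hg _ trivial v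
    refine ⟨a, fun v => ?_⟩
    have h := hg (quat F) trivial ![v 1, 0]
    rw [sl2v_quat h3, sl2v_quat h3, hx] at h
    simp only [Matrix.cons_val_zero, Matrix.cons_val_one, neg_zero] at h
    conv_lhs => rw [vec_split v, map_add, hx, h]
    ext i
    fin_cases i <;> simp
  · have hl := map_smul_of_no_square hsq g
    have hJ := hg (quat F) quat_mem
    set K := H37.upper2 1 * quat F * (H37.upper2 1 : SL(2, F))⁻¹ with hK
    have hKm : K ∈ commutator SL(2, F) := (inferInstance : (commutator SL(2, F)).Normal).conj_mem _ quat_mem _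
    have hKv : ∀ v : Fin 2 → F, sl2v K v = ![v 0 + v 1, v 0 - v 1] := by
      intro v
      ext i
      fin_cases i <;>
        simp [sl2v, hK, coe_quat h3, Matrix.mulVec, dotProduct, Fin.sum_univ_two, Matrix.mul_apply,
          Matrix.SpecialLinearGroup.coe_inv, Matrix.adjugate_fin_two] <;>
        first | linear_combination (-(v 1)) * h3 | linear_combination (v 1) * h3 | ring1
    set x := g ![1, 0] with hx
    have hy : g ![0, 1] = ![-x 1, x 0] := by
      have h := hJ ![1, 0]
      rw [sl2v_quat h3, sl2v_quat h3, ← hx] at h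
      simpa using h
    have hgen : ∀ v, g v = v 0 • x + v 1 • (![-x 1, x 0] : Fin 2 → F) := fun v => by
      conv_lhs => rw [show v = v 0 • (![1, 0] : Fin 2 → F) + v 1 • ![0, 1] by
        ext i; fin_cases i <;> simp]
      rw [map_add, hl, hl, ← hx, hy]
    have hx1 : x 1 = 0 := by
      have h := hg K hKm ![1, 0]
      rw [hKv, hKv, ← hx, hgen] at h
      have h0 := congrFun h 0
      simp at h0
      linear_combination h0 + x 1 * h3
    refine ⟨x 0, fun v => ?_⟩
    rw [hgen]
    ext i
    fin_cases i <;> simp [hx1] <;> ring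

theorem nilpotent_sq {M : Matrix (Fin 2) (Fin 2) F} {n : ℕ} (h : M ^ n = 0) : M * M = 0 := by
  have hdet : M.det = 0 := by
    have : M.det ^ n = 0 := by
      rcases Nat.eq_zero_or_pos n with rfl | hn
      · rw [pow_zero] at h
        have := congrArg Matrix.det h
        simp at this
      · rw [← Matrix.det_pow, h, Matrix.det_zero]
    exact eq_zero_of_pow_eq_zero this
  rw [Matrix.det_fin_two] at hdet
  have hM2 : M * M = (M 0 0 + M 1 1) • M := by
    ext i j
    fin_cases i <;> fin_cases j <;> simp [Matrix.mul_apply, Fin.sum_univ_two] <;>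
      first | ring1 | linear_combination -hdet
  have hpow : ∀ k : ℕ, M ^ (k + 1) = (M 0 0 + M 1 1) ^ k • M := by
    intro k
    induction k with
    | zero => simp
    | succ k ih => rw [pow_succ, ih, smul_mul_assoc, hM2, smul_smul, ← pow_succ]
  rcases Nat.eq_zero_or_pos n with rfl | hn
  · exfalso
    rw [pow_zero] at h
    exact one_ne_zero h
  have := hpow (n - 1)
  rw [Nat.sub_add_cancel hn, h] at this
  rcases smul_eq_zero.1 this.symm with ht | ht
  · rw [hM2, eq_zero_of_pow_eq_zero ht, zero_smul]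
  · simp [ht]

section Char

variable [CharP F 3]

theorem sq_zero_of_pow_matrix {M : Matrix (Fin 2) (Fin 2) F} {k : ℕ} (h : M ^ 3 ^ k = 1) :
    (M - 1) * (M - 1) = 0 := by
  haveI := Fact.mk Nat.prime_three
  refine nilpotent_sq (n := 3 ^ k) ?_
  rw [sub_pow_char_pow_of_commute 3 k (Commute.one_right M), h, one_pow, sub_self]

/-- Unipotence of an element of 3-power order of `SL₂(F)`. -/
theorem sl2v_quad {s : SL(2, F)} {k : ℕ} (hs : s ^ 3 ^ k = 1) (v : Fin 2 → F) :
    sl2v s (sl2v s v - v) = sl2v s v - v := by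
  have h := congrArg (fun M => M.mulVec v) (sq_zero_of_pow_matrix (k := k)
    (M := (s : Matrix (Fin 2) (Fin 2) F))
    (by rw [← Matrix.SpecialLinearGroup.coe_pow, hs, Matrix.SpecialLinearGroup.coe_one]))
  simp only [Matrix.zero_mulVec, ← Matrix.mulVec_mulVec, Matrix.sub_mulVec, Matrix.one_mulVec] at h
  exact sub_eq_zero.1 h

/-- The conclusion used for elements of `B(T)`: quadratic, and commuting with the scalars. -/
structure UnipGood (g : (Fin 2 → F) →+ (Fin 2 → F)) : Prop where
  quad : ∀ v, g (g v - v) = g v - v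
  scalar : ∀ a c : F, (∀ v, g (a • v) = c • g v) → c = a

theorem unipGood_of_upper {g : (Fin 2 → F) →+ (Fin 2 → F)} {k : ℕ} (hk : g^[3 ^ k] = id)
    (hg : ∀ (c : F) v, g (sl2v (H37.upper2 c) v) = sl2v (H37.upper2 c) (g v)) : UnipGood g := by
  haveI := Fact.mk Nat.prime_three
  obtain ⟨a, hx, hy⟩ := exists_of_commute_upper g hg
  have hit : ∀ m : ℕ, g^[m] ![1, 0] = ![a ^ m, 0] := by
    intro m
    induction m with
    | zero => simp
    | succ m ih => rw [Function.iterate_succ_apply', ih, hx, pow_succ']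
  have ha : a = 1 := by
    have h := congrFun (congrArg (fun f => f ![1, 0]) hk) 0
    simp only [hit, id, Matrix.cons_val_zero] at h
    have : (a - 1) ^ 3 ^ k = 0 := by rw [sub_pow_char_pow, h, one_pow, sub_self]
    exact sub_eq_zero.1 (eq_zero_of_pow_eq_zero this)
  subst ha
  refine ⟨fun v => ?_, fun a c h => ?_⟩
  · have h1 : (g v - v) 1 = 0 := by
      rw [Pi.sub_apply]
      conv_lhs => rw [vec_split v, map_add, Pi.add_apply, hx, hy]
      simp
    rw [vec_eq (g v - v), h1, hx, one_mul]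
  · have := congrFun (h ![1, 0]) 0
    simp [hx] at this
    exact this.symm

theorem unipGood_of_no_square (hsq : ¬ ∃ a : F, a ≠ 0 ∧ a ^ 2 ≠ 1)
    {g : (Fin 2 → F) →+ (Fin 2 → F)} {k : ℕ} (hk : g^[3 ^ k] = id) : UnipGood g := by
  have hl := map_smul_of_no_square hsq g
  let L : (Fin 2 → F) →ₗ[F] (Fin 2 → F) := { g with map_smul' := hl }
  let M := LinearMap.toMatrix' L
  have hM : ∀ v, M.mulVec v = g v := fun v => by simp [M, L]
  have hMp : ∀ (m : ℕ) v, (M ^ m).mulVec v = g^[m] v := by
    intro m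
    induction m with
    | zero => simp
    | succ m ih =>
      intro v
      rw [pow_succ', ← Matrix.mulVec_mulVec, ih, Function.iterate_succ_apply', hM]
  refine ⟨fun v => ?_, fun a c h => ?_⟩
  · have hM1 : M ^ 3 ^ k = 1 := Matrix.ext_of_mulVec_single fun i => by
      rw [hMp, hk, Matrix.one_mulVec]; rfl
    have := congrArg (fun N => N.mulVec v) (sq_zero_of_pow_matrix hM1)
    simp only [Matrix.zero_mulVec, ← Matrix.mulVec_mulVec, Matrix.sub_mulVec, Matrix.one_mulVec,
      hM] at this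
    exact sub_eq_zero.1 this
  · have hinj : ∀ v, g v = 0 → v = 0 := fun v hv => by
      have h1 : g^[3 ^ k] v = 0 := by
        obtain ⟨m, hm⟩ := Nat.exists_eq_succ_of_ne_zero (pow_pos (by norm_num : 0 < 3) k).ne'
        rw [hm, Function.iterate_succ_apply, hv]
        exact Function.iterate_fixed (map_zero g) m
      rwa [hk] at h1
    have h1 := h ![1, 0]
    rw [hl, ← sub_eq_zero, ← sub_smul, smul_eq_zero, sub_eq_zero] at h1
    rcases h1 with h1 | h1
    · exact h1.symm
    · exact absurd (congrFun (hinj _ h1) 0) (by simp)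

/-- A `3`-element normalising nothing but acting compatibly with a Sylow subgroup is unipotent. -/
theorem unipGood_of_sylow [Finite F] {g : (Fin 2 → F) →+ (Fin 2 → F)} {k : ℕ}
    (hk : g^[3 ^ k] = id) (S : Subgroup SL(2, F)) (hS : IsPGroup 3 S) (hSi : ¬ 3 ∣ S.index)
    (hg : ∀ s ∈ S, ∀ v, g (sl2v s v) = sl2v s (g v)) : UnipGood g := by
  haveI := Fact.mk Nat.prime_three
  obtain ⟨h, hh⟩ := MulAction.exists_smul_eq SL(2, F) (H37.sylowSL (F := F) 3 2) (hS.toSylow hSi)
  have hmem : ∀ c : F, h * H37.upper2 c * h⁻¹ ∈ S := fun c => by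
    have : h * H37.upper2 c * h⁻¹ ∈
        ((h • H37.sylowSL (F := F) 3 2 : Sylow 3 SL(2, F)) : Subgroup SL(2, F)) :=
      ⟨H37.upper2 c, H37.upper2_mem c, rfl⟩
    rw [hh] at this
    exact this
  let g' : (Fin 2 → F) →+ (Fin 2 → F) :=
    { toFun := fun v => sl2v h⁻¹ (g (sl2v h v))
      map_zero' := by simp [sl2v]
      map_add' := fun a b => by simp only [sl2v, Matrix.mulVec_add, map_add] }
  have hg' : ∀ v, g' v = sl2v h⁻¹ (g (sl2v h v)) := fun v => rfl
  have hup : ∀ (c : F) v, g' (sl2v (H37.upper2 c) v) = sl2v (H37.upper2 c) (g' v) := by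
    intro c v
    rw [hg', hg', ← sl2v_mul, show h * H37.upper2 c = h * H37.upper2 c * h⁻¹ * h by group, sl2v_mul,
      hg _ (hmem c), ← sl2v_mul, ← sl2v_mul]
    congr 1
    group
  have hit : ∀ (m : ℕ) v, g'^[m] v = sl2v h⁻¹ (g^[m] (sl2v h v)) := by
    intro m
    induction m with
    | zero => intro v; simp [sl2v_inv_apply]
    | succ m ih =>
      intro v
      rw [Function.iterate_succ_apply', ih, hg', sl2v_apply_inv, Function.iterate_succ_apply']
  have hk' : g'^[3 ^ k] = id := funext fun v => by rw [hit, hk, id, sl2v_inv_apply, id]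
  obtain ⟨hq, hs⟩ := unipGood_of_upper hk' hup
  have hback : ∀ v, g v = sl2v h (g' (sl2v h⁻¹ v)) := fun v => by
    rw [hg', sl2v_apply_inv, sl2v_apply_inv]
  have hsub : ∀ a b, sl2v h (a - b) = sl2v h a - sl2v h b := fun a b => by
    simp [sl2v, Matrix.mulVec_sub]
  refine ⟨fun v => ?_, fun a c hac => hs a c fun v => ?_⟩
  · have : g v - v = sl2v h (g' (sl2v h⁻¹ v) - sl2v h⁻¹ v) := by
      rw [hsub, ← hback, sl2v_apply_inv]
    rw [this]
    conv_lhs => rw [hback, sl2v_inv_apply, hq]
  · rw [hg', hg', sl2v_smul, hac, sl2v_smul]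

end Char

/-- A `p`-subgroup normalised by `SL₂(F)'` is trivial. -/
theorem eq_bot_of_pGroup [Finite F] {p : ℕ} [Fact p.Prime] (hp : p ∣ Nat.card F)
    {H : Subgroup SL(2, F)} (hH : IsPGroup p H)
    (hn : ∀ s ∈ commutator SL(2, F), ∀ h ∈ H, s * h * s⁻¹ ∈ H) : H = ⊥ := by
  letI : MulAction H (Fin 2 → F) :=
    { smul := fun h v => sl2v (h : SL(2, F)) v
      one_smul := fun v => sl2v_one v
      mul_smul := fun a b v => sl2v_mul _ _ v }
  let A : AddSubgroup (Fin 2 → F) :=
    { carrier := {v | ∀ h ∈ H, sl2v h v = v}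
      zero_mem' := fun h _ => by simp [sl2v]
      add_mem' := fun {a b} ha hb h hh => by
        have := ha h hh
        have := hb h hh
        simp_all [sl2v, Matrix.mulVec_add]
      neg_mem' := fun {a} ha h hh => by
        have := ha h hh
        simp_all [sl2v, Matrix.mulVec_neg] }
  have hAinv : ∀ s ∈ commutator SL(2, F), ∀ v ∈ A,
      (s : Matrix (Fin 2) (Fin 2) F).mulVec v ∈ A := by
    intro s hs v hv h hh
    have := hv _ (hn s⁻¹ (inv_mem hs) h hh)
    rw [inv_inv, mul_assoc, sl2v_mul] at this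
    have h2 := congrArg (sl2v s) this
    rw [sl2v_apply_inv, sl2v_mul] at h2
    exact h2
  rcases sl2_irreducible A hAinv with hA | hA
  · exfalso
    have hd : p ∣ Nat.card (Fin 2 → F) := by
      rw [Nat.card_fun, Nat.card_fin]
      exact hp.trans (dvd_pow_self _ two_ne_zero)
    obtain ⟨v, hv, hv0⟩ := hH.exists_fixed_point_of_prime_dvd_card_of_fixed_point (Fin 2 → F) hd
      (a := 0) (fun h => by show sl2v (h : SL(2, F)) 0 = 0; simp [sl2v])
    have : v ∈ A := fun h hh => hv ⟨h, hh⟩
    rw [hA, AddSubgroup.mem_bot] at this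
    exact hv0 this.symm
  · rw [eq_bot_iff]
    intro h hh
    rw [mem_bot]
    refine sl2v_injective_left fun v => ?_
    rw [sl2v_one]
    exact (hA.ge (AddSubgroup.mem_top v) : v ∈ A) h hh

theorem sq_of_orderOf_odd_three (hsq : ¬ ∃ a : F, a ≠ 0 ∧ a ^ 2 ≠ 1) (h3 : (3 : F) = 0)
    (s : SL(2, F)) (hs : Odd (orderOf s)) : s ^ 3 = 1 := by
  have hne : (-1 : F) ≠ 1 := fun h => one_ne_zero (α := F) (by linear_combination h3 + h)
  have h12 : s ^ 12 = 1 → s ^ 3 = 1 := fun h => by
    have hd := orderOf_dvd_of_pow_eq_one h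
    refine orderOf_dvd_iff_pow_eq_one.1 ?_
    exact (Nat.Coprime.dvd_of_dvd_mul_left (Nat.coprime_two_right.2 hs)
      ((Nat.Coprime.dvd_of_dvd_mul_left (Nat.coprime_two_right.2 hs) (by simpa using hd :
        orderOf s ∣ 2 * (2 * 3)))))
  apply h12
  apply Subtype.ext
  set M : Matrix (Fin 2) (Fin 2) F := (s : Matrix (Fin 2) (Fin 2) F) with hM
  have hd : M 0 0 * M 1 1 - M 0 1 * M 1 0 = 1 := by
    rw [← Matrix.det_fin_two]; exact s.2
  have hch : M * M = (M 0 0 + M 1 1) • M - 1 := by
    ext i j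
    fin_cases i <;> fin_cases j <;> simp [Matrix.mul_apply, Fin.sum_univ_two] <;>
      first | ring1 | linear_combination -hd
  rw [Matrix.SpecialLinearGroup.coe_pow, Matrix.SpecialLinearGroup.coe_one, ← hM,
    show M ^ 12 = ((M * M) * M) * ((M * M) * M) * (((M * M) * M) * ((M * M) * M)) by
      simp only [← pow_two, ← pow_succ, ← pow_mul, ← pow_add]]
  have h3M : (M * M) * M = ((M 0 0 + M 1 1) ^ 2 - 1) • M - (M 0 0 + M 1 1) • (1 : Matrix _ _ F) := by
    rw [hch, sub_mul, smul_mul_assoc, one_mul, hch, smul_sub, smul_smul, sub_smul, one_smul, ← pow_two]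
    abel
  rcases elem_of_no_square hsq (M 0 0 + M 1 1) with ht | ht | ht
  · have hM2 : M * M = -1 := by rw [hch, ht]; simp
    rw [hM2]
    simp [hM2]
  · rw [show (M * M) * M = -1 by rw [h3M, ht]; simp]
    simp
  · rw [show (M * M) * M = 1 by rw [h3M, ht]; simp]
    simp

/-- A subgroup of odd order normalised by `SL₂(F)'` is trivial. -/
theorem eq_bot_of_odd [Finite F] [CharP F 3] {H : Subgroup SL(2, F)} (hodd : Odd (Nat.card H))
    (hn : ∀ s ∈ commutator SL(2, F), ∀ h ∈ H, s * h * s⁻¹ ∈ H) : H = ⊥ := by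
  haveI := Fact.mk Nat.prime_three
  have h3 : (3 : F) = 0 := by exact_mod_cast CharP.cast_eq_zero F 3
  by_cases hsq : ∃ a : F, a ≠ 0 ∧ a ^ 2 ≠ 1
  · haveI : H.Normal := ⟨fun h hh s => hn s (by
      rw [Cfsg.Agent.H9.commutator_SL_eq_top_of_square hsq]; trivial) h hh⟩
    have h4 : 4 ≤ Nat.card F := by
      obtain ⟨a, ha, ha1⟩ := hsq
      haveI := Fintype.ofFinite F
      classical
      rw [Nat.card_eq_fintype_card]
      have h1 : a ≠ 1 := fun h => ha1 (by rw [h, one_pow])
      have h2 : a ≠ -1 := fun h => ha1 (by rw [h]; ring)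
      have h5 : (-1 : F) ≠ 1 := fun h => one_ne_zero (α := F) (by linear_combination h3 + h)
      have : ({0, 1, -1, a} : Finset F).card = 4 := by
        rw [Finset.card_insert_of_notMem, Finset.card_insert_of_notMem,
          Finset.card_insert_of_notMem, Finset.card_singleton] <;>
          simp [ha, ha.symm, h1.symm, h2.symm, h5, h5.symm]
      exact this ▸ Finset.card_le_univ _
    have hq := Cfsg.Agent.H9.isQuasisimple_SL (F := F) (m := 2) le_rfl (Or.inr h4)
    rw [eq_bot_iff]
    intro h hh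
    rw [mem_bot]
    haveI := hq.2
    have hzsq : ∀ z ∈ center SL(2, F), z * z = 1 := by
      intro z hz
      obtain ⟨r, hr, hrM⟩ := Matrix.SpecialLinearGroup.mem_center_iff.1 hz
      rw [Fintype.card_fin] at hr
      apply Subtype.ext
      rw [Matrix.SpecialLinearGroup.coe_mul, ← hrM, ← map_mul, ← pow_two, hr, map_one]
      rfl
    have hone : ∀ x ∈ H, x * x = 1 → x = 1 := fun x hx h2 =>
      orderOf_eq_one_iff.1 (Nat.eq_one_of_dvd_coprimes (Nat.coprime_two_right.2
        (hodd.of_dvd_nat (Subgroup.orderOf_dvd_natCard H hx))) dvd_rfl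
        (orderOf_dvd_of_pow_eq_one (by rw [pow_two, h2])))
    rcases (Subgroup.Normal.map (inferInstance : H.Normal) (QuotientGroup.mk' (center SL(2, F)))
      (QuotientGroup.mk'_surjective _)).eq_bot_or_eq_top with hc | hc
    · rw [Subgroup.map_eq_bot_iff, QuotientGroup.ker_mk'] at hc
      exact hone h hh (hzsq _ (hc hh))
    · exfalso
      obtain ⟨x, hx, hxq⟩ := (hc.ge trivial : QuotientGroup.mk' (center SL(2, F)) (quat F) ∈
        H.map (QuotientGroup.mk' (center SL(2, F))))
      have hz : x⁻¹ * quat F ∈ center SL(2, F) := QuotientGroup.eq.1 hxq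
      have hcq : x * (x⁻¹ * quat F) = (x⁻¹ * quat F) * x := Subgroup.mem_center_iff.1 hz x
      have hxx : x * x = quat F * quat F := by
        have h1 := hzsq _ hz
        calc x * x = x * x * ((x⁻¹ * quat F) * (x⁻¹ * quat F)) := by rw [h1, mul_one]
          _ = x * (x * (x⁻¹ * quat F)) * (x⁻¹ * quat F) := by group
          _ = x * ((x⁻¹ * quat F) * x) * (x⁻¹ * quat F) := by rw [← hcq]
          _ = _ := by group
      have h4' : (x * x) * (x * x) = 1 := sl2v_injective_left fun v => by
        rw [hxx, sl2v_mul, sl2v_quat_sq h3, sl2v_quat_sq h3, sl2v_one, neg_neg]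
      have := congrFun (sl2v_quat_sq h3 (F := F) ![1, 0]) 0
      rw [← hxx, hone _ (mul_mem hx hx) h4', sl2v_one] at this
      simp at this
      exact one_ne_zero (α := F) (by linear_combination h3 - this)
  · refine eq_bot_of_pGroup (p := 3) ?_ ?_ hn
    · obtain ⟨n, hn0, hn⟩ := H37.card_eq_prime_pow (F := F) 3
      rw [hn]
      exact dvd_pow_self _ hn0.ne'
    · rintro ⟨h, hh⟩
      refine ⟨1, Subtype.ext ?_⟩
      simpa using sq_of_orderOf_odd_three hsq h3 h
        (hodd.of_dvd_nat (Subgroup.orderOf_mk h hh ▸ orderOf_dvd_natCard _))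

end H78.Block
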