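import Cfsg.Agent.H78.BlockCore
import Cfsg.Agent.H78.BlockSL2
import Cfsg.Agent.H78.BlockSec
import Mathlib.GroupTheory.Abelianization.Defs

/-!
Exceptional blocks (`p = 3`) with `O_3(E) ≤ O_3(G)`: elementary properties.
-/

set_option autoImplicit false
set_option linter.unusedSectionVars false

open Subgroup Matrix
open scoped MatrixGroups commutatorElement

namespace H78.Block

variable {G : Type*} [Group G] [Finite G]

/-- The stabiliser of the section `X / Y` (possibly non-abelian). -/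
def stab (X Y : Subgroup G) [X.Normal] : Subgroup G where
  carrier := {g | g ∈ normalizer (Y : Set G) ∧ ∀ x ∈ X, ⁅g, x⁆ ∈ Y}
  one_mem' := ⟨one_mem _, fun x _ => by simp⟩
  mul_mem' {a b} ha hb := ⟨mul_mem ha.1 hb.1, fun x hx => by
    rw [show ⁅a * b, x⁆ = a * ⁅b, x⁆ * a⁻¹ * ⁅a, x⁆ by simp [commutatorElement_def, mul_assoc]]
    exact mul_mem (H75.conj_mem_of_mem_normalizer ha.1 (hb.2 x hx)) (ha.2 x hx)⟩
  inv_mem' {a} ha := ⟨inv_mem ha.1, fun x hx => by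
    rw [show ⁅a⁻¹, x⁆ = a⁻¹ * ⁅a, x⁆⁻¹ * a by simp [commutatorElement_def, mul_assoc]]
    exact H75.conj'_mem_of_mem_normalizer ha.1 (inv_mem (ha.2 x hx))⟩

theorem le_normalizer_stab (X Y : Subgroup G) [hX : X.Normal] :
    normalizer (Y : Set G) ≤ normalizer (stab X Y : Set G) := by
  rw [le_normalizer_iff]
  intro h hh g hg
  refine ⟨mul_mem (mul_mem hh hg.1) (inv_mem hh), fun x hx => ?_⟩
  rw [show ⁅h * g * h⁻¹, x⁆ = h * ⁅g, h⁻¹ * x * h⁆ * h⁻¹ by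
    simp [commutatorElement_def, mul_assoc]]
  refine H75.conj_mem_of_mem_normalizer hh (hg.2 _ ?_)
  simpa using hX.conj_mem x hx h⁻¹

theorem exists_orderOf_coprime_pow {g : G} {H : Subgroup G} (hg : g ∈ H) :
    ∃ a : ℕ, (orderOf (g ^ 3 ^ a)).Coprime 3 ∧ g ^ 3 ^ a ∈ H := by
  haveI := Fact.mk Nat.prime_three
  obtain ⟨a, ha⟩ := H75.exists_pow_coprime (p := 3) g
  exact ⟨a, ha, pow_mem hg _⟩

theorem baumann_map_le {p : ℕ} (e : G ≃* G) (T : Subgroup G) :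
    (Cfsg.baumannSubgroupOf p T).map e.toMonoidHom ≤
      Cfsg.baumannSubgroupOf p (T.map e.toMonoidHom) := by
  rintro _ ⟨t, ht, rfl⟩
  rw [baumann_eq'] at ht ⊢
  rw [← H11.map_sInf_maxFam (H11.replProp_elem p)]
  refine ⟨⟨t, ht.1, rfl⟩, ?_⟩
  rintro _ ⟨y, hy, rfl⟩
  rw [← map_mul, ← map_mul, ht.2 y hy]

variable {F : Type*} [Field F] [Fact (Nat.Prime 3)]

/-- An exceptional block inside `O_3(G)`. -/
structure Exc (F : Type*) [Field F] (T : Sylow 3 G) (E : Subgroup G) where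
  hG : centralizer (Cfsg.pCore 3 G : Set G) ≤ Cfsg.pCore 3 G
  blk : Cfsg.IsBaumannBlock 3 (T : Subgroup G) E
  SW : Sec G (Fin 2 → F)
  SQ : Sec G (Fin 2 → F)
  SW_U : SW.U = Cfsg.omegaOneCenter 3 (Cfsg.pCoreOf 3 E)
  SW_U₀ : SW.U₀ = Cfsg.omegaOneCenter 3 (Cfsg.pCoreOf 3 E) ⊓ centralizer (E : Set G)
  SQ_U : SQ.U = Cfsg.pCoreOf 3 E
  SQ_U₀ : SQ.U₀ = Cfsg.omegaOneCenter 3 (Cfsg.pCoreOf 3 E)
  ρW : E →* SL(2, F)
  ρQ : E →* SL(2, F)
  ρW_range : ρW.range = commutator SL(2, F)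
  ρQ_range : ρQ.range = commutator SL(2, F)
  actW : ∀ (e : E) (v : Fin 2 → F), SW.act (e : G) v = sl2v (ρW e) v
  actQ : ∀ (e : E) (v : Fin 2 → F), SQ.act (e : G) v = sl2v (ρQ e) v
  QleP : Cfsg.pCoreOf 3 E ≤ Cfsg.pCore 3 G
  commQQ : ⁅Cfsg.pCoreOf 3 E, Cfsg.pCoreOf 3 E⁆ =
    Cfsg.omegaOneCenter 3 (Cfsg.pCoreOf 3 E) ⊓ centralizer (E : Set G)
  frat : (frattini (Cfsg.pCoreOf 3 E)).map (Cfsg.pCoreOf 3 E).subtype =
    Cfsg.omegaOneCenter 3 (Cfsg.pCoreOf 3 E) ⊓ centralizer (E : Set G)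
  centE : E ⊓ centralizer (E : Set G) =
    Cfsg.omegaOneCenter 3 (Cfsg.pCoreOf 3 E) ⊓ centralizer (E : Set G)
  cardZ : Nat.card (E ⊓ centralizer (E : Set G) : Subgroup G) = Nat.card F
  cardE : Nat.card (E ⧸ Cfsg.pCore 3 E) = Nat.card (commutator SL(2, F))
  nonquad : ∀ b : G, b ∈ Cfsg.baumannSubgroupOf 3 (T : Subgroup G) →
    b ∉ centralizer (Cfsg.omegaOneCenter 3 (Cfsg.pCoreOf 3 E) : Set G) →
    ¬ ⁅⁅Cfsg.pCoreOf 3 E, zpowers b⁆, zpowers b⁆ ≤ E ⊓ centralizer (E : Set G)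

namespace Exc

variable {T : Sylow 3 G} {E : Subgroup G} (X : Exc F T E)

local notation "𝐏" => Cfsg.pCore 3 G
local notation "𝐐" => Cfsg.pCoreOf 3 E
local notation "𝐖" => Cfsg.omegaOneCenter 3 (Cfsg.pCoreOf 3 E)
local notation "𝐙" => Cfsg.omegaOneCenter 3 (Cfsg.pCoreOf 3 E) ⊓ centralizer (E : Set G)
local notation "𝐁" => Cfsg.baumannSubgroupOf 3 (T : Subgroup G)
local notation "𝐌" => modE 3 E

include X in
theorem facts : Facts 3 (T : Subgroup G) E := facts_of_block X.blk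

include X in
theorem P_le_normalizer_E : 𝐏 ≤ normalizer (E : Set G) := pCore_le_normalizer X.blk

include X in
theorem mem_W {x : G} (hx : x ∈ 𝐖) : x ∈ 𝐐 ∧ x ∈ centralizer (𝐐 : Set G) :=
  (mem_omegaOneCenter.1 hx).1

include X in
theorem Z_le_W : 𝐙 ≤ 𝐖 := inf_le_left

include X in
theorem normQ_le_normW : normalizer (𝐐 : Set G) ≤ normalizer (𝐖 : Set G) :=
  normalizer_le_normalizer_omegaOneCenter _

include X in
theorem normQ_le_normZ : normalizer (𝐐 : Set G) ≤ normalizer ((𝐙 : Subgroup G) : Set G) := by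
  rw [← X.commQQ]
  exact (le_inf le_rfl le_rfl).trans (H75.normalizer_inf_le_normalizer_commutator _ _)

include X in
theorem nzW {g : G} (hg : g ∈ normalizer (𝐐 : Set G)) : g ∈ X.SW.Nz :=
  X.SW.mem_Nz.2 ⟨X.SW_U ▸ X.normQ_le_normW hg, X.SW_U₀ ▸ X.normQ_le_normZ hg⟩

include X in
theorem nzQ {g : G} (hg : g ∈ normalizer (𝐐 : Set G)) : g ∈ X.SQ.Nz :=
  X.SQ.mem_Nz.2 ⟨X.SQ_U ▸ hg, X.SQ_U₀ ▸ X.normQ_le_normW hg⟩

include X in
theorem E_normQ {e : G} (he : e ∈ E) : e ∈ normalizer (𝐐 : Set G) :=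
  H75.le_normalizer_pCoreOf E he

include X in
theorem B_le_normE : 𝐁 ≤ normalizer (E : Set G) :=
  X.facts.comm ▸ H1.right_le_normalizer_commutator

include X in
theorem B_normQ {b : G} (hb : b ∈ 𝐁) : b ∈ normalizer (𝐐 : Set G) :=
  H75.normalizer_le_normalizer_pCoreOf E (X.B_le_normE hb)

include X in
theorem normalizer_E_le_mod : normalizer (E : Set G) ≤ normalizer ((𝐌 : Subgroup G) : Set G) :=
  (le_inf ((H75.normalizer_le_normalizer_pCoreOf E).trans X.normQ_le_normW) le_rfl).trans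
    (H75.normalizer_inf_le_normalizer_commutator _ _)

include X in
theorem mod_le : (𝐌 : Subgroup G) ≤ 𝐖 := X.facts.mod_le

include X in
/-- Elements of `W` split as `W_E Z`. -/
theorem exists_split {w : G} (hw : w ∈ 𝐖) : ∃ m ∈ (𝐌 : Subgroup G), ∃ z ∈ 𝐙, m * z = w := by
  have hab : (𝐌 : Subgroup G) ≤ normalizer ((𝐙 : Subgroup G) : Set G) := fun m hm =>
    X.normQ_le_normZ (le_normalizer (X.mem_W (X.mod_le hm)).1)
  have hw' : w ∈ 𝐌 ⊔ 𝐙 := X.facts.mod_sup.ge hw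
  rw [← SetLike.mem_coe, coe_mul_of_left_le_normalizer_right _ _ hab] at hw'
  exact hw'

include X in
theorem Z_comm_E {z e : G} (hz : z ∈ 𝐙) (he : e ∈ E) : Commute e z := hz.2 e he

include X in
theorem centralizer_mod_of_W {g : G} (hg : g ∈ centralizer (𝐖 : Set G)) :
    g ∈ centralizer ((𝐌 : Subgroup G) : Set G) := fun m hm => hg m (X.mod_le hm)

include X in
theorem centralizer_W_of_mod {g : G} (hg : g ∈ centralizer ((𝐌 : Subgroup G) : Set G))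
    (hz : ∀ z ∈ 𝐙, Commute g z) : g ∈ centralizer (𝐖 : Set G) := by
  intro w hw
  obtain ⟨m, hm, z, hz', rfl⟩ := X.exists_split hw
  exact ((show Commute g m from (hg m hm).symm).mul_right (hz z hz')).symm.eq

include X in
theorem commutator_E_P {e x : G} (he : e ∈ E) (hx : x ∈ 𝐏) : ⁅e, x⁆ ∈ 𝐐 := by
  have := H1.pCore_normal' 3 G
  have hn := X.P_le_normalizer_E
  have h1 : ⁅E, 𝐏⁆ ≤ E := H1.commutator_le_left_of_le_normalizer hn
  have h2 : ⁅E, 𝐏⁆ ≤ 𝐏 := commutator_le_right _ _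
  have h3 : E ≤ normalizer ((⁅E, 𝐏⁆ : Subgroup G) : Set G) := H1.left_le_normalizer_commutator
  exact H75.le_pCoreOf h1 h3 ((H1.isPGroup_pCore 3 G).to_le h2) (commutator_mem_commutator he hx)

include X in
theorem mem_stab_of_mem_E {e : G} (he : e ∈ E) :
    e ∈ (haveI := H1.pCore_normal' 3 G; stab 𝐏 𝐐) :=
  haveI := H1.pCore_normal' 3 G
  ⟨X.E_normQ he, fun _ hx => X.commutator_E_P he hx⟩

include X in
theorem Q_le_trivW {q : G} (hq : q ∈ 𝐐) : q ∈ X.SW.triv := by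
  refine ⟨X.nzW (le_normalizer hq), fun w hw => ?_⟩
  rw [X.SW_U] at hw
  rw [commutatorElement_eq_one_iff_commute.2 ((X.mem_W hw).2 q hq)]
  exact one_mem _

include X in
theorem Q_le_trivQ {q : G} (hq : q ∈ 𝐐) : q ∈ X.SQ.triv := by
  refine X.SQ.mem_triv_of_U₀ ?_ (X.SQ_U ▸ hq) (X.nzQ (le_normalizer hq))
  rw [X.SQ_U₀, X.SQ_U]
  exact fun w hw => (X.mem_W hw).1

include X in
theorem ρW_ker : X.ρW.ker = Cfsg.pCore 3 E := by
  symm
  have hle : Cfsg.pCore 3 E ≤ X.ρW.ker := by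
    intro e he
    rw [MonoidHom.mem_ker]
    refine sl2v_injective_left fun v => ?_
    rw [← X.actW, sl2v_one]
    exact X.SW.act_of_mem_triv (X.Q_le_trivW ⟨e, he, rfl⟩) v
  refine eq_of_le_of_card_ge hle ?_
  have h1 := card_eq_card_quotient_mul_card_subgroup (Cfsg.pCore 3 E)
  have h2 := card_eq_card_quotient_mul_card_subgroup X.ρW.ker
  rw [Nat.card_congr (QuotientGroup.quotientKerEquivRange X.ρW).toEquiv, X.ρW_range, ← X.cardE,
    h1] at h2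
  exact (Nat.eq_of_mul_eq_mul_left Nat.card_pos h2).ge

include X in
theorem mem_Q_of_trivW {e : G} (he : e ∈ E) (h : e ∈ X.SW.triv) : e ∈ 𝐐 := by
  have hk : (⟨e, he⟩ : E) ∈ X.ρW.ker := by
    rw [MonoidHom.mem_ker]
    refine sl2v_injective_left fun v => ?_
    rw [← X.actW, sl2v_one]
    exact X.SW.act_of_mem_triv h v
  rw [X.ρW_ker] at hk
  exact ⟨_, hk, rfl⟩

include X in
theorem ρQ_eq_of_ρW {a b : E} (h : X.ρW a = X.ρW b) : X.ρQ a = X.ρQ b := by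
  rw [← inv_mul_eq_one, ← map_inv, ← map_mul]
  have hk : a⁻¹ * b ∈ X.ρW.ker := by
    rw [MonoidHom.mem_ker, map_mul, map_inv, h, inv_mul_cancel]
  rw [X.ρW_ker] at hk
  refine sl2v_injective_left fun v => ?_
  rw [← X.actQ, sl2v_one]
  exact X.SQ.act_of_mem_triv (X.Q_le_trivQ ⟨_, hk, rfl⟩) v

/-- `N(Q) ∩ C(W_E)`. -/
def K (_X : Exc F T E) : Subgroup G :=
  normalizer (Cfsg.pCoreOf 3 E : Set G) ⊓ centralizer ((modE 3 E : Subgroup G) : Set G)

include X in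
theorem K_trivW {g : G} (hg : g ∈ X.K) : g ∈ X.SW.triv := by
  obtain ⟨hgQ, hgM⟩ := mem_inf.1 hg
  refine ⟨X.nzW hgQ, fun w hw => ?_⟩
  rw [X.SW_U] at hw
  rw [X.SW_U₀]
  obtain ⟨m, hm, z, hz, rfl⟩ := X.exists_split hw
  have h1 : ⁅g, m * z⁆ = g * z * g⁻¹ * z⁻¹ := by
    rw [commutatorElement_def]
    have hgm : g * m = m * g := (hgM m hm).symm
    have hmz : Commute m (g * z * g⁻¹) :=
      ((X.mem_W (inf_le_left (b := centralizer (E : Set G))
        (H75.conj_mem_of_mem_normalizer (X.normQ_le_normZ hgQ) hz))).2 m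
          (X.mem_W (X.mod_le hm)).1)
    calc g * (m * z) * g⁻¹ * (m * z)⁻¹ = (g * m) * z * g⁻¹ * (z⁻¹ * m⁻¹) := by group
      _ = m * (g * z * g⁻¹) * z⁻¹ * m⁻¹ := by rw [hgm]; group
      _ = (g * z * g⁻¹) * (m * z⁻¹) * m⁻¹ := by rw [hmz.eq]; group
      _ = (g * z * g⁻¹) * (z⁻¹ * m) * m⁻¹ := by
        rw [(show Commute m z⁻¹ from ((X.mem_W (inv_mem hz.1)).2 m (X.mem_W (X.mod_le hm)).1)).eq]
      _ = _ := by group
  rw [h1]
  exact mul_mem (H75.conj_mem_of_mem_normalizer (X.normQ_le_normZ hgQ) hz) (inv_mem hz)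

include X in
/-- Commutators of `K` with `E` centralise `W`. -/
theorem commutator_K_E_W {g e : G} (hg : g ∈ X.K) (he : e ∈ E) :
    ⁅g, e⁆ ∈ centralizer (𝐖 : Set G) := by
  obtain ⟨hgQ, hgM⟩ := mem_inf.1 hg
  have hgi : g⁻¹ ∈ centralizer ((𝐌 : Subgroup G) : Set G) := inv_mem hgM
  refine X.centralizer_W_of_mod (fun m hm => ?_) fun z hz => ?_
  · have he' : e⁻¹ * m * e ∈ (𝐌 : Subgroup G) :=
      H75.conj'_mem_of_mem_normalizer (X.normalizer_E_le_mod (le_normalizer he)) hm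
    have h1 : g⁻¹ * (e⁻¹ * m * e) = e⁻¹ * m * e * g⁻¹ := (hgi _ he').symm
    have h2 : g * m = m * g := (hgM m hm).symm
    rw [commutatorElement_def]
    calc m * (g * e * g⁻¹ * e⁻¹) = (m * g) * e * g⁻¹ * e⁻¹ := by group
      _ = g * e * ((e⁻¹ * m * e) * g⁻¹) * e⁻¹ := by rw [← h2]; group
      _ = g * e * (g⁻¹ * (e⁻¹ * m * e)) * e⁻¹ := by rw [h1]
      _ = _ := by group
  · have hz' : g⁻¹ * z * g ∈ 𝐙 := H75.conj'_mem_of_mem_normalizer (X.normQ_le_normZ hgQ) hz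
    have h1 : e⁻¹ * z = z * e⁻¹ := (X.Z_comm_E hz (inv_mem he)).eq
    have h2 : e * (g⁻¹ * z * g) = g⁻¹ * z * g * e := (X.Z_comm_E hz' he).eq
    rw [commutatorElement_def]
    show g * e * g⁻¹ * e⁻¹ * z = z * (g * e * g⁻¹ * e⁻¹)
    calc g * e * g⁻¹ * e⁻¹ * z = g * e * g⁻¹ * (e⁻¹ * z) := by group
      _ = g * (e * (g⁻¹ * z * g)) * g⁻¹ * e⁻¹ := by rw [h1]; group
      _ = _ := by rw [h2]; group

/-- The stabiliser of the chain `P₀ ≥ Q ≥ W ≥ 1`. -/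
def R (X : Exc F T E) : Subgroup G :=
  (haveI := H1.pCore_normal' 3 G; stab (Cfsg.pCore 3 G) (Cfsg.pCoreOf 3 E)) ⊓ X.SQ.triv ⊓
    centralizer (Cfsg.omegaOneCenter 3 (Cfsg.pCoreOf 3 E) : Set G)

include X in
theorem R_isPGroup : IsPGroup 3 X.R := by
  have := H1.pCore_normal' 3 G
  refine H75.isPGroup_of_no_coprime fun x hx hxo => ?_
  obtain ⟨⟨hx1, hx2⟩, hx3⟩ := mem_inf.1 hx |>.imp_left mem_inf.1
  have hQ : ∀ u ∈ 𝐐, Commute x u := by
    refine H75.commute_of_stabilize (B := 𝐖) ((H75.isPGroup_pCoreOf E).to_le fun w hw => (X.mem_W hw).1)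
      hxo (fun u hu => ?_) (fun w hw => ((hx3 : x ∈ centralizer (𝐖 : Set G)) w hw).symm)
    have := hx2.2 u (X.SQ_U ▸ hu)
    rwa [X.SQ_U₀] at this
  have hP : ∀ u ∈ 𝐏, Commute x u :=
    H75.commute_of_stabilize (H75.isPGroup_pCoreOf E) hxo (fun u hu => hx1.2 u hu) hQ
  have : x ∈ 𝐏 := X.hG fun u hu => (hP u hu).symm.eq
  exact H75.eq_one_of_mem_of_coprime (H1.isPGroup_pCore 3 G) this hxo

include X in
theorem normQ_normR {g : G} (hg : g ∈ normalizer (𝐐 : Set G)) :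
    g ∈ normalizer (X.R : Set G) := by
  have := H1.pCore_normal' 3 G
  refine H75.normalizer_inf_le_normalizer_inf _ _ (mem_inf.2
    ⟨H75.normalizer_inf_le_normalizer_inf _ _ (mem_inf.2
      ⟨le_normalizer_stab 𝐏 𝐐 hg, X.SQ.le_normalizer_triv (X.nzQ hg)⟩),
      H75.normalizer_le_normalizer_centralizer _ (X.normQ_le_normW hg)⟩)

include X in
theorem R_commutator : ⁅X.R, E⁆ ≤ X.R ⊓ E :=
  commutator_block X.blk X.R_isPGroup (fun _ hb => X.normQ_normR (X.B_normQ hb))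
    (fun _ he => X.normQ_normR (X.E_normQ he))

include X in
theorem R_inf_E_le : X.R ⊓ E ≤ 𝐐 :=
  H75.le_pCoreOf inf_le_right
    ((le_inf (fun _ he => X.normQ_normR (X.E_normQ he)) le_normalizer).trans
      (H75.normalizer_inf_le_normalizer_inf _ _))
    (X.R_isPGroup.to_le inf_le_left)

include X in
/-- `g ∈ K` commuting with `E` on `Q/W` has `⁅g,E⁆ ≤ R` and normalises `E`. -/
theorem commutator_mem_R {g e : G} (hg : g ∈ X.K) (he : e ∈ E) (h : ⁅g, e⁆ ∈ X.SQ.triv) :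
    ⁅g, e⁆ ∈ X.R := by
  have := H1.pCore_normal' 3 G
  refine mem_inf.2 ⟨mem_inf.2 ⟨?_, h⟩, X.commutator_K_E_W hg he⟩
  rw [commutatorElement_def]
  exact mul_mem (H75.conj_mem_of_mem_normalizer (le_normalizer_stab 𝐏 𝐐 (mem_inf.1 hg).1)
    (X.mem_stab_of_mem_E he)) (inv_mem (X.mem_stab_of_mem_E he))

end Exc

/-- Normalising via a `p`-group `R` normalising `E = O^p(E)`. -/
theorem mem_normalizer_of_commutator_mem {p : ℕ} [Fact p.Prime] {E R : Subgroup G}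
    (hE : H75.resOf p E = E) (hR : IsPGroup p R) (hRE : R ≤ normalizer (E : Set G)) {g : G}
    (h : ∀ e ∈ E, ⁅g, e⁆ ∈ R) : g ∈ normalizer (E : Set G) := by
  have hle : E.map (MulAut.conj g).toMonoidHom ≤ E := by
    refine le_trans ?_ (H75.resOf_le_of_sup (K := E ⊔ R) (N := E) (P := R)
      (sup_le le_normalizer hRE) hR rfl)
    rw [map_le_iff_le_comap]
    refine hE.ge.trans ((closure_le _).2 fun e he => subset_closure ⟨?_, ?_⟩)
    · show g * e * g⁻¹ ∈ E ⊔ R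
      rw [show g * e * g⁻¹ = ⁅g, e⁆ * e by rw [commutatorElement_def]; group]
      exact mul_mem (mem_sup_right (h e he.1)) (mem_sup_left he.1)
    · show (orderOf (g * e * g⁻¹)).Coprime p
      rw [show g * e * g⁻¹ = (MulAut.conj g) e from rfl, MulEquiv.orderOf_eq]
      exact he.2
  rw [mem_normalizer_iff_map_conj_eq]
  exact eq_of_le_of_card_ge hle (card_map_of_injective (MulEquiv.injective _)).ge

end H78.Block
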