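import Cfsg.Agent.H78.BlockExcMain

/-!
Exceptional blocks: `C(W_E) ≤ N(E)`.
-/

set_option autoImplicit false
set_option linter.unusedSectionVars false
set_option linter.unusedFintypeInType false

open Subgroup
open scoped MatrixGroups commutatorElement

namespace H78.Block.Exc

variable {G : Type*} [Group G] [Finite G] [Fact (Nat.Prime 3)] {F : Type*} [Field F] [Finite F]
  [CharP F 3] {T : Sylow 3 G} {E : Subgroup G} (X : Exc F T E)

local notation "𝐏" => Cfsg.pCore 3 G
local notation "𝐐" => Cfsg.pCoreOf 3 E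
local notation "𝐖" => Cfsg.omegaOneCenter 3 (Cfsg.pCoreOf 3 E)
local notation "𝐙" => Cfsg.omegaOneCenter 3 (Cfsg.pCoreOf 3 E) ⊓ centralizer (E : Set G)
local notation "𝐁" => Cfsg.baumannSubgroupOf 3 (T : Subgroup G)
local notation "𝐌" => modE 3 E
local notation "𝐂" => centralizer ((modE 3 E : Subgroup G) : Set G)

include X in
theorem conj_C {g c : G} (hg : g ∈ normalizer (E : Set G)) (hc : c ∈ 𝐂) : g * c * g⁻¹ ∈ 𝐂 :=
  H75.conj_mem_of_mem_normalizer (H75.normalizer_le_normalizer_centralizer _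
    (X.normalizer_E_le_mod hg)) hc

include X in
theorem K_of_commute {t e : G} (h : Invol X t e) {g : G} (hg : g ∈ 𝐂) (hgt : Commute g t) :
    g ∈ X.K := by
  have := H1.pCore_normal' 3 G
  refine mem_inf.2 ⟨?_, hg⟩
  have hle : 𝐐 ≤ (𝐐 : Subgroup G).comap (MulAut.conj g).toMonoidHom := by
    refine X.Q_le_of_neg (X.E_normQ h.memE) h.negQ h.negW fun u hu => ?_
    show g * ⁅t, u⁆ * g⁻¹ ∈ 𝐐
    have : g * ⁅t, u⁆ * g⁻¹ = ⁅g * t * g⁻¹, g * u * g⁻¹⁆ := by
      simp [commutatorElement_def, mul_assoc]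
    rw [this, hgt.eq, mul_inv_cancel_right]
    exact X.commutator_E_P h.memE ((inferInstance : (𝐏 : Subgroup G).Normal).conj_mem _ (X.QleP hu) g)
  rw [mem_normalizer_iff_map_conj_eq]
  exact eq_of_le_of_card_ge (map_le_iff_le_comap.2 hle)
    (card_map_of_injective (MulEquiv.injective _)).ge

include X in
theorem conj_eq_of_commute {t e : G} (h : Invol X t e) {c : G} (hc : c ∈ 𝐂)
    (hcomm : Commute t (c * t * c⁻¹)) : c * t * c⁻¹ = t := by
  have := H1.pCore_normal' 3 G
  set t' := c * t * c⁻¹ with ht'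
  have hti : t⁻¹ = t := inv_eq_of_mul_eq_one_right h.sq
  have htQ := X.E_normQ h.memE
  set s := t * t' with hs
  have hsC : s ∈ 𝐂 := by
    rw [hs, ht', show t * (c * t * c⁻¹) = (t * c * t⁻¹) * c⁻¹ by rw [hti]; group]
    exact mul_mem (X.conj_C (le_normalizer h.memE) hc) (inv_mem hc)
  have hsK : s ∈ X.K := X.K_of_commute h hsC ((Commute.refl t).mul_left hcomm.symm)
  have hsQ := (mem_inf.1 hsK).1
  have ht'eq : t' = t * s := by rw [hs, ← mul_assoc, h.sq, one_mul]
  have ht'Q : t' ∈ normalizer (𝐐 : Set G) := ht'eq ▸ mul_mem htQ hsQ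
  have hQ' : ∀ v, X.SQ.act t' v = -v := fun v => by
    rw [ht'eq, X.SQ.act_mul (X.nzQ htQ) (X.nzQ hsQ), X.SQ.act_of_mem_triv (X.K_le_trivQ hsK),
      h.negQ]
  have hW' : ∀ v, X.SW.act t' v = -v := fun v => by
    rw [ht'eq, X.SW.act_mul (X.nzW htQ) (X.nzW hsQ), X.SW.act_of_mem_triv (X.K_trivW hsK), h.negW]
  have hle : 𝐐 ≤ (𝐐 : Subgroup G).map (MulAut.conj c).toMonoidHom := by
    refine X.Q_le_of_neg ht'Q hQ' hW' fun u hu => ?_
    refine ⟨⁅t, c⁻¹ * u * c⁆, X.commutator_E_P h.memE ?_, ?_⟩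
    · simpa using (inferInstance : (𝐏 : Subgroup G).Normal).conj_mem _ (X.QleP hu) c⁻¹
    · simp [ht', commutatorElement_def, mul_assoc]
  have hcQ : c ∈ normalizer (𝐐 : Set G) := by
    rw [mem_normalizer_iff_map_conj_eq]
    exact (eq_of_le_of_card_ge hle (card_map_of_injective (MulEquiv.injective _)).le).symm
  have hcE := X.K_normE (mem_inf.2 ⟨hcQ, hc⟩)
  have hq : t' * t ∈ 𝐐 := X.invol_conj h hcE
  have hsq : (t' * t) ^ 2 = 1 := by
    rw [pow_two, show t' * t * (t' * t) = t' * (t * t') * t by group, hcomm.eq,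
      show t' * (t' * t) * t = (t' * t') * (t * t) by group, h.sq, mul_one, ht',
      show c * t * c⁻¹ * (c * t * c⁻¹) = c * (t * t) * c⁻¹ by group, h.sq, mul_one, mul_inv_cancel]
  have h1 := H75.eq_one_of_mem_of_coprime (H75.isPGroup_pCoreOf E) hq
    (Nat.Coprime.coprime_dvd_left (orderOf_dvd_of_pow_eq_one hsq) (by norm_num))
  rw [← mul_inv_eq_one, hti]
  exact h1

/-- The section `O₃(G) / Φ(O₃(G))`. -/
noncomputable def SM : Sec G
    (Additive (Abelianization ((Cfsg.pCore 3 G : Subgroup G) ⧸ frattini (Cfsg.pCore 3 G : Subgroup G)))) where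
  U := Cfsg.pCore 3 G
  U₀ := (frattini (Cfsg.pCore 3 G : Subgroup G)).map (Cfsg.pCore 3 G).subtype
  ψ :=
    { toFun := fun u => Multiplicative.ofAdd (Additive.ofMul (Abelianization.of
        (QuotientGroup.mk' (frattini (Cfsg.pCore 3 G : Subgroup G)) u)))
      map_one' := by simp
      map_mul' := fun a b => by simp }
  surj := fun a => by
    obtain ⟨v, hv⟩ := QuotientGroup.mk'_surjective _ (Additive.toMul (Multiplicative.toAdd a))
    obtain ⟨u, hu⟩ := QuotientGroup.mk'_surjective _ v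
    refine ⟨u, ?_⟩
    show Multiplicative.ofAdd (Additive.ofMul (Abelianization.of (QuotientGroup.mk' _ u))) = a
    rw [hu]
    exact congrArg (fun x => Multiplicative.ofAdd (Additive.ofMul x)) hv
  ker := fun u => by
    change Abelianization.of (QuotientGroup.mk' _ u) = 1 ↔ _
    have hc : commutator ((Cfsg.pCore 3 G : Subgroup G) ⧸ frattini (Cfsg.pCore 3 G : Subgroup G)) = ⊥ := by
      rw [_root_.commutator_def, ← MonoidHom.range_eq_top.2 (QuotientGroup.mk'_surjective _),
        MonoidHom.range_eq_map, ← map_commutator, eq_bot_iff, map_le_iff_le_comap]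
      refine le_trans ?_ (QuotientGroup.ker_mk' (frattini (Cfsg.pCore 3 G : Subgroup G))).ge
      exact H31.commutator_le_frattini (H1.isPGroup_pCore 3 G)
    rw [← MonoidHom.mem_ker, Abelianization.ker_of, hc, mem_bot, ← MonoidHom.mem_ker,
      QuotientGroup.ker_mk']
    exact (mem_map_iff_mem (Subgroup.subtype_injective _)).symm

theorem SM_nz (g : G) : g ∈ (SM (G := G)).Nz := by
  have := H1.pCore_normal' 3 G
  exact (SM (G := G)).mem_Nz.2 ⟨by
    show g ∈ normalizer ((Cfsg.pCore 3 G : Subgroup G) : Set G)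
    rw [normalizer_eq_top]; trivial,
    H1.le_normalizer_map_subtype_of_characteristic (A := ⊤) le_normalizer_of_normal _ trivial⟩

theorem SM_three (x : Additive (Abelianization ((Cfsg.pCore 3 G : Subgroup G) ⧸
    frattini (Cfsg.pCore 3 G : Subgroup G)))) : 3 • x = 0 := by
  obtain ⟨u, hu, rfl⟩ := (SM (G := G)).exists_img x
  have h1 : ∀ n : ℕ, n • (SM (G := G)).img u = (SM (G := G)).img (u ^ n) := by
    intro n
    induction n with
    | zero => simp [Sec.img_one]
    | succ n ih =>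
      rw [succ_nsmul, ih, pow_succ, (SM (G := G)).img_mul (pow_mem hu n) hu]
  rw [h1]
  exact ((SM (G := G)).img_eq_zero (pow_mem hu 3)).2 ⟨(⟨u, hu⟩ : (Cfsg.pCore 3 G : Subgroup G)) ^ 3,
    H31.pow_mem_frattini (H1.isPGroup_pCore 3 G) _, rfl⟩

/-- The action on `O₃(G) / Φ(O₃(G))`. -/
noncomputable def φM : G →* AddMonoid.End (Additive (Abelianization
    ((Cfsg.pCore 3 G : Subgroup G) ⧸ frattini (Cfsg.pCore 3 G : Subgroup G)))) where
  toFun g := (SM (G := G)).actHom (SM_nz g)
  map_one' := AddMonoidHom.ext fun v => (SM (G := G)).act_one v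
  map_mul' a b := AddMonoidHom.ext fun v => (SM (G := G)).act_mul (SM_nz a) (SM_nz b) v

theorem φM_apply (g : G) (v : Additive (Abelianization ((Cfsg.pCore 3 G : Subgroup G) ⧸
    frattini (Cfsg.pCore 3 G : Subgroup G)))) : φM g v = (SM (G := G)).act g v := rfl

include X in
theorem img_W_inverted {t e : G} (h : Invol X t e) {w : G} (hw : w ∈ 𝐖) :
    φM t ((SM (G := G)).img w) = -(SM (G := G)).img w := by
  have hP : ∀ {x : G}, x ∈ 𝐐 → x ∈ (SM (G := G)).U := fun hx => X.QleP hx
  have hZΦ : ∀ z ∈ 𝐙, (SM (G := G)).img z = 0 := by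
    intro z hz
    have hzQ := X.Z_le_Q hz
    refine ((SM (G := G)).img_eq_zero (hP hzQ)).2 ?_
    rw [← X.commQQ] at hz
    refine (?_ : ⁅𝐐, 𝐐⁆ ≤ (SM (G := G)).U₀) hz
    refine (commutator_mono X.QleP X.QleP).trans ?_
    rw [← map_subtype_commutator]
    exact map_mono (H31.commutator_le_frattini (H1.isPGroup_pCore 3 G))
  have hwQ := (X.mem_W hw).1
  have hwU : w ∈ X.SW.U := X.SW_U.symm ▸ hw
  have htn := X.nzW (X.E_normQ h.memE)
  have hc := X.SW.commutator_mem_U htn hwU
  have h1 : ⁅t, w⁆ * (w * w) ∈ 𝐙 := by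
    rw [← X.SW_U₀]
    refine (X.SW.img_eq_zero (mul_mem hc (mul_mem hwU hwU))).1 ?_
    rw [X.SW.img_mul hc (mul_mem hwU hwU), X.SW.img_commutator htn hwU, h.negW,
      X.SW.img_mul hwU hwU]
    abel
  have hcQ : ⁅t, w⁆ ∈ 𝐐 := X.commutator_E_P h.memE (X.QleP hwQ)
  have h2 := hZΦ _ h1
  rw [(SM (G := G)).img_mul (hP hcQ) (mul_mem (hP hwQ) (hP hwQ)),
    (SM (G := G)).img_mul (hP hwQ) (hP hwQ),
    (SM (G := G)).img_commutator (SM_nz t) (hP hwQ)] at h2
  rw [φM_apply, eq_neg_iff_add_eq_zero, ← h2]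
  abel

include X in
/-- `t` centralises every invariant Sylow `r`-subgroup, `r ≠ 3`. -/
theorem commute_sylow {t e : G} (h : Invol X t e) {Y : Subgroup G} (hY : Y ≤ 𝐂)
    (hodd : Odd (Nat.card Y)) (htY : zpowers t ≤ normalizer (Y : Set G))
    (heY : e ∈ normalizer (Y : Set G)) {r : ℕ} [hr : Fact r.Prime] (hr3 : r ≠ 3)
    (S : Sylow r Y) (hS : zpowers t ≤ normalizer ((S : Subgroup Y).map Y.subtype : Set G)) :
    ∀ s ∈ (S : Subgroup Y).map Y.subtype, Commute s t := by
  set M := (SM (G := G)) with hM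
  have hPn := H1.pCore_normal' 3 G
  have hti : t⁻¹ = t := inv_eq_of_mul_eq_one_right h.sq
  have hcop : (Nat.card (zpowers t)).Coprime (Nat.card Y) := by
    refine (Nat.coprime_two_left.2 hodd).coprime_dvd_left ?_
    rw [Nat.card_zpowers, orderOf_dvd_iff_pow_eq_one, pow_two, h.sq]
  -- `e` moves `S` by a fixed element of `Y`
  set Sg := (S : Subgroup Y).map Y.subtype with hSg
  have heN : zpowers t ≤ normalizer (Sg.map (MulAut.conj e).toMonoidHom : Set G) := by
    rw [zpowers_le, mem_normalizer_iff_map_conj_eq]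
    refine eq_of_le_of_card_ge ?_ (card_map_of_injective (MulEquiv.injective _)).ge
    rintro _ ⟨_, ⟨x, hx, rfl⟩, rfl⟩
    refine ⟨t * x * t⁻¹, H75.conj_mem_of_mem_normalizer (hS (mem_zpowers t)) hx, ?_⟩
    show e * (t * x * t⁻¹) * e⁻¹ = t * (e * x * e⁻¹) * t⁻¹
    rw [show t * (e * x * e⁻¹) * t⁻¹ = (t * e) * x * (t * e)⁻¹ by group, ← h.comm.eq]
    group
  have hle : Sg.map (MulAut.conj e).toMonoidHom ≤ Y := by
    rintro _ ⟨x, hx, rfl⟩
    exact H75.conj_mem_of_mem_normalizer heY (map_subtype_le _ hx)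
  obtain ⟨S', hS'⟩ : ∃ S' : Sylow r Y,
      (S' : Subgroup Y).map Y.subtype = Sg.map (MulAut.conj e).toMonoidHom := by
    refine ⟨Sylow.ofCard ((Sg.map (MulAut.conj e).toMonoidHom).subgroupOf Y) (by
      rw [Nat.card_congr (subgroupOfEquivOfLe hle).toEquiv,
        card_map_of_injective (f := (MulAut.conj e).toMonoidHom) (MulEquiv.injective _), hSg,
        card_map_of_injective Y.subtype_injective, S.card_eq_multiplicity]), ?_⟩
    rw [Sylow.coe_ofCard, subgroupOf_map_subtype, inf_eq_left.2 hle]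
  obtain ⟨c, hct, hcS⟩ := H1.exists_fixed_conj_sylow htY hcop (Or.inl inferInstance) r S S' hS
    (hS'.symm ▸ heN)
  have hcS' : Sg.map (MulAut.conj (c : G)).toMonoidHom = Sg.map (MulAut.conj e).toMonoidHom := by
    rw [← hS', ← hcS]
    exact (H1.map_subtype_conj_smul c (S : Subgroup Y)).symm
  have hct' : Commute (c : G) t := (hct t (mem_zpowers t)).symm
  set g := (c : G)⁻¹ * e with hg
  have hgS : g ∈ normalizer (Sg : Set G) := by
    rw [mem_normalizer_iff_map_conj_eq]
    refine eq_of_le_of_card_ge ?_ (card_map_of_injective (MulEquiv.injective _)).ge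
    rintro _ ⟨x, hx, rfl⟩
    obtain ⟨y, hy, hye⟩ := hcS'.ge ⟨x, hx, rfl⟩
    simp only [MulEquiv.coe_toMonoidHom, MulAut.conj_apply] at hye
    show g * x * g⁻¹ ∈ Sg
    have : g * x * g⁻¹ = y := by
      calc g * x * g⁻¹ = (c : G)⁻¹ * (e * x * e⁻¹) * (c : G) := by rw [hg]; group
        _ = _ := by rw [← hye]; group
    rwa [this]
  have hgt : Commute g t := hct'.inv_left.mul_left h.comm
  set m := orderOf (c : G) with hm
  have hmodd : Odd m := hodd.of_dvd_nat (Subgroup.orderOf_dvd_natCard Y c.2)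
  have hcC : (c : G) ∈ 𝐂 := hY c.2
  have hcK := X.K_of_commute h hcC hct'
  -- `c` and `e` commute on `M`
  have hQM : ∀ q ∈ 𝐐, ∀ v, φM q v = v := fun q hq v => by
    rw [φM_apply]
    exact M.act_of_mem_triv (M.mem_triv_of_U₀ (map_subtype_le _) (X.QleP hq) (SM_nz q)) v
  have hce : ∀ v, φM ((c : G)⁻¹) (φM e v) = φM e (φM ((c : G)⁻¹) v) := by
    have hq : ⁅(c : G)⁻¹, e⁆ ∈ 𝐐 := by
      refine X.R_inf_E_le (mem_inf.2 ⟨X.commutator_Γ (X.K_le_Γ (inv_mem hcK)) h.eE, ?_⟩)
      rw [commutatorElement_def]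
      exact mul_mem (H75.conj_mem_of_mem_normalizer (X.K_normE (inv_mem hcK)) h.eE) (inv_mem h.eE)
    exact fun v => (M.act_comm_iff (SM_nz _) (SM_nz _)).1 (M.mem_triv_iff (SM_nz _) |>.2
      (hQM _ hq)) v
  have hgpow : ∀ n : ℕ, ∀ v, φM (g ^ n) v = φM (e ^ n) (φM (((c : G)⁻¹) ^ n) v) := by
    intro n
    induction n with
    | zero => intro v; simp [one_apply_end]
    | succ n ih =>
      intro v
      rw [pow_succ, mul_apply_end, ih, hg, mul_apply_end, pow_succ e, mul_apply_end,
        pow_succ ((c : G)⁻¹), mul_apply_end]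
      congr 1
      clear ih
      induction n generalizing v with
      | zero => simp [one_apply_end, hce]
      | succ n ih =>
        rw [pow_succ', mul_apply_end, ih, hce, ← mul_apply_end φM ((c : G)⁻¹) _, ← pow_succ']
  set hh := g ^ m with hhh
  have hhact : ∀ v, φM hh v = φM (e ^ m) v := fun v => by
    rw [hhh, hgpow, inv_pow, hm, pow_orderOf_eq_one, inv_one, one_apply_end]
  have hetq : ∀ v, φM (e * e) v = φM t v := fun v => by
    conv_lhs => rw [show e * e = e * e * t * t by rw [mul_assoc (e * e), h.sq, mul_one],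
      mul_apply_end φM (e * e * t) t, hQM _ h.esq]
  refine commute_of_module φM (SM_three (G := G)) (r := r) (h := hh) (S.isPGroup'.map _) ?_ ?_
    h.sq (fun s hs => H75.conj_mem_of_mem_normalizer (hS (mem_zpowers t)) hs)
    (fun s hs => H75.conj_mem_of_mem_normalizer (pow_mem hgS m) hs) (hgt.pow_left m) ?_ ?_ ?_ ?_
  · obtain ⟨k, hk⟩ := IsPGroup.iff_card.1 (S.isPGroup'.map Y.subtype)
    rw [hk]
    exact Nat.Coprime.pow_left k ((Nat.coprime_primes hr.1 Nat.prime_three).2 hr3)
  · exact hodd.of_dvd_nat (card_dvd_of_le (map_subtype_le _))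
  · intro v hv
    rw [hhact]
    have h1 : φM e v = v := by
      -- `⁅e, ·⁆` lands in the inverted part
      obtain ⟨u, hu, rfl⟩ := M.exists_img v
      have hq := X.commutator_E_P h.eE hu
      have hd : φM e (M.img u) - M.img u = M.img ⁅e, u⁆ :=
        (M.img_commutator (SM_nz e) hu).symm
      set d := M.img ⁅e, u⁆ with hdd
      have hd1 : φM t d = -d := by
        have hqU : ⁅e, u⁆ ∈ X.SQ.U := X.SQ_U.symm ▸ hq
        have htn := X.nzQ (X.E_normQ h.memE)
        have hc := X.SQ.commutator_mem_U htn hqU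
        have h1 : ⁅t, ⁅e, u⁆⁆ * (⁅e, u⁆ * ⁅e, u⁆) ∈ 𝐖 := by
          rw [← X.SQ_U₀]
          refine (X.SQ.img_eq_zero (mul_mem hc (mul_mem hqU hqU))).1 ?_
          rw [X.SQ.img_mul hc (mul_mem hqU hqU), X.SQ.img_commutator htn hqU, h.negQ,
            X.SQ.img_mul hqU hqU]
          abel
        have hcQ : ⁅t, ⁅e, u⁆⁆ ∈ 𝐐 := X.commutator_E_P h.memE (X.QleP hq)
        have hqP : ⁅e, u⁆ ∈ M.U := X.QleP hq
        have h2 := X.img_W_inverted h h1
        rw [M.img_mul (X.QleP hcQ) (mul_mem hqP hqP), M.img_mul hqP hqP,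
          M.img_commutator (SM_nz t) hqP] at h2
        rw [← hdd, show M.act t d - d + (d + d) = φM t d + d by rw [φM_apply]; abel, map_add,
          ← mul_apply_end φM t t, h.sq, one_apply_end] at h2
        have h3' := SM_three (G := G) (φM t d + d)
        rw [eq_neg_iff_add_eq_zero]
        have h4 : (φM t d + d) + (φM t d + d) = 0 := by
          nth_rewrite 1 [add_comm (φM t d) d]
          rw [h2, neg_add_cancel]
        rw [← h3', show (3 : ℕ) • (φM t d + d) = (φM t d + d) + ((φM t d + d) + (φM t d + d)) by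
          abel, h4, add_zero]
      have hd2 : φM t d = d := by
        rw [← hd, map_sub, hv, ← commute_apply_end φM h.comm, hv]
      have hd0 : d = 0 := by
        have h5 : d + d = 0 := by
          nth_rewrite 1 [← hd2]
          rw [hd1, neg_add_cancel]
        rw [← SM_three (G := G) d, show (3 : ℕ) • d = d + (d + d) by abel, h5, add_zero]
      exact sub_eq_zero.1 (hd.trans hd0)
    have : ∀ n : ℕ, φM (e ^ n) v = v := by
      intro n
      induction n with
      | zero => rw [pow_zero, one_apply_end]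
      | succ n ih => rw [pow_succ, mul_apply_end, h1, ih]
    exact this m
  · intro v
    rw [mul_apply_end, hhact, hhact, ← mul_apply_end, ← pow_add, ← two_mul, pow_mul]
    obtain ⟨j, hj⟩ := hmodd
    have key : ∀ n : ℕ, ∀ v, φM ((e ^ 2) ^ n) v = φM (t ^ n) v := by
      intro n
      induction n with
      | zero => intro v; rw [pow_zero, pow_zero]
      | succ n ih => intro v; rw [pow_succ', mul_apply_end, ih, pow_two, hetq, ← mul_apply_end, ← pow_succ']
    rw [key, hj, pow_succ, pow_mul, pow_two, h.sq, one_pow, one_mul]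
  · intro s hs htriv
    have hsY : s ∈ Y := map_subtype_le _ hs
    have hso : (orderOf s).Coprime 3 := by
      obtain ⟨k, hk⟩ := (S.isPGroup'.map Y.subtype) ⟨s, hs⟩
      exact (Nat.Coprime.pow_left k ((Nat.coprime_primes hr.1 Nat.prime_three).2 hr3)).coprime_dvd_left
        (orderOf_dvd_of_pow_eq_one (congrArg Subtype.val hk : s ^ r ^ k = 1))
    have hA : zpowers s ≤ centralizer (𝐏 : Set G) := by
      refine H1.le_centralizer_of_frattini le_normalizer_of_normal ?_ ?_
      · obtain ⟨k, hk⟩ := IsPGroup.iff_card.1 ((H1.isPGroup_pCore 3 G).to_subgroup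
          (frattini (𝐏 : Subgroup G)))
        rw [hk, Nat.card_zpowers]
        exact hso.pow_right k
      · intro a ha x hx
        have hat : φM a (M.img x) = M.img x := by
          obtain ⟨i, rfl⟩ := (mem_powers_iff_mem_zpowers).2 ha
          simp only
          have : ∀ n : ℕ, φM (s ^ n) (M.img x) = M.img x := by
            intro n
            induction n with
            | zero => rw [pow_zero, one_apply_end]
            | succ n ih => rw [pow_succ, mul_apply_end, htriv, ih]
          exact this i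
        have h2 := (M.img_eq_zero (M.commutator_mem_U (SM_nz a) hx)).1 (by
          rw [M.img_commutator (SM_nz a) hx, ← φM_apply, hat, sub_self])
        rw [commutatorElement_def] at h2
        exact h2
    exact H75.eq_one_of_mem_of_coprime (H1.isPGroup_pCore 3 G)
      (X.hG (hA (mem_zpowers s))) hso
  · intro z hz hzt v hv
    obtain ⟨u, hu, rfl⟩ := M.exists_img v
    have hq := X.commutator_E_P h.memE hu
    have hzK := X.K_of_commute h (hY (map_subtype_le _ hz)) hzt
    have hzo : (orderOf z).Coprime 3 := by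
      obtain ⟨k, hk⟩ := (S.isPGroup'.map Y.subtype) ⟨z, hz⟩
      exact (Nat.Coprime.pow_left k ((Nat.coprime_primes hr.1 Nat.prime_three).2 hr3)).coprime_dvd_left
        (orderOf_dvd_of_pow_eq_one (congrArg Subtype.val hk : z ^ r ^ k = 1))
    -- the inverted vector comes from `Q`
    have hvq : M.img ⁅t, u⁆ = M.img u := by
      rw [M.img_commutator (SM_nz t) hu, ← φM_apply, hv]
      have := SM_three (G := G) (M.img u)
      rw [← sub_eq_zero, ← neg_eq_zero, ← this]
      abel
    rw [← hvq]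
    set q := ⁅t, u⁆ with hqdef
    have hw : ⁅z, q⁆ ∈ 𝐖 := by
      rw [← X.SQ_U₀]
      exact (X.K_le_trivQ hzK).2 q (X.SQ_U.symm ▸ hq)
    refine fixed_of_fixed_sub φM (SM_three (G := G)) hzo ?_
    have hqP : q ∈ M.U := X.QleP hq
    rw [φM_apply, φM_apply, ← M.img_commutator (SM_nz z) hqP]
    obtain ⟨m', hm', z', hz', hmz⟩ := X.exists_split hw
    have hcw : ⁅z, ⁅z, q⁆⁆ ∈ 𝐙 := by
      have := (X.K_trivW hzK).2 ⁅z, q⁆ (X.SW_U.symm ▸ hw)
      rwa [X.SW_U₀] at this
    have hwP : ⁅z, q⁆ ∈ M.U := X.QleP (X.mem_W hw).1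
    have h0 : M.img ⁅z, ⁅z, q⁆⁆ = 0 := by
      refine (M.img_eq_zero (M.commutator_mem_U (SM_nz z) hwP)).2 ?_
      rw [← X.commQQ] at hcw
      refine (?_ : ⁅𝐐, 𝐐⁆ ≤ M.U₀) hcw
      refine (commutator_mono X.QleP X.QleP).trans ?_
      rw [← map_subtype_commutator]
      exact map_mono (H31.commutator_le_frattini (H1.isPGroup_pCore 3 G))
    rw [M.img_commutator (SM_nz z) hwP, sub_eq_zero] at h0
    exact h0

include X in
theorem invol_normalizes {t e : G} (h : Invol X t e) :
    t ∈ normalizer ((𝐂 : Subgroup G) : Set G) :=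
  H75.normalizer_le_normalizer_centralizer _ (X.normalizer_E_le_mod (le_normalizer h.memE))

include X in
/-- **`C(W_E)` normalises an exceptional block.** -/
theorem centralizer_le_normalizer : 𝐂 ≤ normalizer (E : Set G) := by
  obtain ⟨t, e, h⟩ := X.exists_invol
  have hti : t⁻¹ = t := inv_eq_of_mul_eq_one_right h.sq
  have htC : zpowers t ≤ normalizer ((𝐂 : Subgroup G) : Set G) :=
    zpowers_le.2 (X.invol_normalizes h)
  set XG := 𝐂 ⊔ zpowers t with hXG
  have htX : t ∈ XG := mem_sup_right (mem_zpowers t)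
  have htne : t ≠ 1 := fun he => h.notQ (he ▸ one_mem _)
  have hdec : ∀ x ∈ XG, ∃ c ∈ 𝐂, x = c ∨ x = c * t := by
    intro x hx
    rw [hXG, ← SetLike.mem_coe, coe_mul_of_right_le_normalizer_left _ _ htC] at hx
    obtain ⟨c, hc, k, hk, rfl⟩ := hx
    obtain ⟨n, rfl⟩ := mem_zpowers_iff.1 hk
    obtain ⟨m, rfl | rfl⟩ := Int.even_or_odd' n
    · exact ⟨c, hc, Or.inl (by show c * t ^ (2 * m) = c; rw [_root_.zpow_mul, zpow_two, h.sq, one_zpow, mul_one])⟩
    · exact ⟨c, hc, Or.inr (by
        rw [zpow_add, _root_.zpow_mul, zpow_two, h.sq, one_zpow, one_mul, zpow_one])⟩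
  have hiso : Cfsg.IsIsolatedInvolution (⟨t, htX⟩ : XG) := by
    refine ⟨by rw [Subgroup.orderOf_mk]; exact orderOf_eq_prime (by rw [pow_two, h.sq]) htne, ?_⟩
    rintro ⟨x, hx⟩ hcomm
    apply Subtype.ext
    have hcomm' : Commute t (x * t * x⁻¹) := congrArg Subtype.val hcomm.eq
    show x * t * x⁻¹ = t
    obtain ⟨c, hc, hxc⟩ := hdec x hx
    have hconj : x * t * x⁻¹ = c * t * c⁻¹ := by
      rcases hxc with rfl | rfl
      · rfl
      · group
    rw [hconj] at hcomm' ⊢
    exact X.conj_eq_of_commute h hc hcomm'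
  have hZ := H85.zStar hiso
  -- the odd core
  set Y := (Cfsg.pPrimeCore 2 (𝐂 : Subgroup G)).map (𝐂 : Subgroup G).subtype with hY
  have hYC : Y ≤ 𝐂 := map_subtype_le _
  have hYodd : Odd (Nat.card Y) := by
    rw [hY, card_map_of_injective (Subgroup.subtype_injective _), ← Nat.coprime_two_right]
    exact H1.card_pPrimeCore_coprime 2 _
  have hYchar := H1.pPrimeCore_characteristic 2 (𝐂 : Subgroup G)
  have hYn : normalizer ((𝐂 : Subgroup G) : Set G) ≤ normalizer (Y : Set G) :=
    H75.normalizer_le_normalizer_map_characteristic _ _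
  have hOY : ∀ g ∈ 𝐂, ⁅t, g⁆ ∈ Y := by
    intro g hg
    set O := (Cfsg.pPrimeCore 2 XG).map XG.subtype with hO
    have hg' := hZ ⟨g, mem_sup_left hg⟩
    have hgO : ⁅t, g⁆ ∈ O := ⟨_, hg', by simp [commutatorElement_def]⟩
    have hOodd : Odd (Nat.card O) := by
      rw [hO, card_map_of_injective XG.subtype_injective, ← Nat.coprime_two_right]
      exact H1.card_pPrimeCore_coprime 2 _
    have hOC : O ≤ 𝐂 := by
      intro x hx
      refine H85.mem_of_sq_mem_of_odd (hOodd.of_dvd_nat (Subgroup.orderOf_dvd_natCard O hx)) ?_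
      obtain ⟨c, hc, rfl | rfl⟩ := hdec x (map_subtype_le _ hx)
      · exact mul_mem hc hc
      · rw [show c * t * (c * t) = c * (t * c * t⁻¹) * (t * t) by group, h.sq, mul_one]
        exact mul_mem hc (H75.conj_mem_of_mem_normalizer (X.invol_normalizes h) hc)
    have hXO : XG ≤ normalizer (O : Set G) := by
      have := H1.pPrimeCore_characteristic 2 XG
      exact H1.le_normalizer_map_subtype_of_characteristic le_normalizer _
    have : (O.subgroupOf 𝐂).Normal :=
      normal_subgroupOf_of_le_normalizer ((le_sup_left : 𝐂 ≤ XG).trans hXO)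
    refine map_mono (H1.le_pPrimeCore (N := O.subgroupOf 𝐂) ?_)
      (?_ : ⁅t, g⁆ ∈ (O.subgroupOf 𝐂).map (𝐂 : Subgroup G).subtype)
    · rw [Nat.card_congr (subgroupOfEquivOfLe hOC).toEquiv, Nat.coprime_two_right]
      exact hOodd
    · rw [subgroupOf_map_subtype, inf_eq_left.2 hOC]
      exact hgO
  have htY : zpowers t ≤ normalizer (Y : Set G) := htC.trans hYn
  have heY : e ∈ normalizer (Y : Set G) :=
    hYn (H75.normalizer_le_normalizer_centralizer _ (X.normalizer_E_le_mod (le_normalizer h.eE)))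
  have hcardt : Nat.card (zpowers t) ∣ 2 := by
    rw [Nat.card_zpowers, orderOf_dvd_iff_pow_eq_one, pow_two, h.sq]
  have hcopY : (Nat.card (zpowers t)).Coprime (Nat.card Y) :=
    (Nat.coprime_two_left.2 hYodd).coprime_dvd_left hcardt
  set Y1 := ⁅Y, zpowers t⁆ with hY1
  have hY1Y : Y1 ≤ Y := H1.commutator_le_left_of_le_normalizer htY
  have hY1odd : Odd (Nat.card Y1) := hYodd.of_dvd_nat (card_dvd_of_le hY1Y)
  have heY1 : e ∈ normalizer (Y1 : Set G) := by
    refine H75.normalizer_inf_le_normalizer_commutator _ _ (mem_inf.2 ⟨heY, ?_⟩)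
    rw [mem_normalizer_iff_map_conj_eq, MonoidHom.map_zpowers]
    congr 1
    simp [h.comm.eq]
  have htY1 : zpowers t ≤ normalizer (Y1 : Set G) := H1.right_le_normalizer_commutator
  have hcop1 : (Nat.card (zpowers t)).Coprime (Nat.card Y1) :=
    (Nat.coprime_two_left.2 hY1odd).coprime_dvd_left hcardt
  -- the class of `t` in `Y1⟨t⟩` has 3-power size
  set L := Y1 ⊔ zpowers t with hL
  have htL : t ∈ L := mem_sup_right (mem_zpowers t)
  have hY1L : (Y1.subgroupOf L).Normal :=
    normal_subgroupOf_of_le_normalizer (sup_le le_normalizer htY1)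
  have hcomm2 : ⁅Y1, zpowers t⁆ = Y1 :=
    H1.commutator_commutator_eq htY hcopY (Or.inl inferInstance)
  have hgen : normalClosure ({(⟨t, htL⟩ : L)} : Set L) = ⊤ := by
    set N := normalClosure ({(⟨t, htL⟩ : L)} : Set L) with hN
    have htN : (⟨t, htL⟩ : L) ∈ N := subset_normalClosure rfl
    have h1 : Y1 ≤ N.map L.subtype := by
      conv_lhs => rw [← hcomm2]
      refine commutator_le.2 fun y hy k hk => ?_
      refine ⟨⁅(⟨y, mem_sup_left hy⟩ : L), ⟨k, mem_sup_right hk⟩⁆, ?_, by simp [commutatorElement_def]⟩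
      obtain ⟨n, rfl⟩ := mem_zpowers_iff.1 hk
      have hk' : (⟨t ^ n, mem_sup_right hk⟩ : L) ∈ N := by
        have := N.zpow_mem htN n
        convert this
        exact (SubgroupClass.coe_zpow (⟨t, htL⟩ : L) n).symm
      rw [commutatorElement_def]
      exact mul_mem (normalClosure_normal.conj_mem _ hk' _) (inv_mem hk')
    refine eq_top_iff.2 fun x _ => ?_
    have h2 : L ≤ N.map L.subtype := sup_le h1 (zpowers_le.2 ⟨_, htN, rfl⟩)
    obtain ⟨n, hn, hne⟩ := h2 x.2
    rwa [← Subtype.ext hne]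
  have hidx : ∃ k, (centralizer ({(⟨t, htL⟩ : L)} : Set L)).index = 3 ^ k := by
    refine ⟨_, Nat.eq_prime_pow_of_unique_prime_dvd (index_ne_zero_of_finite) fun {r} hr hrd => ?_⟩
    by_contra hr3
    haveI := Fact.mk hr
    obtain ⟨S, hS⟩ := H1.exists_invariant_sylow htY1 hcop1 (Or.inl inferInstance) r
    have hSt := X.commute_sylow h (hY1Y.trans hYC) hY1odd htY1 heY1 hr3 S hS
    set Sg := (S : Subgroup Y1).map Y1.subtype with hSg
    have hsub : Sg.subgroupOf L ⊔ (zpowers t).subgroupOf L ≤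
        centralizer ({(⟨t, htL⟩ : L)} : Set L) := by
      refine sup_le (fun x hx => mem_centralizer_singleton_iff.2 ?_)
        fun x hx => mem_centralizer_singleton_iff.2 ?_
      · exact Subtype.ext (hSt _ (mem_subgroupOf.1 hx)).eq
      · obtain ⟨n, hn⟩ := mem_zpowers_iff.1 (mem_subgroupOf.1 hx)
        refine Subtype.ext ?_
        show (x : G) * t = t * x
        rw [← hn]
        exact ((Commute.refl t).zpow_left n).eq
    have h3 : Nat.card L ∣ Nat.card Y1 * Nat.card (zpowers t) := by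
      have := H1.card_sup_dvd_mul ((zpowers t).subgroupOf L) (Y1.subgroupOf L)
      rw [← subgroupOf_sup le_sup_right le_sup_left,
        Nat.card_congr (subgroupOfEquivOfLe (le_sup_right : zpowers t ≤ L)).toEquiv,
        Nat.card_congr (subgroupOfEquivOfLe (le_sup_left : Y1 ≤ L)).toEquiv,
        Nat.card_congr (subgroupOfEquivOfLe (sup_le le_sup_right le_sup_left :
          zpowers t ⊔ Y1 ≤ L)).toEquiv, sup_comm, mul_comm] at this
      rw [hL]
      exact this
    have hr2 : r ≠ 2 := by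
      rintro rfl
      have h1 : (centralizer ({(⟨t, htL⟩ : L)} : Set L)).index ∣
          ((zpowers t).subgroupOf L).index := index_dvd_of_le (le_sup_right.trans hsub)
      have h4 : ((zpowers t).subgroupOf L).index * Nat.card (zpowers t) = Nat.card L := by
        rw [← ((zpowers t).subgroupOf L).index_mul_card,
          Nat.card_congr (subgroupOfEquivOfLe (le_sup_right : zpowers t ≤ L)).toEquiv]
      have h5 : ((zpowers t).subgroupOf L).index ∣ Nat.card Y1 :=
        Nat.dvd_of_mul_dvd_mul_right Nat.card_pos (h4.symm ▸ h3)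
      exact Nat.not_odd_iff_even.2 (even_iff_two_dvd.2 ((hrd.trans h1).trans h5)) hY1odd
    have h1 : (centralizer ({(⟨t, htL⟩ : L)} : Set L)).index ∣ (Sg.subgroupOf L).index :=
      index_dvd_of_le (le_sup_left.trans hsub)
    have h2 : (Sg.subgroupOf L).index * Nat.card Sg = Nat.card L := by
      rw [← (Sg.subgroupOf L).index_mul_card,
        Nat.card_congr (subgroupOfEquivOfLe ((map_subtype_le _).trans le_sup_left : Sg ≤ L)).toEquiv]
    have h4 : (Sg.subgroupOf L).index ∣ (S : Subgroup Y1).index * Nat.card (zpowers t) := by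
      have h5 : (Sg.subgroupOf L).index * Nat.card Sg ∣
          (S : Subgroup Y1).index * Nat.card (zpowers t) * Nat.card Sg := by
        rw [h2]
        refine h3.trans (dvd_of_eq ?_)
        rw [hSg, card_map_of_injective Y1.subtype_injective, mul_right_comm,
          (S : Subgroup Y1).index_mul_card]
      exact Nat.dvd_of_mul_dvd_mul_right Nat.card_pos h5
    rcases (Nat.Prime.dvd_mul hr).1 ((hrd.trans h1).trans h4) with h6 | h6
    · exact S.not_dvd_index h6
    · exact hr2 ((Nat.prime_dvd_prime_iff_eq hr Nat.prime_two).1 (h6.trans hcardt))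
  obtain ⟨k, hk⟩ := hidx
  haveI := Fintype.ofFinite L
  have hTp := H25.Kazarin.commutator_closure_isPGroup Nat.prime_three hgen hk
  have hY1p : IsPGroup 3 Y1 := by
    refine (hTp.map L.subtype).to_le ?_
    conv_lhs => rw [← hcomm2]
    refine commutator_le.2 fun y hy k hk => ?_
    obtain ⟨n, rfl⟩ := mem_zpowers_iff.1 hk
    set Nc := normalClosure (H25.Kazarin.commSet (⟨t, htL⟩ : L)) with hNc
    have hcomm : ∀ z : L, (⟨t, htL⟩ : L) * z * (⟨t, htL⟩ : L)⁻¹ * z⁻¹ ∈ Nc :=
      fun z => subset_normalClosure ⟨z, rfl⟩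
    refine ⟨⁅(⟨y, mem_sup_left hy⟩ : L), (⟨t, htL⟩ : L) ^ n⁆, ?_, by simp [commutatorElement_def]⟩
    have hcen : ∀ z : L, QuotientGroup.mk' Nc ⁅z, (⟨t, htL⟩ : L)⁆ = 1 := fun z => by
      rw [← commutatorElement_inv, map_inv, inv_eq_one]
      exact (QuotientGroup.eq_one_iff _).2 (hcomm z)
    refine (QuotientGroup.eq_one_iff _).1 ?_
    show QuotientGroup.mk' Nc _ = 1
    rw [map_commutatorElement, map_zpow, commutatorElement_eq_one_iff_commute]
    refine Commute.zpow_right ?_ n
    rw [← commutatorElement_eq_one_iff_commute, ← map_commutatorElement]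
    exact hcen _
  -- conclude
  have hY1P : Y1 ≤ Cfsg.pCoreOf 3 Y :=
    H75.le_pCoreOf hY1Y H1.left_le_normalizer_commutator hY1p
  have hnE : normalizer (E : Set G) ≤ normalizer (Cfsg.pCoreOf 3 Y : Set G) :=
    (((X.normalizer_E_le_mod).trans (H75.normalizer_le_normalizer_centralizer _)).trans hYn).trans
      (H75.normalizer_le_normalizer_pCoreOf Y)
  have hRE : Cfsg.pCoreOf 3 Y ≤ normalizer (E : Set G) :=
    le_normalizer_block X.blk (H75.isPGroup_pCoreOf Y) (X.B_le_normE.trans hnE)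
      (le_normalizer.trans hnE)
  have hYE : Y ≤ normalizer (E : Set G) := by
    rw [← H1.commutator_sup_centralizer_eq htY hcopY (Or.inl inferInstance)]
    refine sup_le (hY1P.trans hRE) fun y hy => ?_
    obtain ⟨hy1, hy2⟩ := mem_inf.1 hy
    exact X.K_normE (X.K_of_commute h (hYC hy1) (hy2 t (mem_zpowers t)).symm)
  intro g hg
  have hgY : (g * t * g⁻¹) * t ∈ Y := by
    have := inv_mem (hOY g hg)
    rw [commutatorElement_inv, commutatorElement_def, hti] at this
    have e1 : g * t * g⁻¹ * t = g * t * g⁻¹ * t := rfl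
    exact this
  have hodd' : Odd (orderOf (g * t * g⁻¹ * t)) :=
    hYodd.of_dvd_nat (Subgroup.orderOf_dvd_natCard Y hgY)
  obtain ⟨k', hk', -, -, hkc⟩ := H66.exists_conj_of_odd_mul
    (u := g * t * g⁻¹) (v := t) (by
      rw [show g * t * g⁻¹ * (g * t * g⁻¹) = g * (t * t) * g⁻¹ by group, h.sq, mul_one,
        mul_inv_cancel]) h.sq hodd'
  have hkY : k' ∈ Y := zpowers_le.2 hgY hk'
  have hc : Commute (k' * g) t := by
    show k' * g * t = t * (k' * g)
    conv_rhs => rw [← hkc]
    group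
  have hcC : k' * g ∈ 𝐂 := mul_mem (hYC hkY) hg
  have := mul_mem (inv_mem (hYE hkY)) (X.K_normE (X.K_of_commute h hcC hc))
  rwa [inv_mul_cancel_left] at this

end H78.Block.Exc
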