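import Cfsg.Agent.H78.BlockExcBase

/-!
Exceptional blocks: no element of `K = N(Q) ∩ C(W_E)` commutes nontrivially with `E` on `Q / W`.
-/

set_option autoImplicit false
set_option linter.unusedSectionVars false
set_option linter.unusedFintypeInType false

open Subgroup Matrix
open scoped MatrixGroups commutatorElement

namespace H78.Block.Exc

variable {G : Type*} [Group G] [Finite G] [Fact (Nat.Prime 3)] {F : Type*} [Field F] [Finite F]
  [CharP F 3] {T : Sylow 3 G} {E : Subgroup G} (X : Exc F T E)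

local notation "𝐏" => Cfsg.pCore 3 G
local notation "𝐐" => Cfsg.pCoreOf 3 E
local notation "𝐖" => Cfsg.omegaOneCenter 3 (Cfsg.pCoreOf 3 E)
local notation "𝐙" => Cfsg.omegaOneCenter 3 (Cfsg.pCoreOf 3 E) ⊓ centralizer (E : Set G)
local notation "𝐁" => Cfsg.baumannSubgroupOf 3 (T : Subgroup G)
local notation "𝐌" => modE 3 E

/-- The section `Q / Z`. -/
noncomputable def SY : Sec G (Additive (Abelianization (Cfsg.pCoreOf 3 E : Subgroup G))) where
  U := Cfsg.pCoreOf 3 E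
  U₀ := Cfsg.omegaOneCenter 3 (Cfsg.pCoreOf 3 E) ⊓ centralizer (E : Set G)
  ψ :=
    { toFun := fun u => Multiplicative.ofAdd (Additive.ofMul (Abelianization.of u))
      map_one' := by simp
      map_mul' := fun a b => by simp }
  surj := fun a => by
    obtain ⟨u, hu⟩ := QuotientGroup.mk'_surjective _ (Additive.toMul (Multiplicative.toAdd a))
    exact ⟨u, congrArg (fun x => Multiplicative.ofAdd (Additive.ofMul x)) hu⟩
  ker := fun u => by
    change Abelianization.of u = 1 ↔ _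
    rw [← X.commQQ, ← MonoidHom.mem_ker, Abelianization.ker_of,
      ← Subgroup.map_subtype_commutator]
    exact (mem_map_iff_mem (Subgroup.subtype_injective _)).symm

include X in
theorem nzY {g : G} (hg : g ∈ normalizer (𝐐 : Set G)) : g ∈ X.SY.Nz :=
  X.SY.mem_Nz.2 ⟨hg, X.normQ_le_normZ hg⟩

include X in
theorem Q_le_trivY {q : G} (hq : q ∈ 𝐐) : q ∈ X.SY.triv :=
  X.SY.mem_triv_of_U₀ (fun _ hz => (X.mem_W (X.Z_le_W hz)).1) hq (X.nzY (le_normalizer hq))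

/-- The elements of `K` commuting with `E` on `Q/W`. -/
def Γ (X : Exc F T E) : Subgroup G where
  carrier := {g | g ∈ X.K ∧ ∀ e ∈ E, ∀ v, X.SQ.act g (X.SQ.act e v) = X.SQ.act e (X.SQ.act g v)}
  one_mem' := ⟨one_mem _, fun e _ v => by simp [Sec.act_one]⟩
  mul_mem' {a b} ha hb := ⟨mul_mem ha.1 hb.1, fun e he v => by
    rw [X.SQ.act_mul (X.nzQ (mem_inf.1 ha.1).1) (X.nzQ (mem_inf.1 hb.1).1),
      X.SQ.act_mul (X.nzQ (mem_inf.1 ha.1).1) (X.nzQ (mem_inf.1 hb.1).1), hb.2 e he, ha.2 e he]⟩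
  inv_mem' {a} ha := ⟨inv_mem ha.1, fun e he v => by
    have hn := X.nzQ (mem_inf.1 ha.1).1
    have h := ha.2 e he (X.SQ.act a⁻¹ v)
    rw [X.SQ.act_act_inv hn] at h
    conv_lhs => rw [← h]
    exact X.SQ.act_inv_act hn _⟩

include X in
theorem Γ_normQ {g : G} (hg : g ∈ X.Γ) : g ∈ normalizer (𝐐 : Set G) := (mem_inf.1 hg.1).1

include X in
theorem commutator_Γ {g e : G} (hg : g ∈ X.Γ) (he : e ∈ E) : ⁅g, e⁆ ∈ X.R :=
  X.commutator_mem_R hg.1 he
    ((X.SQ.act_comm_iff (X.nzQ (X.Γ_normQ hg)) (X.nzQ (X.E_normQ he))).2 (hg.2 e he))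

include X in
theorem R_le_normalizer_E : X.R ≤ normalizer (E : Set G) :=
  le_normalizer_block X.blk X.R_isPGroup (fun _ hb => X.normQ_normR (X.B_normQ hb))
    (fun _ he => X.normQ_normR (X.E_normQ he))

include X in
theorem Γ_normE {g : G} (hg : g ∈ X.Γ) : g ∈ normalizer (E : Set G) :=
  mem_normalizer_of_commutator_mem X.facts.res X.R_isPGroup X.R_le_normalizer_E
    fun _ he => X.commutator_Γ hg he

include X in
theorem irr_fixed (A : AddSubgroup (Fin 2 → F))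
    (hA : ∀ e ∈ E, ∀ v ∈ A, X.SQ.act e v ∈ A) : A = ⊥ ∨ A = ⊤ := by
  refine sl2_irreducible A fun s hs v hv => ?_
  rw [← X.ρQ_range] at hs
  obtain ⟨e, rfl⟩ := hs
  have := hA e e.2 v hv
  rwa [X.actQ] at this

include X in
theorem dvd_card_vec : 3 ∣ Nat.card (Fin 2 → F) := by
  obtain ⟨n, hn0, hn⟩ := H37.card_eq_prime_pow (F := F) 3
  rw [Nat.card_fun, Nat.card_fin, hn]
  exact (dvd_pow_self _ hn0.ne').trans (dvd_pow_self _ two_ne_zero)

include X in
/-- An element of `Γ` acting as an element of 3-power order on `Q/W` acts trivially. -/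
theorem trivQ_of_pow {g : G} (hg : g ∈ X.Γ) {a : ℕ} (h : g ^ 3 ^ a ∈ X.SQ.triv) :
    g ∈ X.SQ.triv := by
  have hn := X.nzQ (X.Γ_normQ hg)
  let σ : Equiv.Perm (Fin 2 → F) :=
    ⟨X.SQ.act g, X.SQ.act g⁻¹, X.SQ.act_inv_act hn, X.SQ.act_act_inv hn⟩
  have hσpow : ∀ (m : ℕ) v, (σ ^ m) v = X.SQ.act (g ^ m) v := by
    intro m v
    rw [X.SQ.act_pow hn, Equiv.Perm.coe_pow]
    rfl
  have hσ : σ ^ 3 ^ a = 1 := Equiv.ext fun v => by
    rw [hσpow, X.SQ.act_of_mem_triv h]; rfl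
  classical
  haveI := Fintype.ofFinite F
  obtain ⟨v, hv, hv0⟩ := Equiv.Perm.exists_fixed_point_of_prime' (p := 3) (n := a)
    (by rw [← Nat.card_eq_fintype_card]; exact X.dvd_card_vec) hσ
    (a := (0 : Fin 2 → F)) (X.SQ.act_zero hn)
  let A : AddSubgroup (Fin 2 → F) :=
    { carrier := {v | X.SQ.act g v = v}
      zero_mem' := X.SQ.act_zero hn
      add_mem' := fun {u w} hu hw => by
        simp only [Set.mem_ofPred_eq] at hu hw ⊢
        rw [X.SQ.act_add hn, hu, hw]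
      neg_mem' := fun {u} hu => by
        simp only [Set.mem_ofPred_eq] at hu ⊢
        rw [X.SQ.act_neg hn, hu] }
  rcases X.irr_fixed A (fun e he w hw => by
    show X.SQ.act g (X.SQ.act e w) = X.SQ.act e w
    rw [hg.2 e he, (hw : X.SQ.act g w = w)]) with hA | hA
  · exact absurd ((AddSubgroup.mem_bot).1 (hA ▸ (hv : v ∈ A))) hv0
  · exact (X.SQ.mem_triv_iff hn).2 fun w => hA.ge (AddSubgroup.mem_top w)

include X in
/-- A quadratic element of `B(T)` commuting with such an element on `Q/Z` is impossible. -/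
theorem quad_contra {g b : G} (hg : g ∈ X.Γ) (hne : g ∉ X.SQ.triv) (hb : b ∈ 𝐁)
    (hbM : b ∉ centralizer ((𝐌 : Subgroup G) : Set G))
    (hQ : ∀ u ∈ 𝐐, ⁅b, ⁅b, u⁆⁆ ∈ 𝐖) (hW : ∀ w ∈ 𝐖, ⁅b, ⁅b, w⁆⁆ ∈ 𝐙)
    (hc : ⁅g, b⁆ ∈ X.SY.triv) : False := by
  have hbn := X.nzY (X.B_normQ hb)
  have hgn := X.nzY (X.Γ_normQ hg)
  have hgq := X.nzQ (X.Γ_normQ hg)
  have hcomm := (X.SY.act_comm_iff hgn hbn).1 hc
  set P := X.SY.act b with hP
  set κ := X.SY.act g with hκ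
  have hUY : X.SY.U = 𝐐 := rfl
  have himgN : ∀ u ∈ 𝐐, X.SY.img ⁅b, u⁆ = P (X.SY.img u) - X.SY.img u :=
    fun u hu => X.SY.img_commutator hbn hu
  have hbQ : ∀ u ∈ 𝐐, ⁅b, u⁆ ∈ 𝐐 := fun u hu => X.SY.commutator_mem_U hbn hu
  have hκW : ∀ w ∈ 𝐖, κ (X.SY.img w) = X.SY.img w := by
    intro w hw
    have hwQ := (X.mem_W hw).1
    have h1 : ⁅g, w⁆ ∈ 𝐙 := X.SW_U₀ ▸ (X.K_trivW hg.1).2 w (X.SW_U ▸ hw)
    have h2 := X.SY.img_commutator hgn (u := w) hwQ
    rw [(X.SY.img_eq_zero (X.SY.commutator_mem_U hgn (u := w) hwQ)).2 h1] at h2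
    exact sub_eq_zero.1 h2.symm
  let N2 : G → Additive (Abelianization (𝐐 : Subgroup G)) := fun u => X.SY.img ⁅b, ⁅b, u⁆⁆
  have hN2 : ∀ u ∈ 𝐐, N2 u =
      P (P (X.SY.img u) - X.SY.img u) - (P (X.SY.img u) - X.SY.img u) := fun u hu => by
    show X.SY.img ⁅b, ⁅b, u⁆⁆ = _
    rw [himgN _ (hbQ u hu), himgN u hu]
  have hN2W : ∀ w ∈ 𝐖, N2 w = 0 := fun w hw =>
    (X.SY.img_eq_zero (hbQ _ (hbQ w (X.mem_W hw).1))).2 (hW w hw)
  -- `g - 1` is surjective on `Q/W`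
  have hsurj : Function.Surjective fun v => X.SQ.act g v - v := by
    refine Finite.injective_iff_surjective.1 fun v₁ v₂ h => ?_
    let A : AddSubgroup (Fin 2 → F) :=
      { carrier := {v | X.SQ.act g v = v}
        zero_mem' := X.SQ.act_zero hgq
        add_mem' := fun {u w} hu hw => by
          simp only [Set.mem_ofPred_eq] at hu hw ⊢
          rw [X.SQ.act_add hgq, hu, hw]
        neg_mem' := fun {u} hu => by
          simp only [Set.mem_ofPred_eq] at hu ⊢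
          rw [X.SQ.act_neg hgq, hu] }
    rcases X.irr_fixed A (fun e he w hw => by
      show X.SQ.act g (X.SQ.act e w) = X.SQ.act e w
      rw [hg.2 e he, (hw : X.SQ.act g w = w)]) with hA | hA
    · have : v₁ - v₂ ∈ A := by
        show X.SQ.act g (v₁ - v₂) = v₁ - v₂
        rw [X.SQ.act_sub hgq, sub_eq_sub_iff_sub_eq_sub]
        exact h
      rw [hA, AddSubgroup.mem_bot, sub_eq_zero] at this
      exact this
    · exact absurd ((X.SQ.mem_triv_iff hgq).2 fun w => hA.ge (AddSubgroup.mem_top w)) hne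
  have hN20 : ∀ u ∈ 𝐐, N2 u = 0 := by
    intro u hu
    obtain ⟨v, hv⟩ := hsurj (X.SQ.img u)
    obtain ⟨u', hu', rfl⟩ := X.SQ.exists_img v
    have hu'Q : u' ∈ 𝐐 := X.SQ_U ▸ hu'
    have hc' : ⁅g, u'⁆ ∈ 𝐐 := X.SY.commutator_mem_U hgn hu'Q
    have hw : ⁅g, u'⁆⁻¹ * u ∈ 𝐖 := by
      rw [← X.SQ_U₀]
      have hcU : ⁅g, u'⁆ ∈ X.SQ.U := X.SQ_U.symm ▸ hc'
      have huU : u ∈ X.SQ.U := X.SQ_U.symm ▸ hu
      refine (X.SQ.img_eq_zero (mul_mem (inv_mem hcU) huU)).1 ?_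
      rw [X.SQ.img_mul (inv_mem hcU) huU, X.SQ.img_inv hcU, X.SQ.img_commutator hgq hu']
      simp only at hv
      rw [hv, neg_add_cancel]
    have hsplit : X.SY.img u = (κ (X.SY.img u') - X.SY.img u') + X.SY.img (⁅g, u'⁆⁻¹ * u) := by
      have e1 := X.SY.img_commutator hgn (u := u') hu'Q
      rw [← hκ] at e1
      rw [← e1, ← X.SY.img_mul hc' (mul_mem (inv_mem hc') hu), mul_inv_cancel_left]
    have hw0 := hN2W _ hw
    rw [hN2 _ (X.mem_W hw).1] at hw0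
    have hu0 : κ (N2 u') = N2 u' := hκW _ (hQ u' hu'Q)
    rw [hN2 _ hu'Q] at hu0
    have hPκ : ∀ v, P (κ v) = κ (P v) := fun v => (hcomm v).symm
    rw [hN2 u hu, hsplit]
    simp only [hP, hκ, X.SY.act_add hbn, X.SY.act_sub hbn] at hw0 hu0 hPκ ⊢
    simp only [X.SY.act_sub hgn] at hu0
    simp only [hPκ]
    have := sub_eq_zero.2 hu0
    rw [← sub_eq_zero] at hw0
    rw [← hw0, ← sub_eq_zero]
    calc _ = _ := by abel
      _ = 0 := this
  -- so `b` is quadratic on `Q/Z`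
  apply X.nonquad b hb fun h => hbM (X.centralizer_mod_of_W h)
  rw [X.centE]
  let D : Subgroup G :=
    { carrier := {u | u ∈ 𝐐 ∧ P (X.SY.img u) = X.SY.img u}
      one_mem' := ⟨one_mem _, by rw [X.SY.img_one]; exact X.SY.act_zero hbn⟩
      mul_mem' := fun {u w} hu hw => ⟨mul_mem hu.1 hw.1, by
        rw [X.SY.img_mul (u := u) hu.1 hw.1, hP, X.SY.act_add hbn, ← hP, hu.2, hw.2]⟩
      inv_mem' := fun {u} hu => ⟨inv_mem hu.1, by
        rw [X.SY.img_inv (u := u) hu.1, hP, X.SY.act_neg hbn, ← hP, hu.2]⟩ }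
  have key : ∀ u ∈ 𝐐, ∀ x ∈ zpowers b, ⁅u, x⁆ ∈ 𝐐 ∧
      ∃ i : ℕ, X.SY.img ⁅u, x⁆ = -(i • (P (X.SY.img u) - X.SY.img u)) := by
    intro u hu x hx
    obtain ⟨i, rfl⟩ := (mem_powers_iff_mem_zpowers).2 hx
    simp only
    have hbi : b ^ i ∈ X.SY.Nz := pow_mem hbn i
    have hit : ∀ j : ℕ, P^[j] (X.SY.img u) = X.SY.img u + j • (P (X.SY.img u) - X.SY.img u) := by
      intro j
      induction j with
      | zero => simp
      | succ j ih =>
        have h2 := hN20 u hu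
        rw [hN2 u hu, sub_eq_zero] at h2
        rw [Function.iterate_succ_apply', ih, hP, X.SY.act_add hbn,
          show X.SY.act b (j • (X.SY.act b (X.SY.img u) - X.SY.img u)) =
            j • X.SY.act b (X.SY.act b (X.SY.img u) - X.SY.img u) from
              map_nsmul (X.SY.actHom hbn) _ _, ← hP, h2, succ_nsmul]
        abel
    have hc1 : ⁅b ^ i, u⁆ ∈ 𝐐 := X.SY.commutator_mem_U hbi hu
    refine ⟨by rw [← commutatorElement_inv]; exact inv_mem hc1, i, ?_⟩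
    rw [← commutatorElement_inv, X.SY.img_inv (u := ⁅b ^ i, u⁆) hc1,
      X.SY.img_commutator hbi (u := u) hu, X.SY.act_pow hbn, ← hP, hit i, add_sub_cancel_left]
  have h1 : ⁅𝐐, zpowers b⁆ ≤ D := commutator_le.2 fun u hu x hx => by
    obtain ⟨hc1, i, hi⟩ := key u hu x hx
    refine ⟨hc1, ?_⟩
    have h2 := hN20 u hu
    rw [hN2 u hu, sub_eq_zero] at h2
    rw [hi, hP, X.SY.act_neg hbn,
      show X.SY.act b (i • (X.SY.act b (X.SY.img u) - X.SY.img u)) =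
        i • X.SY.act b (X.SY.act b (X.SY.img u) - X.SY.img u) from
          map_nsmul (X.SY.actHom hbn) _ _, ← hP, h2]
  refine commutator_le.2 fun u hu x hx => ?_
  obtain ⟨hc1, i, hi⟩ := key u (h1 hu).1 x hx
  refine (X.SY.img_eq_zero (u := ⁅u, x⁆) hc1).1 ?_
  rw [hi, (h1 hu).2, sub_self, smul_zero, neg_zero]

include X in
/-- A quadratic action read off from an additive action. -/
theorem quad_of_act (S : Sec G (Fin 2 → F)) {b : G} (hb : b ∈ S.Nz)
    (h : ∀ v, S.act b (S.act b v - v) = S.act b v - v) {u : G} (hu : u ∈ S.U) :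
    ⁅b, ⁅b, u⁆⁆ ∈ S.U₀ := by
  have hc := S.commutator_mem_U hb hu
  refine (S.img_eq_zero (S.commutator_mem_U hb hc)).1 ?_
  rw [S.img_commutator hb hc, S.img_commutator hb hu, h, sub_self]

include X in
theorem exists_B_not_centralizer : ∃ b ∈ 𝐁, b ∉ centralizer ((𝐌 : Subgroup G) : Set G) := by
  by_contra hcon
  push Not at hcon
  refine X.facts.mod_not_fixed (X.facts.mod_le_omega X.hG X.P_le_normalizer_E) ?_
  rw [commutator_comm, commutator_eq_bot_iff_le_centralizer, H11.thompsonSubgroupOf_eq]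
  exact sSup_le fun A hA a ha => hcon a (maxEl_le_baumann hA ha)

include X in
/-- `B(T)` and `E` meet in elements centralising `W_E` (the linear case). -/
theorem good_of_inf (hcase : ∀ x ∈ 𝐁 ⊓ E, x ∈ centralizer ((𝐌 : Subgroup G) : Set G))
    {b : G} (hb : b ∈ 𝐁) :
    UnipGood (X.SW.actHom (X.nzW (X.B_normQ hb))) ∧
      UnipGood (X.SQ.actHom (X.nzQ (X.B_normQ hb))) := by
  obtain ⟨k, hk⟩ := (T.isPGroup'.to_le (inf_le_left : 𝐁 ≤ (T : Subgroup G))) ⟨b, hb⟩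
  have hbk : b ^ 3 ^ k = 1 := congrArg Subtype.val hk
  have hkW : (X.SW.actHom (X.nzW (X.B_normQ hb)))^[3 ^ k] = id := funext fun v => by
    have := X.SW.act_pow (X.nzW (X.B_normQ hb)) (3 ^ k) v
    rw [hbk, Sec.act_one] at this
    exact this.symm
  have hkQ : (X.SQ.actHom (X.nzQ (X.B_normQ hb)))^[3 ^ k] = id := funext fun v => by
    have := X.SQ.act_pow (X.nzQ (X.B_normQ hb)) (3 ^ k) v
    rw [hbk, Sec.act_one] at this
    exact this.symm
  by_cases hsq : ∃ a : F, a ≠ 0 ∧ a ^ 2 ≠ 1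
  swap
  · exact ⟨unipGood_of_no_square hsq hkW, unipGood_of_no_square hsq hkQ⟩
  have htop : commutator SL(2, F) = ⊤ := Cfsg.Agent.H9.commutator_SL_eq_top_of_square hsq
  -- a Sylow subgroup of `E B(T)` containing `B(T)`
  set H := E ⊔ 𝐁 with hH
  have hHn : (E.subgroupOf H).Normal :=
    normal_subgroupOf_of_le_normalizer (sup_le le_normalizer X.B_le_normE)
  obtain ⟨P1, hP1⟩ := ((T.isPGroup'.to_le (inf_le_left : 𝐁 ≤ (T : Subgroup G))).comap_subtype
    (K := H)).exists_le_sylow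
  set P1g := (P1 : Subgroup H).map H.subtype with hP1g
  have hBP : 𝐁 ≤ P1g := fun x hx => ⟨⟨x, mem_sup_right hx⟩, hP1 (mem_subgroupOf.2 hx), rfl⟩
  have hP1p : IsPGroup 3 P1g := P1.isPGroup'.map _
  have hP1B : P1g ≤ normalizer (𝐁 : Set G) :=
    le_normalizer_baumann T hP1p (hBP.trans le_normalizer)
  have hxQ : ∀ x ∈ P1g ⊓ E, ⁅x, b⁆ ∈ 𝐐 := by
    rintro x ⟨hx1, hx2⟩
    have hB : ⁅x, b⁆ ∈ 𝐁 := by
      rw [commutatorElement_def]
      exact mul_mem (H75.conj_mem_of_mem_normalizer (hP1B hx1) hb) (inv_mem hb)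
    have hE : ⁅x, b⁆ ∈ E := by
      rw [commutatorElement_def, mul_assoc, mul_assoc]
      refine mul_mem hx2 ?_
      rw [← mul_assoc]
      exact H75.conj_mem_of_mem_normalizer (X.B_le_normE hb) (inv_mem hx2)
    refine X.mem_Q_of_trivW hE (X.K_trivW (mem_inf.2 ⟨X.E_normQ hE, hcase _ ⟨hB, hE⟩⟩))
  let S : Subgroup E := (P1g ⊓ E).subgroupOf E
  obtain ⟨PN, hPN⟩ := H75.exists_sylow_inf_normal P1 (E.subgroupOf H)
  have hcardS : Nat.card S = Nat.card PN := by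
    have e1 : Nat.card S = Nat.card (P1g ⊓ E : Subgroup G) :=
      Nat.card_congr (subgroupOfEquivOfLe inf_le_right).toEquiv
    have e2 : (P1g ⊓ E : Subgroup G) =
        ((PN : Subgroup (E.subgroupOf H)).map (E.subgroupOf H).subtype).map H.subtype := by
      rw [hPN, map_inf _ _ _ H.subtype_injective, subgroupOf_map_subtype,
        inf_of_le_left (le_sup_left : E ≤ H)]
    rw [e1, e2, card_map_of_injective H.subtype_injective,
      card_map_of_injective (E.subgroupOf H).subtype_injective]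
  have hSi : ¬ 3 ∣ S.index := by
    have h1 := S.card_mul_index
    have h2 := (PN : Subgroup (E.subgroupOf H)).card_mul_index
    rw [Nat.card_congr (subgroupOfEquivOfLe (le_sup_left : E ≤ H)).toEquiv, ← h1, hcardS] at h2
    rw [← Nat.eq_of_mul_eq_mul_left Nat.card_pos h2]
    exact PN.not_dvd_index
  have hSp : IsPGroup 3 S := (hP1p.to_le inf_le_left).comap_subtype
  have main : ∀ (ρ : E →* SL(2, F)) (S' : Sec G (Fin 2 → F)) (hn : ∀ g ∈ normalizer (𝐐 : Set G),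
      g ∈ S'.Nz) (hρ : ρ.range = commutator SL(2, F))
      (hact : ∀ (e : E) v, S'.act (e : G) v = sl2v (ρ e) v) (htr : ∀ q ∈ 𝐐, q ∈ S'.triv)
      (hkS : (S'.actHom (hn b (X.B_normQ hb)))^[3 ^ k] = id),
      UnipGood (S'.actHom (hn b (X.B_normQ hb))) := by
    intro ρ S' hn hρ hact htr hkS
    refine unipGood_of_sylow hkS (S.map ρ) (hSp.map ρ) ?_ ?_
    · exact fun h => hSi (h.trans (index_map_dvd _ (MonoidHom.range_eq_top.1 (hρ.trans htop))))
    · rintro _ ⟨e, he, rfl⟩ v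
      have h1 := (S'.act_comm_iff (hn _ (X.E_normQ e.2)) (hn b (X.B_normQ hb))).1
        (htr _ (hxQ e (mem_subgroupOf.1 he))) v
      show S'.act b (sl2v (ρ e) v) = sl2v (ρ e) (S'.act b v)
      rw [← hact, ← hact, h1]
  exact ⟨main X.ρW X.SW (fun _ h => X.nzW h) X.ρW_range X.actW (fun _ h => X.Q_le_trivW h) hkW,
    main X.ρQ X.SQ (fun _ h => X.nzQ h) X.ρQ_range X.actQ (fun _ h => X.Q_le_trivQ h) hkQ⟩

include X in
/-- **The key lemma.** -/
theorem Γ_le_trivQ {g : G} (hg : g ∈ X.Γ) : g ∈ X.SQ.triv := by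
  have h3 : (3 : F) = 0 := by exact_mod_cast CharP.cast_eq_zero F 3
  by_contra hne
  obtain ⟨a, hka, hkΓ⟩ := exists_orderOf_coprime_pow hg
  set k := g ^ 3 ^ a with hk
  have hkne : k ∉ X.SQ.triv := fun h => hne (X.trivQ_of_pow hg h)
  by_cases hcase : ∀ x ∈ 𝐁 ⊓ E, x ∈ centralizer ((𝐌 : Subgroup G) : Set G)
  swap
  · push Not at hcase
    obtain ⟨b, hbI, hbM⟩ := hcase
    obtain ⟨hb, hbE⟩ := mem_inf.1 hbI
    obtain ⟨j, hj⟩ := (T.isPGroup'.to_le (inf_le_left : 𝐁 ≤ (T : Subgroup G))) ⟨b, hb⟩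
    have hbj : (⟨b, hbE⟩ : E) ^ 3 ^ j = 1 := Subtype.ext (by simpa using congrArg Subtype.val hj)
    refine X.quad_contra hkΓ hkne hb hbM (fun u hu => ?_) (fun w hw => ?_) ?_
    · rw [← X.SQ_U₀]
      refine X.quad_of_act X.SQ (X.nzQ (X.B_normQ hb)) (fun v => ?_) (X.SQ_U.symm ▸ hu)
      rw [X.actQ ⟨b, hbE⟩, X.actQ ⟨b, hbE⟩]
      exact sl2v_quad (k := j) (by rw [← map_pow, hbj, map_one]) v
    · rw [← X.SW_U₀]
      refine X.quad_of_act X.SW (X.nzW (X.B_normQ hb)) (fun v => ?_) (X.SW_U.symm ▸ hw)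
      rw [X.actW ⟨b, hbE⟩, X.actW ⟨b, hbE⟩]
      exact sl2v_quad (k := j) (by rw [← map_pow, hbj, map_one]) v
    · refine X.Q_le_trivY (X.R_inf_E_le (mem_inf.2 ⟨X.commutator_Γ hkΓ hbE, ?_⟩))
      rw [commutatorElement_def]
      exact mul_mem (H75.conj_mem_of_mem_normalizer (X.Γ_normE hkΓ) hbE) (inv_mem hbE)
  -- the linear case
  have hB : 𝐁 ≤ normalizer (𝐐 : Set G) := fun b hb => X.B_normQ hb
  have hBK : ∀ b ∈ 𝐁, ∀ x ∈ X.K, b * x * b⁻¹ ∈ X.K := fun b hb x hx =>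
    H75.conj_mem_of_mem_normalizer (H75.normalizer_inf_le_normalizer_inf _ _ (mem_inf.2
      ⟨le_normalizer (X.B_normQ hb), H75.normalizer_le_normalizer_centralizer _
        (X.normalizer_E_le_mod (X.B_le_normE hb))⟩)) hx
  have hBΓ : ∀ b ∈ 𝐁, ∀ x ∈ X.Γ, b * x * b⁻¹ ∈ X.Γ := by
    intro b hb x hx
    have hxn := X.nzQ (X.Γ_normQ hx)
    have hy := hBK b hb x hx.1
    refine ⟨hy, fun e he => ?_⟩
    refine (X.SQ.act_comm_iff (X.nzQ (mem_inf.1 hy).1) (X.nzQ (X.E_normQ he))).1 ?_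
    rw [show ⁅b * x * b⁻¹, e⁆ = b * ⁅x, b⁻¹ * e * b⁆ * b⁻¹ by
      simp [commutatorElement_def, mul_assoc]]
    have he' := H75.conj'_mem_of_mem_normalizer (X.B_le_normE hb) he
    exact H75.conj_mem_of_mem_normalizer (X.SQ.le_normalizer_triv (X.nzQ (X.B_normQ hb)))
      ((X.SQ.act_comm_iff hxn (X.nzQ (X.E_normQ he'))).2 (hx.2 _ he'))
  have hscal : ∀ x ∈ X.Γ, ∃ c : F, ∀ v, X.SQ.act x v = c • v := fun x hx =>
    scalar_of_commute h3 (X.SQ.actHom (X.nzQ (X.Γ_normQ hx))) fun s hs v => by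
      rw [← X.ρQ_range] at hs
      obtain ⟨e, rfl⟩ := hs
      show X.SQ.act x (sl2v _ v) = sl2v _ (X.SQ.act x v)
      rw [← X.actQ, ← X.actQ, hx.2 e e.2]
  set Γp := X.Γ ⊓ X.SQ.triv with hΓp
  have hcommB : ∀ b ∈ 𝐁, ∀ x ∈ X.Γ, ⁅b, x⁆ ∈ Γp := by
    intro b hb x hx
    have hy := hBΓ b hb x hx
    refine mem_inf.2 ⟨by rw [commutatorElement_def]; exact mul_mem hy (inv_mem hx), ?_⟩
    have hbn := X.nzQ (X.B_normQ hb)
    have hxn := X.nzQ (X.Γ_normQ hx)
    refine (X.SQ.act_comm_iff hbn hxn).2 fun v => ?_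
    obtain ⟨α, hα⟩ := hscal x hx
    obtain ⟨γ, hγ⟩ := hscal _ hy
    have hbx : ∀ v, X.SQ.act b (X.SQ.act x v) = γ • X.SQ.act b v := fun v => by
      rw [← hγ, X.SQ.act_mul (mul_mem hbn hxn) (inv_mem hbn), X.SQ.act_mul hbn hxn,
        X.SQ.act_inv_act hbn]
    have hge := (X.good_of_inf hcase hb).2.scalar α γ fun w => by
      show X.SQ.act b (α • w) = γ • X.SQ.act b w
      rw [← hα, hbx]
    rw [hbx v, hge, hα]
  have hΓpn : X.Γ ≤ normalizer (Γp : Set G) :=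
    le_trans (le_inf le_normalizer fun x hx => X.SQ.le_normalizer_triv (X.nzQ (X.Γ_normQ hx)))
      (H75.normalizer_inf_le_normalizer_inf _ _)
  have hBΓp : 𝐁 ≤ normalizer (Γp : Set G) := by
    rw [le_normalizer_iff]
    intro b hb x hx
    exact mem_inf.2 ⟨hBΓ b hb x (mem_inf.1 hx).1, H75.conj_mem_of_mem_normalizer
      (X.SQ.le_normalizer_triv (X.nzQ (X.B_normQ hb))) (mem_inf.1 hx).2⟩
  set N0 := Γp ⊔ 𝐁 with hN0
  have hBp : IsPGroup 3 𝐁 := T.isPGroup'.to_le inf_le_left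
  obtain ⟨P2, hP2⟩ := (hBp.comap_subtype (K := N0)).exists_le_sylow
  set P2g := (P2 : Subgroup N0).map N0.subtype with hP2g
  have hBP2 : 𝐁 ≤ P2g := fun x hx => ⟨⟨x, mem_sup_right hx⟩, hP2 (mem_subgroupOf.2 hx), rfl⟩
  have hkN : ∀ x ∈ N0, k * x * k⁻¹ ∈ N0 := by
    refine (sup_le (fun x hx => mem_sup_left (H75.conj_mem_of_mem_normalizer (hΓpn hkΓ) hx))
      (fun b hb => ?_) : N0 ≤ N0.comap (MulAut.conj k).toMonoidHom)
    show k * b * k⁻¹ ∈ N0
    have h1 : k * b * k⁻¹ * b⁻¹ ∈ Γp := by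
      have := inv_mem (hcommB b hb k hkΓ)
      rwa [commutatorElement_inv, commutatorElement_def] at this
    simpa using mul_mem (mem_sup_left (T := 𝐁) h1) (mem_sup_right (S := Γp) hb)
  have hle : P2g.map (MulAut.conj k).toMonoidHom ≤ N0 := by
    rintro _ ⟨x, hx, rfl⟩
    exact hkN x (map_subtype_le _ hx)
  obtain ⟨ν, hν⟩ := MulAction.exists_smul_eq N0 P2
    (Sylow.ofCard ((P2g.map (MulAut.conj k).toMonoidHom).subgroupOf N0) (by
      rw [Nat.card_congr (subgroupOfEquivOfLe hle).toEquiv,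
        card_map_of_injective (f := (MulAut.conj k).toMonoidHom) (MulEquiv.injective _), hP2g,
        card_map_of_injective N0.subtype_injective, P2.card_eq_multiplicity]))
  have hνmap : P2g.map (MulAut.conj (ν : G)).toMonoidHom = P2g.map (MulAut.conj k).toMonoidHom := by
    have h := congrArg (fun P : Sylow 3 N0 => (P : Subgroup N0).map N0.subtype) hν
    simp only [Sylow.coe_subgroup_smul, Sylow.coe_ofCard, subgroupOf_map_subtype,
      inf_eq_left.2 hle] at h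
    rw [← h, H1.map_subtype_conj_smul]
    rfl
  obtain ⟨γp, hγp, b', hb', hνeq⟩ : ∃ γp ∈ Γp, ∃ b' ∈ 𝐁, γp * b' = (ν : G) := by
    have := ν.2
    rw [← SetLike.mem_coe, coe_mul_of_right_le_normalizer_left _ _ hBΓp] at this
    exact this
  set γ := γp⁻¹ * k with hγdef
  have hγΓ : γ ∈ X.Γ := mul_mem (inv_mem (mem_inf.1 hγp).1) hkΓ
  have hγne : γ ∉ X.SQ.triv := fun h => hkne (by
    have := mul_mem (mem_inf.1 hγp).2 h
    rwa [hγdef, mul_inv_cancel_left] at this)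
  have hγN : ∀ x ∈ P2g, γ * x * γ⁻¹ ∈ P2g := by
    intro x hx
    obtain ⟨y, hy, hye⟩ := hνmap.ge ⟨x, hx, rfl⟩
    simp only [MulEquiv.coe_toMonoidHom, MulAut.conj_apply, ← hνeq] at hye
    have : γ * x * γ⁻¹ = b' * y * b'⁻¹ := by
      calc γ * x * γ⁻¹ = γp⁻¹ * (k * x * k⁻¹) * γp := by rw [hγdef]; group
        _ = _ := by rw [← hye]; group
    rw [this]
    exact mul_mem (mul_mem (hBP2 hb') hy) (inv_mem (hBP2 hb'))
  have hγnorm : γ ∈ normalizer (P2g : Set G) := by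
    rw [mem_normalizer_iff_map_conj_eq]
    refine eq_of_le_of_card_ge ?_ (card_map_of_injective (MulEquiv.injective _)).ge
    rintro _ ⟨x, hx, rfl⟩
    exact hγN x hx
  obtain ⟨a', hk2o, hk2Γ⟩ := exists_orderOf_coprime_pow hγΓ
  set k2 := γ ^ 3 ^ a' with hk2
  have hk2ne : k2 ∉ X.SQ.triv := fun h => hγne (X.trivQ_of_pow hγΓ h)
  have hk2N : k2 ∈ normalizer (P2g : Set G) := pow_mem hγnorm _
  -- `k2` normalises `B(T)`
  have hk2B : k2 ∈ normalizer (𝐁 : Set G) := by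
    rw [mem_normalizer_iff_map_conj_eq]
    obtain ⟨T1, hT1⟩ := ((P2.isPGroup'.map N0.subtype : IsPGroup 3 P2g)).exists_le_sylow
    obtain ⟨T2, hT2⟩ : ∃ T2 : Sylow 3 G,
        (T2 : Subgroup G) = (T : Subgroup G).map (MulAut.conj k2).toMonoidHom := ⟨k2 • T, rfl⟩
    have h1 : (𝐁).map (MulAut.conj k2).toMonoidHom ≤ Cfsg.baumannSubgroupOf 3 (T2 : Subgroup G) :=
      hT2 ▸ baumann_map_le _ _
    have h2 : (𝐁).map (MulAut.conj k2).toMonoidHom ≤ (T1 : Subgroup G) := by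
      rintro _ ⟨x, hx, rfl⟩
      exact hT1 (H75.conj_mem_of_mem_normalizer hk2N (hBP2 hx))
    have e1 := baumann_eq_of_le T T1 (hBP2.trans hT1)
    obtain ⟨T3, hT3⟩ : ∃ T3 : Sylow 3 G,
        (T3 : Subgroup G) = (T2 : Subgroup G).map (MulAut.conj k2⁻¹).toMonoidHom := ⟨k2⁻¹ • T2, rfl⟩
    have hback : (Cfsg.baumannSubgroupOf 3 (T2 : Subgroup G)) =
        (𝐁).map (MulAut.conj k2).toMonoidHom := by
      refine (eq_of_le_of_card_ge h1 ?_).symm
      rw [card_map_of_injective (f := (MulAut.conj k2).toMonoidHom) (MulEquiv.injective _)]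
      have hT3T : (T3 : Subgroup G) = (T : Subgroup G) := by
        rw [hT3, hT2, Subgroup.map_map]
        convert Subgroup.map_id (T : Subgroup G) using 2
        ext x
        simp [mul_assoc]
      have h3' := baumann_map_le (p := 3) (MulAut.conj k2⁻¹) (T2 : Subgroup G)
      rw [← hT3, hT3T] at h3'
      exact (card_map_of_injective (f := (MulAut.conj k2⁻¹).toMonoidHom)
        (MulEquiv.injective _)).ge.trans (card_le_of_le h3')
    have e2 := baumann_eq_of_le T2 T1 (hback.le.trans h2)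
    exact hback.symm.trans (e2.symm.trans e1)
  obtain ⟨b, hb, hbM⟩ := X.exists_B_not_centralizer
  set N := 𝐁 ⊓ centralizer ((𝐌 : Subgroup G) : Set G) with hN
  have hk2M : k2 ∈ centralizer ((𝐌 : Subgroup G) : Set G) := (mem_inf.1 hk2Γ.1).2
  have hAN : zpowers k2 ≤ normalizer (N : Set G) := by
    rw [zpowers_le]
    exact H75.normalizer_inf_le_normalizer_inf _ _
      (mem_inf.2 ⟨hk2B, le_normalizer hk2M⟩)
  have hbn : b ∈ normalizer ((centralizer ((𝐌 : Subgroup G) : Set G) : Subgroup G) : Set G) :=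
    H75.normalizer_le_normalizer_centralizer _ (X.normalizer_E_le_mod (X.B_le_normE hb))
  obtain ⟨b1, hb1c, hb1N⟩ := H1.exists_fixed_mem_coset hAN (k := b) (by
      rw [Nat.card_zpowers]
      obtain ⟨m, hm⟩ := IsPGroup.iff_card.1 (hBp.to_le (inf_le_left : N ≤ 𝐁))
      rw [hm]
      exact (hk2o.symm).pow_left m) (Or.inr inferInstance) (by
      intro x hx
      have hxB : x ∈ normalizer (𝐁 : Set G) := zpowers_le.2 hk2B hx
      have hxM : x ∈ centralizer ((𝐌 : Subgroup G) : Set G) := zpowers_le.2 hk2M hx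
      refine mem_inf.2 ⟨mul_mem (inv_mem hb) (H75.conj_mem_of_mem_normalizer hxB hb), ?_⟩
      rw [show b⁻¹ * (x * b * x⁻¹) = (b⁻¹ * x * b) * x⁻¹ by group]
      exact mul_mem (H75.conj'_mem_of_mem_normalizer hbn hxM) (inv_mem hxM))
  have hb1B : b1 ∈ 𝐁 := by simpa using mul_mem hb (mem_inf.1 hb1N).1
  have hb1M : b1 ∉ centralizer ((𝐌 : Subgroup G) : Set G) := fun h => hbM (by
    simpa using mul_mem h (inv_mem (mem_inf.1 hb1N).2))
  refine X.quad_contra hk2Γ hk2ne hb1B hb1M (fun u hu => ?_) (fun w hw => ?_) ?_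
  · rw [← X.SQ_U₀]
    exact X.quad_of_act X.SQ (X.nzQ (X.B_normQ hb1B)) (X.good_of_inf hcase hb1B).2.quad
      (X.SQ_U.symm ▸ hu)
  · rw [← X.SW_U₀]
    exact X.quad_of_act X.SW (X.nzW (X.B_normQ hb1B)) (X.good_of_inf hcase hb1B).1.quad
      (X.SW_U.symm ▸ hw)
  · rw [commutatorElement_eq_one_iff_commute.2
      (show Commute k2 b1 from hb1c k2 (mem_zpowers k2))]
    exact one_mem _

end H78.Block.Exc
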