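import Cfsg.Agent.H75.Basic
import Cfsg.Agent.H1.CoprimeAction

/-!
An involution centralising invariant subgroups of odd order acting on a module of exponent 3.
-/

set_option autoImplicit false
set_option linter.unusedSectionVars false

open Subgroup
open scoped commutatorElement

namespace H78.Block

variable {G : Type*} [Group G] [Finite G] {M : Type*} [AddCommGroup M] [Finite M]

theorem eq_zero_of_nsmul_coprime {k : ℕ} (hk : k.Coprime 3) (h3 : ∀ x : M, 3 • x = 0) {x : M}
    (hx : k • x = 0) : x = 0 := by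
  have h1 := addOrderOf_dvd_of_nsmul_eq_zero hx
  have h2 := addOrderOf_dvd_of_nsmul_eq_zero (h3 x)
  exact AddMonoid.addOrderOf_eq_one_iff.1 (Nat.eq_one_of_dvd_coprimes hk h1 h2)

/-- A `3'`-element fixing the displacement of `x` fixes `x`. -/
theorem fixed_of_fixed_sub (φ : G →* AddMonoid.End M) (h3 : ∀ x : M, 3 • x = 0) {g : G}
    (hg : (orderOf g).Coprime 3) {x : M} (h : φ g (φ g x - x) = φ g x - x) : φ g x = x := by
  have key : ∀ n : ℕ, φ (g ^ n) x = x + n • (φ g x - x) := by
    intro n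
    induction n with
    | zero => simp
    | succ n ih =>
      rw [pow_succ', map_mul]
      show φ g (φ (g ^ n) x) = _
      rw [ih, map_add, map_nsmul, h, succ_nsmul]
      abel
  have := key (orderOf g)
  rw [pow_orderOf_eq_one, map_one] at this
  change x = _ at this
  rw [left_eq_add] at this
  exact sub_eq_zero.1 (eq_zero_of_nsmul_coprime hg h3 this)

theorem mul_apply_end (φ : G →* AddMonoid.End M) (a b : G) (x : M) : φ (a * b) x = φ a (φ b x) := by
  rw [map_mul]; rfl

theorem one_apply_end (φ : G →* AddMonoid.End M) (x : M) : φ 1 x = x := by rw [map_one]; rfl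

theorem commute_apply_end (φ : G →* AddMonoid.End M) {a b : G} (h : Commute a b) (x : M) :
    φ a (φ b x) = φ b (φ a x) := by rw [← mul_apply_end, h.eq, mul_apply_end]

/-- The involution `t` centralises the abelian group `A` it inverts if some `h` with `h² = t` on
the module fixes the fixed points of `t`. -/
theorem eq_one_of_inverted (φ : G →* AddMonoid.End M) (h3 : ∀ x : M, 3 • x = 0) {A : Subgroup G}
    (hcop : (Nat.card A).Coprime 3) (hodd : Odd (Nat.card A))
    (hcomm : ∀ a ∈ A, ∀ b ∈ A, Commute a b) {t h : G} (ht : t * t = 1)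
    (hinv : ∀ a ∈ A, t * a * t⁻¹ = a⁻¹) (hA : ∀ a ∈ A, h * a * h⁻¹ ∈ A) (hth : Commute h t)
    (hfix : ∀ x, φ t x = x → φ h x = x) (hsq : ∀ x, φ (h * h) x = φ t x)
    (hfaith : ∀ a ∈ A, (∀ x, φ a x = x) → a = 1) : A = ⊥ := by
  have hor : ∀ a ∈ A, (orderOf a).Coprime 3 := fun a ha =>
    hcop.coprime_dvd_left (Subgroup.orderOf_dvd_natCard A ha)
  have hti : t⁻¹ = t := inv_eq_of_mul_eq_one_right ht
  have htA : ∀ a ∈ A, ∀ x, φ t (φ a x) = φ a⁻¹ (φ t x) := fun a ha x => by
    rw [← mul_apply_end, ← mul_apply_end]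
    congr 2
    rw [← hinv a ha, hti, mul_assoc (t * a), ht, mul_one]
  have hhA : ∀ a x, φ h (φ a x) = φ (h * a * h⁻¹) (φ h x) := fun a x => by
    rw [← mul_apply_end, ← mul_apply_end]
    congr 2
    group
  -- the span of the fixed points
  set X : AddSubgroup M := AddSubgroup.closure {y | ∃ a ∈ A, ∃ x, φ t x = x ∧ φ a x = y} with hX
  have hgen : ∀ a ∈ A, ∀ x, φ t x = x → φ a x ∈ X :=
    fun a ha x hx => AddSubgroup.subset_closure ⟨a, ha, x, hx, rfl⟩
  have hXA : ∀ a ∈ A, ∀ y ∈ X, φ a y ∈ X := by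
    intro a ha y hy
    induction hy using AddSubgroup.closure_induction with
    | mem z hz =>
      obtain ⟨b, hb, x, hx, rfl⟩ := hz
      rw [← mul_apply_end]
      exact hgen _ (mul_mem ha hb) x hx
    | zero => rw [map_zero]; exact X.zero_mem
    | add u v _ _ hu hv => rw [map_add]; exact X.add_mem hu hv
    | neg u _ hu => rw [map_neg]; exact X.neg_mem hu
  set σ : G → G := fun a => h * a * h⁻¹ with hσ
  have hquad : ∀ a ∈ A, ∀ y ∈ X, φ a y + φ a⁻¹ y = φ (σ a) y + φ (σ a)⁻¹ y := by
    intro a ha y hy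
    induction hy using AddSubgroup.closure_induction with
    | mem z hz =>
      obtain ⟨b, hb, x, hx, rfl⟩ := hz
      have hv : φ t (φ a x + φ a⁻¹ x) = φ a x + φ a⁻¹ x := by
        rw [map_add, htA a ha, htA _ (inv_mem ha), inv_inv, hx, add_comm]
      have h1 : φ a x + φ a⁻¹ x = φ (σ a) x + φ (σ a)⁻¹ x := by
        conv_lhs => rw [← hfix _ hv, map_add, hhA, hhA, hfix x hx]
        simp only [hσ]
        congr 3
        group
      rw [commute_apply_end φ (hcomm a ha b hb), commute_apply_end φ (hcomm _ (inv_mem ha) b hb),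
        commute_apply_end φ (hcomm _ (hA a ha) b hb),
        commute_apply_end φ (hcomm _ (inv_mem (hA a ha)) b hb), ← map_add, h1, map_add]
    | zero => simp
    | add u v _ _ hu hv =>
      simp only [map_add]
      calc _ = (φ a u + φ a⁻¹ u) + (φ a v + φ a⁻¹ v) := by abel
        _ = _ := by rw [hu, hv]; abel
    | neg u _ hu => simp only [map_neg, ← neg_add, hu]
  -- `σ²` acts trivially
  have hσσ : ∀ a ∈ A, ∀ y ∈ X, φ (σ (σ a)) y = φ a y := by
    intro a ha
    set b := σ (σ a) * a⁻¹ with hb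
    have hbA : b ∈ A := mul_mem (hA _ (hA a ha)) (inv_mem ha)
    suffices hfixb : ∀ y ∈ X, φ b y = y by
      intro y hy
      have := hfixb _ (hXA a ha y hy)
      rwa [← mul_apply_end, hb, inv_mul_cancel_right] at this
    by_contra hcon
    push Not at hcon
    obtain ⟨y0, hy0, hne⟩ := hcon
    let Xb : AddSubgroup M :=
      { carrier := {u | ∃ y ∈ X, φ b y - y = u}
        zero_mem' := ⟨0, X.zero_mem, by simp⟩
        add_mem' := by
          rintro _ _ ⟨u, hu, rfl⟩ ⟨v, hv, rfl⟩
          exact ⟨u + v, X.add_mem hu hv, by rw [map_add]; abel⟩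
        neg_mem' := by
          rintro _ ⟨u, hu, rfl⟩
          exact ⟨-u, X.neg_mem hu, by rw [map_neg]; abel⟩ }
    have hXbX : Xb ≤ X := by
      rintro _ ⟨u, hu, rfl⟩
      exact X.sub_mem (hXA b hbA u hu) hu
    have hXbA : ∀ c ∈ A, ∀ u ∈ Xb, φ c u ∈ Xb := by
      rintro c hc _ ⟨u, hu, rfl⟩
      exact ⟨φ c u, hXA c hc u hu, by rw [map_sub, commute_apply_end φ (hcomm c hc b hbA)]⟩
    obtain ⟨U, ⟨hU0, hUX, hUA⟩, hmin⟩ := Set.exists_min_image
      {U : AddSubgroup M | U ≠ ⊥ ∧ U ≤ Xb ∧ ∀ c ∈ A, ∀ u ∈ U, φ c u ∈ U}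
      (fun U => Nat.card U) (Set.toFinite _)
      ⟨Xb, fun h => hne (sub_eq_zero.1 (by
        have : φ b y0 - y0 ∈ Xb := ⟨y0, hy0, rfl⟩
        rwa [h, AddSubgroup.mem_bot] at this)), le_rfl, hXbA⟩
    -- on `U`, `σ` is `±1`
    have hsub : ∀ c ∈ A, ∀ d ∈ A, ∀ u₁ ∈ U, φ c u₁ = φ d u₁ → u₁ ≠ 0 →
        ∀ u ∈ U, φ c u = φ d u := by
      intro c hc d hd u₁ hu₁ he hne' u hu
      let U' : AddSubgroup M :=
        { carrier := {v | v ∈ U ∧ φ c v = φ d v}
          zero_mem' := ⟨U.zero_mem, by simp⟩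
          add_mem' := fun {v w} hv hw => ⟨U.add_mem hv.1 hw.1, by simp [hv.2, hw.2]⟩
          neg_mem' := fun {v} hv => ⟨U.neg_mem hv.1, by simp [hv.2]⟩ }
      have hU' : U' = U := by
        refine AddSubgroup.eq_of_le_of_card_ge (fun v hv => hv.1) (hmin U' ⟨?_, ?_, ?_⟩)
        · intro h
          exact hne' ((AddSubgroup.mem_bot).1 (h ▸ (⟨hu₁, he⟩ : u₁ ∈ U')))
        · exact fun v hv => hUX hv.1
        · exact fun e he' v hv => ⟨hUA e he' v hv.1, by
            rw [commute_apply_end φ (hcomm c hc e he'), hv.2,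
              commute_apply_end φ (hcomm e he' d hd)]⟩
      exact (hU'.ge hu).2
    have hdich : ∀ c ∈ A, (∀ u ∈ U, φ (σ c) u = φ c u) ∨ ∀ u ∈ U, φ (σ c) u = φ c⁻¹ u := by
      intro c hc
      by_cases hA' : ∀ u ∈ U, φ (σ c) u = φ c⁻¹ u
      · exact Or.inr hA'
      left
      push Not at hA'
      obtain ⟨u, hu, hune⟩ := hA'
      set w := φ (σ c) (φ c u) - u with hw
      have hw0 : w ≠ 0 := by
        intro h
        apply hune
        rw [hw, sub_eq_zero] at h
        have := congrArg (φ c⁻¹) h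
        rw [commute_apply_end φ (hcomm _ (inv_mem hc) _ (hA c hc)), ← mul_apply_end φ c⁻¹ c,
          inv_mul_cancel, one_apply_end] at this
        exact this
      have hwU : w ∈ U := U.sub_mem (hUA _ (hA c hc) _ (hUA c hc u hu)) hu
      refine hsub _ (hA c hc) c hc w hwU ?_ hw0
      have e1 := hquad c hc (φ (σ c) (φ c u)) (hXA _ (hA c hc) _ (hXA c hc u (hXbX (hUX hu))))
      have e2 : φ c⁻¹ (φ (σ c) (φ c u)) = φ (σ c) u := by
        rw [commute_apply_end φ (hcomm _ (inv_mem hc) _ (hA c hc)), ← mul_apply_end φ c⁻¹ c,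
          inv_mul_cancel, one_apply_end]
      have e3 : φ (σ c)⁻¹ (φ (σ c) (φ c u)) = φ c u := by
        rw [← mul_apply_end, inv_mul_cancel, one_apply_end]
      rw [e2, e3] at e1
      rw [hw, map_sub, map_sub, sub_eq_sub_iff_add_eq_add]
      exact e1.symm
    have hσmul : ∀ c d, σ (c * d) = σ c * σ d := fun c d => by simp only [hσ]; group
    have hmulA : ∀ c ∈ A, ∀ d ∈ A, (∀ u ∈ U, φ (σ c) u = φ c u) → (∀ u ∈ U, φ (σ d) u = φ d⁻¹ u) →
        (∀ u ∈ U, φ (σ c) u = φ c⁻¹ u) ∨ ∀ u ∈ U, φ (σ d) u = φ d u := by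
      intro c hc d hd hc' hd'
      rcases hdich (c * d) (mul_mem hc hd) with h | h
      · right
        intro u hu
        have h2 := h u hu
        rw [hσmul, mul_apply_end φ (σ c) (σ d), mul_apply_end φ c d, hc' _ (hUA _ (hA d hd) u hu)] at h2
        have h3 := congrArg (φ c⁻¹) h2
        simp only [← mul_apply_end, ← mul_assoc, inv_mul_cancel, one_mul] at h3
        exact h3
      · left
        intro u hu
        have hu' := hUA d hd u hu
        have h2 := h _ hu'
        rw [hσmul, mul_apply_end φ (σ c) (σ d), hd' _ hu', ← mul_apply_end φ d⁻¹ d, inv_mul_cancel,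
          one_apply_end, (hcomm c hc d hd).eq, mul_inv_rev, mul_apply_end φ c⁻¹ d⁻¹,
          ← mul_apply_end φ d⁻¹ d, inv_mul_cancel, one_apply_end] at h2
        exact h2
    have huni : (∀ c ∈ A, ∀ u ∈ U, φ (σ c) u = φ c u) ∨
        ∀ c ∈ A, ∀ u ∈ U, φ (σ c) u = φ c⁻¹ u := by
      by_contra hcon
      push Not at hcon
      obtain ⟨⟨d, hd, ud, hud, hdn⟩, ⟨c, hc, uc, huc, hcn⟩⟩ := hcon
      have hc' := (hdich c hc).resolve_right fun h => hcn (h uc huc)
      have hd' := (hdich d hd).resolve_left fun h => hdn (h ud hud)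
      rcases hmulA c hc d hd hc' hd' with h | h
      · exact hcn (h uc huc)
      · exact hdn (h ud hud)
    have hbU : ∀ u ∈ U, φ b u = u := by
      intro u hu
      have hu' := hUA _ (inv_mem ha) u hu
      rw [hb, mul_apply_end]
      rcases huni with h | h
      · rw [h _ (hA a ha) _ hu', h a ha _ hu', ← mul_apply_end, mul_inv_cancel, one_apply_end]
      · have h1 := h _ (hA a ha) _ hu'
        rw [h1]
        have h2 := h a ha u hu
        -- apply `(σ a)⁻¹` to the relation
        have h4 := h a ha _ (hUA a ha u hu)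
        rw [← mul_apply_end φ a⁻¹ a, inv_mul_cancel, one_apply_end] at h4
        have h5 := congrArg (φ (σ a)⁻¹) h4
        rw [← mul_apply_end, inv_mul_cancel, one_apply_end] at h5
        have h6 := congrArg (φ a⁻¹) h5
        rw [← mul_apply_end φ a⁻¹ a, inv_mul_cancel, one_apply_end,
          commute_apply_end φ (hcomm _ (inv_mem ha) _ (inv_mem (hA a ha)))] at h6
        exact h6.symm
    obtain ⟨u, hu, hune⟩ := U.bot_or_exists_ne_zero.resolve_left hU0
    obtain ⟨y, hy, rfl⟩ := hUX hu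
    exact hune (sub_eq_zero.2 (fixed_of_fixed_sub φ h3 (hor b hbA) (hbU _ hu)))
  -- hence `t` fixes `X`
  have htX : ∀ y ∈ X, φ t y = y := by
    intro y hy
    induction hy using AddSubgroup.closure_induction with
    | mem z hz =>
      obtain ⟨a, ha, x, hx, rfl⟩ := hz
      conv_lhs => rw [← hsq, mul_apply_end φ h h, hhA a x, hfix x hx, hhA _ x, hfix x hx]
      exact hσσ a ha x (by simpa [one_apply_end] using hgen 1 A.one_mem x hx)
    | zero => exact map_zero _
    | add u v _ _ hu hv => rw [map_add, hu, hv]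
    | neg u _ hu => rw [map_neg, hu]
  have hA2 : ∀ a ∈ A, ∀ x, φ (a * a) x = x → φ a x = x := by
    intro a ha x hx
    have ho : Odd (orderOf a) := hodd.of_dvd_nat (Subgroup.orderOf_dvd_natCard A ha)
    obtain ⟨m, hm⟩ := ho
    have hpow : ∀ n : ℕ, φ ((a * a) ^ n) x = x := by
      intro n
      induction n with
      | zero => rw [pow_zero, one_apply_end]
      | succ n ih => rw [pow_succ, mul_apply_end, hx, ih]
    have := hpow (m + 1)
    rwa [← pow_two, ← pow_mul, show 2 * (m + 1) = orderOf a + 1 by omega, pow_succ,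
      pow_orderOf_eq_one, one_mul] at this
  have hplus : ∀ a ∈ A, ∀ x, φ t x = x → φ a x = x := by
    intro a ha x hx
    refine hA2 a ha x ?_
    have h1 := htX _ (hgen a ha x hx)
    rw [htA a ha, hx] at h1
    have := congrArg (φ a) h1
    rw [← mul_apply_end, ← mul_apply_end, mul_inv_cancel, one_apply_end] at this
    exact this.symm
  rw [eq_bot_iff]
  intro a ha
  rw [mem_bot]
  refine hfaith a ha fun x => ?_
  have hminus : ∀ y, φ t y = -y → φ a y = y := by
    intro y hy
    have h1 : φ t (φ a y - φ a⁻¹ y) = φ a y - φ a⁻¹ y := by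
      rw [map_sub, htA a ha, htA _ (inv_mem ha), inv_inv, hy, map_neg, map_neg]
      abel
    have h2 := hplus a ha _ h1
    rw [map_sub, ← mul_apply_end φ a a⁻¹, mul_inv_cancel, one_apply_end] at h2
    set d := φ a y - y with hd
    have e : φ a⁻¹ y = y - φ a⁻¹ d := by
      rw [hd, map_sub, ← mul_apply_end, inv_mul_cancel, one_apply_end]
      abel
    -- `(a - 1)²(a + 1) y = 0`
    have h5 := congrArg (φ a) h2
    rw [map_sub, map_sub, ← mul_apply_end φ a a⁻¹, mul_inv_cancel, one_apply_end] at h5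
    have h6 : φ a (φ a d) = d := by
      simp only [hd, map_sub]
      rw [sub_eq_sub_iff_add_eq_add] at h5 ⊢
      rw [h5]
      abel
    rw [← mul_apply_end] at h6
    exact fixed_of_fixed_sub φ h3 (hor a ha) (hA2 a ha d h6)
  have hdec : x = -((x + φ t x) + (x - φ t x)) := by
    rw [show (x + φ t x) + (x - φ t x) = 3 • x - x by abel, h3, zero_sub, neg_neg]
  have htt : φ t (φ t x) = x := by rw [← mul_apply_end, ht, one_apply_end]
  rw [hdec, map_neg, map_add, hplus a ha _ (by rw [map_add, htt, add_comm]),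
    hminus _ (by rw [map_sub, htt, neg_sub])]

/-- The fixed-point theorem: `t` centralises every invariant `r`-subgroup acting faithfully. -/
theorem commute_of_module (φ : G →* AddMonoid.End M) (h3 : ∀ x : M, 3 • x = 0) {r : ℕ}
    [Fact r.Prime] {S : Subgroup G} (hS : IsPGroup r S) (hcop : (Nat.card S).Coprime 3)
    (hodd : Odd (Nat.card S)) {t h : G} (ht : t * t = 1)
    (htS : ∀ s ∈ S, t * s * t⁻¹ ∈ S) (hhS : ∀ s ∈ S, h * s * h⁻¹ ∈ S) (hth : Commute h t)
    (hfix : ∀ x, φ t x = x → φ h x = x) (hsq : ∀ x, φ (h * h) x = φ t x)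
    (hfaith : ∀ s ∈ S, (∀ x, φ s x = x) → s = 1)
    (hneg : ∀ z ∈ S, Commute z t → ∀ x, φ t x = -x → φ z x = x) :
    ∀ s ∈ S, Commute s t := by
  set T := zpowers t with hT
  have hTS : T ≤ normalizer (S : Set G) := by
    rw [hT, zpowers_le]
    exact H75.le_normalizer_of_conj (K := zpowers t) (by
      intro k hk a ha
      obtain ⟨n, rfl⟩ := mem_zpowers_iff.1 hk
      have h1 : ∀ m : ℕ, ∀ s ∈ S, t ^ m * s * (t ^ m)⁻¹ ∈ S := by
        intro m
        induction m with
        | zero => intro s hs; simpa using hs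
        | succ m ih =>
          intro s hs
          rw [pow_succ', show t * t ^ m * s * (t * t ^ m)⁻¹ = t * (t ^ m * s * (t ^ m)⁻¹) * t⁻¹ by
            group]
          exact htS _ (ih s hs)
      obtain ⟨m, rfl | rfl⟩ := n.eq_nat_or_neg
      · rw [zpow_natCast]; exact h1 m a ha
      · rw [zpow_neg, zpow_natCast, ← inv_pow, inv_eq_of_mul_eq_one_right ht]; exact h1 m a ha)
      (mem_zpowers t)
  have hcardT : Nat.card T ∣ 2 := by
    rw [hT, Nat.card_zpowers, orderOf_dvd_iff_pow_eq_one, pow_two, ht]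
  have hco : (Nat.card T).Coprime (Nat.card S) :=
    (Nat.coprime_two_left.2 hodd).coprime_dvd_left hcardT
  have hsolT : Group.IsSolvable T := inferInstance
  set S0 := ⁅S, T⁆ with hS0
  have hS0S : S0 ≤ S := H1.commutator_le_left_of_le_normalizer hTS
  by_contra hcon
  push Not at hcon
  obtain ⟨s0, hs0, hs0t⟩ := hcon
  have hne : S0 ≠ ⊥ := fun he => hs0t (commutatorElement_eq_one_iff_commute.1 (mem_bot.1
    (he ▸ commutator_mem_commutator hs0 (mem_zpowers t))))
  have hS0p : IsPGroup r S0 := hS.to_le hS0S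
  have hS0n : Nontrivial S0 := (nontrivial_iff_ne_bot _).2 hne
  set Z := (center S0).map S0.subtype with hZ
  have hZne : Z ≠ ⊥ := by
    rw [hZ, ne_eq, map_eq_bot_iff_of_injective _ S0.subtype_injective]
    have := hS0p.center_nontrivial
    exact (nontrivial_iff_ne_bot _).1 this
  have hZmem : ∀ z, z ∈ Z ↔ z ∈ S0 ∧ ∀ s ∈ S0, Commute z s := by
    intro z
    constructor
    · rintro ⟨z, hz, rfl⟩
      exact ⟨z.2, fun s hs => (congrArg Subtype.val (mem_center_iff.1 hz ⟨s, hs⟩)).symm⟩
    · exact fun ⟨hz, hzc⟩ => ⟨⟨z, hz⟩, mem_center_iff.2 fun s => Subtype.ext (hzc s s.2).symm.eq, rfl⟩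
  have hgS0 : ∀ g, (∀ s ∈ S, g * s * g⁻¹ ∈ S) → Commute g t → ∀ s ∈ S0, g * s * g⁻¹ ∈ S0 := by
    intro g hg hgt
    refine (?_ : S0 ≤ S0.comap (MulAut.conj g).toMonoidHom)
    refine commutator_le.2 fun s hs k hk => ?_
    rw [mem_comap]
    show g * ⁅s, k⁆ * g⁻¹ ∈ S0
    have hgk : g * k * g⁻¹ = k := by
      obtain ⟨n, rfl⟩ := mem_zpowers_iff.1 hk
      rw [(hgt.zpow_right n).eq, mul_inv_cancel_right]
    rw [show g * ⁅s, k⁆ * g⁻¹ = ⁅g * s * g⁻¹, g * k * g⁻¹⁆ by
      simp [commutatorElement_def, mul_assoc], hgk]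
    exact commutator_mem_commutator (hg s hs) hk
  have hgZ : ∀ g, (∀ s ∈ S, g * s * g⁻¹ ∈ S) → Commute g t → ∀ z ∈ Z, g * z * g⁻¹ ∈ Z := by
    intro g hg hgt z hz
    obtain ⟨hz0, hzc⟩ := (hZmem z).1 hz
    refine (hZmem _).2 ⟨hgS0 g hg hgt z hz0, fun s hs => ?_⟩
    -- conjugation by `g` is bijective on `S0`
    have hbij : S0.map (MulAut.conj g).toMonoidHom = S0 :=
      eq_of_le_of_card_ge (map_le_iff_le_comap.2 (hgS0 g hg hgt))
        (card_map_of_injective (f := (MulAut.conj g).toMonoidHom) (MulEquiv.injective _)).ge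
    obtain ⟨u, hu, rfl⟩ := hbij.ge hs
    exact (hzc u hu).map (MulAut.conj g).toMonoidHom
  -- the fixed points of `t` on `Z` are trivial
  have hZfix : ∀ z ∈ Z, Commute z t → z = 1 := by
    intro z hz hzt
    obtain ⟨hz0, hzc⟩ := (hZmem z).1 hz
    refine hfaith z (hS0S hz0) fun v => ?_
    set X : AddSubgroup M := AddSubgroup.closure {y | ∃ s ∈ S0, ∃ x, φ t x = -x ∧ φ s x = y}
    have hzX : ∀ y ∈ X, φ z y = y := by
      intro y hy
      induction hy using AddSubgroup.closure_induction with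
      | mem w hw =>
        obtain ⟨s, hs, x, hx, rfl⟩ := hw
        rw [commute_apply_end φ (hzc s hs), hneg z (hS0S hz0) hzt x hx]
      | zero => exact map_zero _
      | add u v _ _ hu hv => rw [map_add, hu, hv]
      | neg u _ hu => rw [map_neg, hu]
    have hXS : ∀ s ∈ S0, ∀ y ∈ X, φ s y ∈ X := by
      intro s hs y hy
      induction hy using AddSubgroup.closure_induction with
      | mem w hw =>
        obtain ⟨u, hu, x, hx, rfl⟩ := hw
        rw [← mul_apply_end]
        exact AddSubgroup.subset_closure ⟨s * u, mul_mem hs hu, x, hx, rfl⟩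
      | zero => rw [map_zero]; exact X.zero_mem
      | add u v _ _ hu hv => rw [map_add]; exact X.add_mem hu hv
      | neg u _ hu => rw [map_neg]; exact X.neg_mem hu
    have hmod : ∀ w, φ t w - w ∈ X := by
      intro w
      refine AddSubgroup.subset_closure ⟨1, one_mem _, φ t w - w, ?_, one_apply_end φ _⟩
      rw [map_sub, ← mul_apply_end, ht, one_apply_end, neg_sub]
    let K : Subgroup G :=
      { carrier := {g | g ∈ S0 ∧ ∀ w, φ g w - w ∈ X}
        one_mem' := ⟨one_mem _, fun w => by simp [one_apply_end, X.zero_mem]⟩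
        mul_mem' := fun {a b} ha hb => ⟨mul_mem ha.1 hb.1, fun w => by
          rw [mul_apply_end, show φ a (φ b w) - w = (φ a (φ b w) - φ b w) + (φ b w - w) by abel]
          exact X.add_mem (ha.2 _) (hb.2 w)⟩
        inv_mem' := fun {a} ha => ⟨inv_mem ha.1, fun w => by
          have h1 := X.neg_mem (ha.2 (φ a⁻¹ w))
          rw [← mul_apply_end, mul_inv_cancel, one_apply_end, neg_sub] at h1
          exact h1⟩ }
    have hS0K : S0 ≤ K := by
      conv_lhs => rw [hS0, ← H1.commutator_commutator_eq hTS hco (Or.inl hsolT), ← hS0]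
      refine commutator_le.2 fun s hs k hk => ⟨?_, fun w => ?_⟩
      · exact (H1.commutator_commutator_eq hTS hco (Or.inl hsolT)).le
          (commutator_mem_commutator hs hk)
      · have hk' : k = 1 ∨ k = t := by
          obtain ⟨n, rfl⟩ := mem_zpowers_iff.1 hk
          obtain ⟨m, rfl | rfl⟩ := Int.even_or_odd' n
          · left
            rw [_root_.zpow_mul, show t ^ (2 : ℤ) = t * t from zpow_two t, ht, one_zpow]
          · right
            rw [zpow_add, _root_.zpow_mul, show t ^ (2 : ℤ) = t * t from zpow_two t, ht, one_zpow,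
              one_mul, zpow_one]
        rcases hk' with rfl | hk'
        · simp [X.zero_mem]
        · rw [hk', commutatorElement_def, inv_eq_of_mul_eq_one_right ht, mul_apply_end, mul_apply_end,
            mul_apply_end]
          set u := φ t w with hu
          have h1 : φ t (φ s⁻¹ u) - φ s⁻¹ u ∈ X := hmod _
          have h2 := hXS s hs _ h1
          rw [map_sub, ← mul_apply_end φ s s⁻¹, mul_inv_cancel, one_apply_end] at h2
          have h4 := X.add_mem h2 (hmod w)
          rw [← hu] at h4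
          simpa using h4
    have hd := (hS0K hz0).2 v
    exact fixed_of_fixed_sub φ h3 (hcop.coprime_dvd_left
      (Subgroup.orderOf_dvd_natCard S (hS0S hz0))) (hzX _ hd)
  refine hZne (eq_one_of_inverted φ h3 (A := Z) ?_ ?_ ?_ ht ?_ (hgZ h hhS hth) hth hfix hsq ?_)
  · exact hcop.coprime_dvd_left (card_dvd_of_le (((map_subtype_le _).trans hS0S)))
  · exact hodd.of_dvd_nat (card_dvd_of_le (((map_subtype_le _).trans hS0S)))
  · exact fun a ha b hb => ((hZmem a).1 ha).2 b ((hZmem b).1 hb).1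
  · intro a ha
    have hti : t⁻¹ = t := inv_eq_of_mul_eq_one_right ht
    have hta := hgZ t htS (Commute.refl t) a ha
    have h1 : Commute (a * (t * a * t⁻¹)) t := by
      have hc : Commute a (t * a * t⁻¹) := ((hZmem a).1 ha).2 _ ((hZmem _).1 hta).1
      show a * (t * a * t⁻¹) * t = t * (a * (t * a * t⁻¹))
      conv_rhs => rw [hc.eq]
      rw [hti]
      calc a * (t * a * t) * t = a * t * a * (t * t) := by group
        _ = a * t * a := by rw [ht, mul_one]
        _ = (t * t) * a * t * a := by rw [ht, one_mul]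
        _ = _ := by group
    exact eq_inv_of_mul_eq_one_right (hZfix _ (mul_mem ha hta) h1)
  · exact fun a ha hfa => hfaith a (hS0S ((hZmem a).1 ha).1) hfa

end H78.Block
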