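import Cfsg.Agent.H78.BlockExcKey
import Cfsg.Agent.H78.BlockFixed
import Cfsg.Agent.H85.BrauerSuzuki
import Cfsg.Agent.H25.Kazarin
import Cfsg.Agent.H66.Isolated
import Cfsg.Agent.H31.InvariantMax

/-!
Exceptional blocks: `C(W_E)` normalises `E`.
-/

set_option autoImplicit false
set_option linter.unusedSectionVars false
set_option linter.unusedFintypeInType false

open Subgroup Matrix
open scoped MatrixGroups commutatorElement

namespace H78.Block

theorem sl2v_of_sq_one {F : Type*} [Field F] (h2 : (2 : F) ≠ 0) {s : SL(2, F)} (h : s * s = 1)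
    (hne : s ≠ 1) (v : Fin 2 → F) : sl2v s v = -v := by
  have hi : s⁻¹ = s := inv_eq_of_mul_eq_one_right h
  have hm := congrArg (Subtype.val) hi
  rw [Matrix.SpecialLinearGroup.coe_inv, Matrix.adjugate_fin_two] at hm
  have h01 := congrFun (congrFun hm 0) 1
  have h10 := congrFun (congrFun hm 1) 0
  have h00 := congrFun (congrFun hm 0) 0
  simp at h01 h10 h00
  have hd : (s : Matrix (Fin 2) (Fin 2) F) 0 0 * (s : Matrix (Fin 2) (Fin 2) F) 1 1 -
      (s : Matrix (Fin 2) (Fin 2) F) 0 1 * (s : Matrix (Fin 2) (Fin 2) F) 1 0 = 1 := by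
    rw [← Matrix.det_fin_two]; exact s.2
  set a := (s : Matrix (Fin 2) (Fin 2) F) 0 0 with ha
  have hb : (s : Matrix (Fin 2) (Fin 2) F) 0 1 = 0 := by
    have : (2 : F) * (s : Matrix (Fin 2) (Fin 2) F) 0 1 = 0 := by linear_combination -h01
    exact (mul_eq_zero.1 this).resolve_left h2
  have hc : (s : Matrix (Fin 2) (Fin 2) F) 1 0 = 0 := by
    have : (2 : F) * (s : Matrix (Fin 2) (Fin 2) F) 1 0 = 0 := by linear_combination -h10
    exact (mul_eq_zero.1 this).resolve_left h2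
  rw [hb, zero_mul, sub_zero, h00, ← pow_two] at hd
  rcases sq_eq_one_iff.1 hd with h1 | h1
  · exfalso
    apply hne
    refine sl2v_injective_left fun w => ?_
    rw [sl2v_one]
    ext i
    fin_cases i <;>
      simp [sl2v, Matrix.mulVec, dotProduct, Fin.sum_univ_two, hb, hc, ← ha, h00, h1]
  · ext i
    fin_cases i <;>
      simp [sl2v, Matrix.mulVec, dotProduct, Fin.sum_univ_two, hb, hc, ← ha, h00, h1]

namespace Exc

variable {G : Type*} [Group G] [Finite G] [Fact (Nat.Prime 3)] {F : Type*} [Field F] [Finite F]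
  [CharP F 3] {T : Sylow 3 G} {E : Subgroup G} (X : Exc F T E)

local notation "𝐏" => Cfsg.pCore 3 G
local notation "𝐐" => Cfsg.pCoreOf 3 E
local notation "𝐖" => Cfsg.omegaOneCenter 3 (Cfsg.pCoreOf 3 E)
local notation "𝐙" => Cfsg.omegaOneCenter 3 (Cfsg.pCoreOf 3 E) ⊓ centralizer (E : Set G)
local notation "𝐁" => Cfsg.baumannSubgroupOf 3 (T : Subgroup G)
local notation "𝐌" => modE 3 E

include X in
theorem Z_le_Q {z : G} (hz : z ∈ 𝐙) : z ∈ 𝐐 := (X.mem_W hz.1).1

include X in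
theorem commZ {z u : G} (hz : z ∈ 𝐙) (hu : u ∈ 𝐐) : Commute u z := (X.mem_W hz.1).2 u hu

include X in
theorem commutator_mem_Z {u v : G} (hu : u ∈ 𝐐) (hv : v ∈ 𝐐) : ⁅u, v⁆ ∈ 𝐙 :=
  X.commQQ ▸ commutator_mem_commutator hu hv

/-- A lift to `Q` of a vector of `Q/W`. -/
noncomputable def lift (v : Fin 2 → F) : G := Classical.choose (X.SQ.exists_img v)

include X in
theorem lift_mem (v : Fin 2 → F) : X.lift v ∈ 𝐐 :=
  X.SQ_U ▸ (Classical.choose_spec (X.SQ.exists_img v)).1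

include X in
theorem img_lift (v : Fin 2 → F) : X.SQ.img (X.lift v) = v :=
  (Classical.choose_spec (X.SQ.exists_img v)).2

/-- The commutator form `Q/W × Q/W → Z`. -/
noncomputable def β (v w : Fin 2 → F) : G := ⁅X.lift v, X.lift w⁆

include X in
theorem comm_congr_left {a a' b : G} (ha : a ∈ 𝐐) (ha' : a' ∈ 𝐐) (hb : b ∈ 𝐐)
    (h : X.SQ.img a = X.SQ.img a') : ⁅a, b⁆ = ⁅a', b⁆ := by
  have hm : a⁻¹ * a' ∈ 𝐖 := by
    have hu : a ∈ X.SQ.U := X.SQ_U.symm ▸ ha
    have hu' : a' ∈ X.SQ.U := X.SQ_U.symm ▸ ha'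
    rw [← X.SQ_U₀]
    exact (X.SQ.img_eq_zero (mul_mem (inv_mem hu) hu')).1 (by
      rw [X.SQ.img_mul (inv_mem hu) hu', X.SQ.img_inv hu, h, neg_add_cancel])
  obtain ⟨w, hw, rfl⟩ : ∃ w ∈ 𝐖, a' = a * w := ⟨_, hm, by group⟩
  have hwb : Commute b w := (X.mem_W hw).2 b hb
  rw [show ⁅a * w, b⁆ = a * (w * b * w⁻¹) * a⁻¹ * b⁻¹ by simp [commutatorElement_def, mul_assoc],
    hwb.symm.eq, mul_inv_cancel_right, commutatorElement_def]

include X in
theorem β_spec {a b : G} (ha : a ∈ 𝐐) (hb : b ∈ 𝐐) :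
    ⁅a, b⁆ = X.β (X.SQ.img a) (X.SQ.img b) := by
  rw [β, X.comm_congr_left ha (X.lift_mem _) hb (X.img_lift _).symm,
    ← commutatorElement_inv b (X.lift (X.SQ.img a)),
    X.comm_congr_left hb (X.lift_mem _) (X.lift_mem _) (X.img_lift _).symm, commutatorElement_inv]

include X in
theorem β_mem (v w : Fin 2 → F) : X.β v w ∈ 𝐙 := X.commutator_mem_Z (X.lift_mem v) (X.lift_mem w)

include X in
theorem β_self (v : Fin 2 → F) : X.β v v = 1 := by simp [β]

include X in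
theorem β_inv (v w : Fin 2 → F) : (X.β v w)⁻¹ = X.β w v := commutatorElement_inv _ _

include X in
theorem β_add_left (v v' w : Fin 2 → F) : X.β (v + v') w = X.β v w * X.β v' w := by
  have hv := X.lift_mem v
  have hv' := X.lift_mem v'
  have h1 : X.β (v + v') w = ⁅X.lift v * X.lift v', X.lift w⁆ := by
    rw [X.β_spec (mul_mem hv hv') (X.lift_mem w), X.img_lift,
      X.SQ.img_mul (X.SQ_U.symm ▸ hv) (X.SQ_U.symm ▸ hv'), X.img_lift, X.img_lift]
  rw [h1, show ⁅X.lift v * X.lift v', X.lift w⁆ =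
    X.lift v * ⁅X.lift v', X.lift w⁆ * (X.lift v)⁻¹ * ⁅X.lift v, X.lift w⁆ by
      simp [commutatorElement_def, mul_assoc]]
  show X.lift v * X.β v' w * (X.lift v)⁻¹ * X.β v w = _
  rw [(X.commZ (X.β_mem v' w) hv).eq, mul_inv_cancel_right]
  exact (X.commZ (X.β_mem v w) (X.Z_le_Q (X.β_mem v' w))).eq

include X in
theorem β_add_right (v w w' : Fin 2 → F) : X.β v (w + w') = X.β v w * X.β v w' := by
  rw [← X.β_inv, X.β_add_left, _root_.mul_inv_rev, X.β_inv, X.β_inv]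
  exact (X.commZ (X.β_mem v w) (X.Z_le_Q (X.β_mem v w'))).eq

include X in
theorem β_zero_left (w : Fin 2 → F) : X.β 0 w = 1 := by
  have := X.β_add_left 0 0 w
  rwa [add_zero, left_eq_mul] at this

include X in
theorem β_zero_right (w : Fin 2 → F) : X.β w 0 = 1 := by
  rw [← X.β_inv, X.β_zero_left, inv_one]

include X in
theorem β_invariant {s : SL(2, F)} (hs : s ∈ commutator SL(2, F)) (v w : Fin 2 → F) :
    X.β (sl2v s v) (sl2v s w) = X.β v w := by
  rw [← X.ρQ_range] at hs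
  obtain ⟨e, rfl⟩ := hs
  have hn := X.nzQ (X.E_normQ e.2)
  have hc : ∀ v, (e : G) * X.lift v * (e : G)⁻¹ ∈ 𝐐 := fun v =>
    H75.conj_mem_of_mem_normalizer (X.E_normQ e.2) (X.lift_mem v)
  have hi : ∀ v, X.SQ.img ((e : G) * X.lift v * (e : G)⁻¹) = sl2v (X.ρQ e) v := fun v => by
    rw [← X.SQ.act_img hn (X.SQ_U.symm ▸ X.lift_mem v), X.img_lift, X.actQ]
  rw [← hi, ← hi, ← X.β_spec (hc v) (hc w),
    show ⁅(e : G) * X.lift v * (e : G)⁻¹, (e : G) * X.lift w * (e : G)⁻¹⁆ =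
      (e : G) * X.β v w * (e : G)⁻¹ by simp [β, commutatorElement_def, mul_assoc],
    (X.Z_comm_E (X.β_mem v w) e.2).eq, mul_inv_cancel_right]

/-- `β` on a symplectic pair. -/
noncomputable def τ (a : F) : G := X.β ![1, 0] ![0, a]

include X in
theorem τ_add (a b : F) : X.τ (a + b) = X.τ a * X.τ b := by
  rw [τ, τ, τ, ← X.β_add_right]
  congr 1
  ext i; fin_cases i <;> simp

include X in
theorem τ_zero : X.τ 0 = 1 := by
  have h0 : (![0, 0] : Fin 2 → F) = 0 := by ext i; fin_cases i <;> rfl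
  rw [τ, h0, X.β_zero_right]

include X in
theorem τ_neg (a : F) : X.τ (-a) = (X.τ a)⁻¹ := by
  rw [eq_inv_iff_mul_eq_one, ← X.τ_add, neg_add_cancel, X.τ_zero]

include X in
theorem β_lines : (∀ a c : F, X.β ![a, 0] ![c, 0] = 1) ∧ (∀ a c : F, X.β ![0, a] ![0, c] = 1) ∧
    ∀ c m : F, X.β ![c, 0] ![0, m] = X.τ (c * m) := by
  by_cases hsq : ∃ a : F, a ≠ 0 ∧ a ^ 2 ≠ 1
  · have htop : commutator SL(2, F) = ⊤ :=
      Cfsg.Agent.H9.commutator_SL_eq_top_of_square hsq
    have hinv : ∀ (s : SL(2, F)) v w, X.β (sl2v s v) (sl2v s w) = X.β v w :=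
      fun s v w => X.β_invariant (htop ▸ mem_top s) v w
    have hx : ∀ a c : F, X.β ![a, 0] ![c, 0] = 1 := by
      intro a c
      have h := hinv (H37.upper2 c) ![a, 0] ![0, 1]
      rw [sl2v_upper, sl2v_upper] at h
      simp only [Matrix.cons_val_zero, Matrix.cons_val_one, mul_zero, add_zero, mul_one,
        zero_add] at h
      have e : (![c, 1] : Fin 2 → F) = ![c, 0] + ![0, 1] := by simp
      rw [e, X.β_add_right, mul_eq_right] at h
      exact h
    have hy : ∀ a c : F, X.β ![0, a] ![0, c] = 1 := by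
      intro a c
      have h := hinv (H37.lower2 c) ![0, a] ![1, 0]
      rw [sl2v_lower, sl2v_lower] at h
      simp only [Matrix.cons_val_zero, Matrix.cons_val_one, mul_zero, zero_add, mul_one,
        add_zero] at h
      have e : (![1, c] : Fin 2 → F) = ![1, 0] + ![0, c] := by simp
      rw [e, X.β_add_right, mul_eq_left] at h
      exact h
    refine ⟨hx, hy, fun c m => ?_⟩
    have h := hinv (H37.lower2 m) ![1, 0] ![c, 0]
    rw [sl2v_lower, sl2v_lower] at h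
    simp only [Matrix.cons_val_zero, Matrix.cons_val_one, mul_one, add_zero] at h
    have e1 : (![1, m] : Fin 2 → F) = ![1, 0] + ![0, m] := by simp
    have e2 : (![c, m * c] : Fin 2 → F) = ![c, 0] + ![0, m * c] := by simp
    rw [e1, e2, X.β_add_left, X.β_add_right, X.β_add_right, hx, hy, one_mul, mul_one,
      ← X.β_inv ![c, 0] ![0, m]] at h
    rw [mul_comm]
    exact (mul_inv_eq_one.1 h).symm
  · have hlin : ∀ (c : F) (v : Fin 2 → F),
        c • v = 0 ∨ c • v = v ∨ c • v = -v := fun c v => by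
      rcases elem_of_no_square hsq c with rfl | rfl | rfl <;> simp
    have hneg : ∀ v w, X.β (-v) w = (X.β v w)⁻¹ := fun v w => by
      rw [eq_inv_iff_mul_eq_one, ← X.β_add_left, neg_add_cancel, X.β_zero_left]
    have hnegr : ∀ v w, X.β v (-w) = (X.β v w)⁻¹ := fun v w => by
      rw [eq_inv_iff_mul_eq_one, ← X.β_add_right, neg_add_cancel, X.β_zero_right]
    have hsame : ∀ (a c : F) (v : Fin 2 → F), X.β (a • v) (c • v) = 1 := by
      intro a c v
      rcases hlin a v with h1 | h1 | h1 <;> rcases hlin c v with h2 | h2 | h2 <;>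
        simp [h1, h2, X.β_self, X.β_zero_left, X.β_zero_right, hneg, hnegr]
    refine ⟨fun a c => ?_, fun a c => ?_, fun c m => ?_⟩
    · have := hsame a c ![1, 0]
      simpa using this
    · have := hsame a c ![0, 1]
      simpa using this
    · rcases elem_of_no_square hsq c with rfl | rfl | rfl
      · have h0 : (![0, 0] : Fin 2 → F) = 0 := by ext i; fin_cases i <;> rfl
        rw [h0, X.β_zero_left, zero_mul, X.τ_zero]
      · rw [one_mul]; rfl
      · rw [neg_one_mul, X.τ_neg, τ, ← hneg]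
        congr 1
        ext i; fin_cases i <;> simp

include X in
theorem β_det (v w : Fin 2 → F) : X.β v w = X.τ (v 0 * w 1 - v 1 * w 0) := by
  obtain ⟨hx, hy, hm⟩ := X.β_lines
  conv_lhs => rw [vec_split v, vec_split w, X.β_add_left, X.β_add_right, X.β_add_right, hx, hy,
    hm, ← X.β_inv ![w 0, 0] ![0, v 1], hm]
  rw [one_mul, mul_one, ← X.τ_neg, ← X.τ_add]
  congr 1
  ring

include X in
theorem τ_injective : Function.Injective X.τ := by
  let S : Subgroup G :=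
    { carrier := Set.range X.τ
      one_mem' := ⟨0, X.τ_zero⟩
      mul_mem' := by rintro _ _ ⟨a, rfl⟩ ⟨b, rfl⟩; exact ⟨a + b, X.τ_add a b⟩
      inv_mem' := by rintro _ ⟨a, rfl⟩; exact ⟨-a, X.τ_neg a⟩ }
  have hS : 𝐙 ≤ S := by
    rw [← X.commQQ]
    exact commutator_le.2 fun a ha b hb => ⟨_, (X.β_det _ _).symm.trans (X.β_spec ha hb).symm⟩
  haveI := Fintype.ofFinite F
  let f : F → (𝐙 : Subgroup G) := fun a => ⟨X.τ a, X.β_mem _ _⟩
  have hf : Function.Surjective f := fun z => by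
    obtain ⟨a, ha⟩ := hS z.2
    exact ⟨a, Subtype.ext ha⟩
  have hfi : Function.Injective f :=
    (Function.Surjective.bijective_of_nat_card_le hf (by rw [← X.centE, X.cardZ])).1
  exact fun a b h => hfi (Subtype.ext h)

include X in
/-- A map preserving the form is given by an element of `SL₂(F)`. -/
theorem exists_sl2 {x : G} (hxQ : x ∈ normalizer (𝐐 : Set G)) (hxZ : ∀ z ∈ 𝐙, Commute x z) :
    ∃ s : SL(2, F), ∀ v, X.SQ.act x v = sl2v s v := by
  set P := X.SQ.act x with hP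
  have hn := X.nzQ hxQ
  have hdet : ∀ v w, P v 0 * P w 1 - P v 1 * P w 0 = v 0 * w 1 - v 1 * w 0 := by
    intro v w
    apply X.τ_injective
    rw [← X.β_det, ← X.β_det]
    have hc : ∀ v, x * X.lift v * x⁻¹ ∈ 𝐐 := fun v =>
      H75.conj_mem_of_mem_normalizer hxQ (X.lift_mem v)
    have hi : ∀ v, X.SQ.img (x * X.lift v * x⁻¹) = P v := fun v => by
      rw [← X.SQ.act_img hn (X.SQ_U.symm ▸ X.lift_mem v), X.img_lift]
    rw [← hi, ← hi, ← X.β_spec (hc v) (hc w),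
      show ⁅x * X.lift v * x⁻¹, x * X.lift w * x⁻¹⁆ = x * X.β v w * x⁻¹ by
        simp [β, commutatorElement_def, mul_assoc],
      (hxZ _ (X.β_mem v w)).eq, mul_inv_cancel_right]
  obtain ⟨e0, he0⟩ : ∃ e0, e0 = (![1, 0] : Fin 2 → F) := ⟨_, rfl⟩
  obtain ⟨e1, he1⟩ : ∃ e1, e1 = (![0, 1] : Fin 2 → F) := ⟨_, rfl⟩
  have hd := hdet e0 e1
  rw [he0, he1] at hd
  simp only [Matrix.cons_val_zero, Matrix.cons_val_one, mul_one, mul_zero, sub_zero] at hd
  let s : SL(2, F) := ⟨!![P ![1, 0] 0, P ![0, 1] 0; P ![1, 0] 1, P ![0, 1] 1], by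
    rw [det_fin_two_of]; linear_combination hd⟩
  refine ⟨s, fun v => ?_⟩
  have ha := hdet v ![1, 0]
  have hb := hdet v ![0, 1]
  simp only [Matrix.cons_val_zero, Matrix.cons_val_one, mul_one, mul_zero, sub_zero, zero_sub,
    zero_mul] at ha hb
  ext i
  fin_cases i <;>
    simp only [s, sl2v, Matrix.mulVec, dotProduct, Fin.sum_univ_two, Matrix.of_apply,
      Matrix.cons_val_zero, Matrix.cons_val_one, Fin.zero_eta, Fin.mk_one, Fin.isValue]
  · linear_combination (P ![1, 0] 0) * hb - (P ![0, 1] 0) * ha - (P v 0) * hd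
  · linear_combination (P ![1, 0] 1) * hb - (P ![0, 1] 1) * ha - (P v 1) * hd

include X in
/-- The elements of `C(W)` acting trivially on `O_3(G) / Q` are trivial on `Q / W`. -/
theorem trivQ_of_K0 {x : G} (hx : x ∈ (haveI := H1.pCore_normal' 3 G; stab 𝐏 𝐐))
    (hxW : x ∈ centralizer (𝐖 : Set G)) : x ∈ X.SQ.triv := by
  have := H1.pCore_normal' 3 G
  have h3 : (3 : F) = 0 := by exact_mod_cast CharP.cast_eq_zero F 3
  have h2 : (2 : F) ≠ 0 := fun h => one_ne_zero (α := F) (by linear_combination h3 - h)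
  set K0 := stab 𝐏 𝐐 ⊓ centralizer (𝐖 : Set G) with hK0
  have hK0n : ∀ y ∈ K0, y ∈ normalizer (𝐐 : Set G) := fun y hy => (mem_inf.1 hy).1.1
  let H : Subgroup SL(2, F) :=
    { carrier := {s | ∃ y ∈ K0, ∀ v, X.SQ.act y v = sl2v s v}
      one_mem' := ⟨1, one_mem _, fun v => by rw [X.SQ.act_one, sl2v_one]⟩
      mul_mem' := by
        rintro a b ⟨y, hy, hya⟩ ⟨z, hz, hzb⟩
        exact ⟨y * z, mul_mem hy hz, fun v => by
          rw [X.SQ.act_mul (X.nzQ (hK0n y hy)) (X.nzQ (hK0n z hz)), hzb, hya, sl2v_mul]⟩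
      inv_mem' := by
        rintro a ⟨y, hy, hya⟩
        refine ⟨y⁻¹, inv_mem hy, fun v => ?_⟩
        conv_lhs => rw [← sl2v_apply_inv a v, ← hya]
        exact X.SQ.act_inv_act (X.nzQ (hK0n y hy)) _ }
  have hH : H = ⊥ := by
    refine eq_bot_of_odd ?_ ?_
    · by_contra hev
      rw [Nat.not_odd_iff_even, even_iff_two_dvd] at hev
      haveI := Fact.mk Nat.prime_two
      obtain ⟨⟨s, hsmem⟩, hso⟩ := exists_prime_orderOf_dvd_card' (G := H) 2 hev
      rw [Subgroup.orderOf_mk] at hso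
      obtain ⟨y, hy, hys⟩ := hsmem
      have hs1 : s ≠ 1 := fun h => by rw [h, orderOf_one] at hso; omega
      have hss : s * s = 1 := by
        have := pow_orderOf_eq_one s
        rwa [hso, pow_two] at this
      have hy' := mem_inf.1 hy
      have hyΓ : y ∈ X.Γ := by
        refine ⟨mem_inf.2 ⟨hy'.1.1, X.centralizer_mod_of_W hy'.2⟩, fun e he v => ?_⟩
        rw [hys, hys, sl2v_of_sq_one h2 hss hs1, sl2v_of_sq_one h2 hss hs1,
          X.SQ.act_neg (X.nzQ (X.E_normQ he))]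
      refine hs1 (sl2v_injective_left fun v => ?_)
      rw [← hys, X.SQ.act_of_mem_triv (X.Γ_le_trivQ hyΓ), sl2v_one]
    · intro c hc h hh
      obtain ⟨y, hy, hys⟩ := hh
      rw [← X.ρQ_range] at hc
      obtain ⟨e, rfl⟩ := hc
      have hen := X.E_normQ e.2
      refine ⟨(e : G) * y * (e : G)⁻¹, H75.conj_mem_of_mem_normalizer
        (H75.normalizer_inf_le_normalizer_inf _ _ (mem_inf.2 ⟨le_normalizer_stab 𝐏 𝐐 hen,
          H75.normalizer_le_normalizer_centralizer _ (X.normQ_le_normW hen)⟩)) hy, fun v => ?_⟩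
      rw [X.SQ.act_mul (mul_mem (X.nzQ hen) (X.nzQ (hK0n y hy))) (inv_mem (X.nzQ hen)),
        X.SQ.act_mul (X.nzQ hen) (X.nzQ (hK0n y hy)), hys, ← Subgroup.coe_inv, X.actQ, X.actQ,
        map_inv, sl2v_mul, sl2v_mul]
  have hxn : x ∈ normalizer (𝐐 : Set G) := hx.1
  obtain ⟨s, hs⟩ := X.exists_sl2 hxn fun z hz => (hxW z hz.1).symm
  have hsH : s ∈ H := ⟨x, mem_inf.2 ⟨hx, hxW⟩, hs⟩
  rw [hH, mem_bot] at hsH
  refine (X.SQ.mem_triv_iff (X.nzQ hxn)).2 fun v => ?_
  rw [hs, hsH, sl2v_one]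

include X in
theorem K_le_Γ : X.K ≤ X.Γ := by
  have := H1.pCore_normal' 3 G
  intro g hg
  refine ⟨hg, fun e he => (X.SQ.act_comm_iff (X.nzQ (mem_inf.1 hg).1) (X.nzQ (X.E_normQ he))).1 ?_⟩
  refine X.trivQ_of_K0 ?_ (X.commutator_K_E_W hg he)
  rw [commutatorElement_def]
  exact mul_mem (H75.conj_mem_of_mem_normalizer (le_normalizer_stab 𝐏 𝐐 (mem_inf.1 hg).1)
    (X.mem_stab_of_mem_E he)) (inv_mem (X.mem_stab_of_mem_E he))

include X in
theorem K_le_trivQ {g : G} (hg : g ∈ X.K) : g ∈ X.SQ.triv := X.Γ_le_trivQ (X.K_le_Γ hg)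

include X in
theorem K_normE {g : G} (hg : g ∈ X.K) : g ∈ normalizer (E : Set G) := X.Γ_normE (X.K_le_Γ hg)

/-- The data of the involution `t` of `E`. -/
structure Invol (X : Exc F T E) (t e : G) : Prop where
  memE : t ∈ E
  sq : t * t = 1
  notQ : t ∉ Cfsg.pCoreOf 3 E
  eE : e ∈ E
  comm : Commute e t
  esq : (e * e) * t ∈ Cfsg.pCoreOf 3 E
  negW : ∀ v, X.SW.act t v = -v
  negQ : ∀ v, X.SQ.act t v = -v

include X in
theorem ρQ_ne_one {a : E} (ha : (a : G) ∉ 𝐐) : X.ρQ a ≠ 1 := by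
  intro h
  have hle : X.ρW.ker ≤ X.ρQ.ker := fun b hb => by
    rw [MonoidHom.mem_ker] at hb ⊢
    rw [← X.ρQ_eq_of_ρW (a := 1) (b := b) (by rw [map_one, hb]), map_one]
  have hk : X.ρW.ker = X.ρQ.ker := by
    refine eq_of_le_of_card_ge hle ?_
    have h1 := card_eq_card_quotient_mul_card_subgroup X.ρW.ker
    have h2 := card_eq_card_quotient_mul_card_subgroup X.ρQ.ker
    rw [Nat.card_congr (QuotientGroup.quotientKerEquivRange X.ρW).toEquiv, X.ρW_range] at h1
    rw [Nat.card_congr (QuotientGroup.quotientKerEquivRange X.ρQ).toEquiv, X.ρQ_range, h1] at h2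
    exact (Nat.eq_of_mul_eq_mul_left Nat.card_pos h2).ge
  have : a ∈ X.ρW.ker := by rw [hk, MonoidHom.mem_ker, h]
  rw [X.ρW_ker] at this
  exact ha ⟨a, this, rfl⟩

include X in
theorem exists_invol : ∃ t e, Invol X t e := by
  have h3 : (3 : F) = 0 := by exact_mod_cast CharP.cast_eq_zero F 3
  have h2 : (2 : F) ≠ 0 := fun h => one_ne_zero (α := F) (by linear_combination h3 - h)
  obtain ⟨x, hx⟩ := (X.ρW_range.symm ▸ quat_mem : quat F ∈ X.ρW.range)
  obtain ⟨a, ha⟩ := H75.exists_pow_coprime (p := 3) ((x : G) * x)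
  set tE : E := (x * x) ^ 3 ^ a with htE
  set q2 : SL(2, F) := quat F * quat F with hq2
  have hq22 : q2 * q2 = 1 := sl2v_injective_left fun v => by
    rw [sl2v_mul, sl2v_quat_sq h3, sl2v_quat_sq h3, sl2v_one, neg_neg]
  have hρt : X.ρW tE = q2 := by
    rw [htE, map_pow, map_mul, hx, ← hq2]
    obtain ⟨j, hj⟩ : Odd (3 ^ a) := Odd.pow (by decide)
    rw [hj, pow_succ, pow_mul, pow_two, hq22, one_pow, one_mul]
  have hq2ne : q2 ≠ 1 := fun h => by
    have := congrFun (sl2v_quat_sq h3 (F := F) ![1, 0]) 0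
    rw [← hq2, h, sl2v_one] at this
    simp at this
    exact one_ne_zero (α := F) (by linear_combination h3 - this)
  have hto : (orderOf (tE : G)).Coprime 3 := by
    rw [htE, SubmonoidClass.coe_pow, Subgroup.coe_mul]
    exact ha
  have htQ : (tE : G) ∉ 𝐐 := fun h => hq2ne (by
    rw [← hρt]
    refine sl2v_injective_left fun v => ?_
    rw [← X.actW, X.SW.act_of_mem_triv (X.Q_le_trivW h), sl2v_one])
  have ht2 : (tE : G) * tE = 1 := by
    have hk : tE * tE ∈ X.ρW.ker := by rw [MonoidHom.mem_ker, map_mul, hρt, hq22]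
    rw [X.ρW_ker] at hk
    refine H75.eq_one_of_mem_of_coprime (H75.isPGroup_pCoreOf E) ⟨_, hk, rfl⟩ ?_
    rw [← pow_two]
    exact Nat.Coprime.coprime_dvd_left (orderOf_pow_dvd 2) hto
  have hnegW : ∀ v, X.SW.act tE v = -v := fun v => by rw [X.actW, hρt, hq2, sl2v_quat_sq h3]
  have hnegQ : ∀ v, X.SQ.act tE v = -v := fun v => by
    rw [X.actQ]
    refine sl2v_of_sq_one h2 ?_ (X.ρQ_ne_one htQ) v
    rw [← map_mul, show tE * tE = 1 from Subtype.ext ht2, map_one]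
  -- a lift of the element of order four commuting with `t`
  have hfix : ∀ s ∈ zpowers (tE : G), (x : G)⁻¹ * (s * x * s⁻¹) ∈ 𝐐 := by
    intro s hs
    obtain ⟨i, rfl⟩ := mem_zpowers_iff.1 hs
    have : X.ρW (x⁻¹ * (tE ^ i * x * (tE ^ i)⁻¹)) = 1 := by
      have hc : Commute q2 (quat F) := by rw [hq2]; exact (Commute.refl _).mul_left (Commute.refl _)
      rw [map_mul, map_inv, map_mul, map_mul, map_inv, map_zpow, hρt, hx,
        (hc.zpow_left i).eq, mul_inv_cancel_right, inv_mul_cancel]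
    rw [← MonoidHom.mem_ker, X.ρW_ker] at this
    exact ⟨_, this, by simp⟩
  obtain ⟨e, hec, hxe⟩ := H1.exists_fixed_mem_coset (A := zpowers (tE : G)) (N := 𝐐) (k := (x : G))
    (zpowers_le.2 (X.E_normQ tE.2)) (by
      obtain ⟨m, hm⟩ := IsPGroup.iff_card.1 (H75.isPGroup_pCoreOf (p := 3) E)
      rw [hm, Nat.card_zpowers]
      exact hto.symm.pow_left m) (Or.inr inferInstance) hfix
  have heE : e ∈ E := by simpa using mul_mem x.2 (H75.pCoreOf_le E hxe)
  refine ⟨tE, e, tE.2, ht2, htQ, heE, (hec _ (mem_zpowers _)).symm, ?_, hnegW, hnegQ⟩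
  have he : X.ρW ⟨e, heE⟩ = quat F := by
    rw [← hx]
    refine (inv_mul_eq_one.1 ?_).symm
    rw [← map_inv, ← map_mul]
    refine sl2v_injective_left fun v => ?_
    rw [← X.actW, sl2v_one, X.SW.act_of_mem_triv (X.Q_le_trivW (by simpa using hxe))]
  have hk : ((⟨e, heE⟩ : E) * ⟨e, heE⟩) * tE ∈ X.ρW.ker := by
    rw [MonoidHom.mem_ker, map_mul, map_mul, he, hρt, ← hq2, hq22]
  rw [X.ρW_ker] at hk
  exact ⟨_, hk, rfl⟩

include X in
theorem invol_conj {t e : G} (h : Invol X t e) {g : G} (hg : g ∈ normalizer (E : Set G)) :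
    g * t * g⁻¹ * t ∈ 𝐐 := by
  have h3 : (3 : F) = 0 := by exact_mod_cast CharP.cast_eq_zero F 3
  have h2 : (2 : F) ≠ 0 := fun h => one_ne_zero (α := F) (by linear_combination h3 - h)
  have hgt : g * t * g⁻¹ ∈ E := H75.conj_mem_of_mem_normalizer hg h.memE
  have hgtQ : g * t * g⁻¹ ∉ 𝐐 := fun hq => h.notQ (by
    have := H75.conj'_mem_of_mem_normalizer (H75.normalizer_le_normalizer_pCoreOf E hg) hq
    simpa [mul_assoc] using this)
  have hsq : (⟨_, hgt⟩ : E) * ⟨_, hgt⟩ = 1 := Subtype.ext (by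
    show g * t * g⁻¹ * (g * t * g⁻¹) = 1
    rw [show g * t * g⁻¹ * (g * t * g⁻¹) = g * (t * t) * g⁻¹ by group, h.sq, mul_one,
      mul_inv_cancel])
  have hne : X.ρW ⟨_, hgt⟩ ≠ 1 := fun hone => hgtQ (by
    have : (⟨_, hgt⟩ : E) ∈ X.ρW.ker := hone
    rw [X.ρW_ker] at this
    exact ⟨_, this, rfl⟩)
  have hk : (⟨_, hgt⟩ : E) * ⟨t, h.memE⟩ ∈ X.ρW.ker := by
    rw [MonoidHom.mem_ker, map_mul]
    refine sl2v_injective_left fun v => ?_
    rw [sl2v_mul, ← X.actW ⟨t, h.memE⟩, h.negW, sl2v_one,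
      sl2v_of_sq_one h2 (by rw [← map_mul, hsq, map_one]) hne, neg_neg]
  rw [X.ρW_ker] at hk
  exact ⟨_, hk, rfl⟩

include X in
theorem mod_le_omega : (𝐌 : Subgroup G) ≤ Cfsg.omegaOneCenter 3 (𝐏 : Subgroup G) :=
  X.facts.mod_le_omega X.hG X.P_le_normalizer_E

include X in
theorem P_le_centralizer : 𝐏 ≤ centralizer ((𝐌 : Subgroup G) : Set G) := fun x hx m hm =>
  ((mem_omegaOneCenter.1 (X.mod_le_omega hm)).1.2 x hx).symm

include X in
theorem eq_one_of_sq {u : G} (hu : u ∈ 𝐐) (h : u * u ∈ 𝐖) : u ∈ 𝐖 := by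
  have ho : Odd (orderOf u) := by
    obtain ⟨k, hk⟩ := (H75.isPGroup_pCoreOf (p := 3) E) ⟨u, hu⟩
    exact (Odd.pow (by decide : Odd 3)).of_dvd_nat
      (orderOf_dvd_of_pow_eq_one (congrArg Subtype.val hk : u ^ 3 ^ k = 1))
  exact H85.mem_of_sq_mem_of_odd ho h

include X in
/-- `Q` is covered by the commutators with an involution inverting both sections. -/
theorem Q_le_of_neg {t : G} (htK : t ∈ normalizer (𝐐 : Set G)) (hQ : ∀ v, X.SQ.act t v = -v)
    (hW : ∀ v, X.SW.act t v = -v) {H : Subgroup G} (hH : ∀ u ∈ 𝐐, ⁅t, u⁆ ∈ H) :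
    𝐐 ≤ H := by
  have hnQ := X.nzQ htK
  have hnW := X.nzW htK
  set S := (H ⊓ 𝐐) ⊔ 𝐙 with hS
  have hSQ : S ≤ 𝐐 := sup_le inf_le_right fun z hz => X.Z_le_Q hz
  have hcomm : ∀ u ∈ 𝐐, ⁅t, u⁆ ∈ S := fun u hu => mem_sup_left (mem_inf.2 ⟨hH u hu, by
    have := X.SQ.commutator_mem_U hnQ (X.SQ_U.symm ▸ hu)
    rwa [X.SQ_U] at this⟩)
  have hWS : 𝐖 ≤ S := by
    intro w hw
    have hwU : w ∈ X.SW.U := X.SW_U.symm ▸ hw
    have hc := X.SW.commutator_mem_U hnW hwU
    -- `⁅t, w⁆ ≡ w⁻²`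
    have h1 : ⁅t, w⁆ * (w * w) ∈ 𝐙 := by
      rw [← X.SW_U₀]
      refine (X.SW.img_eq_zero (mul_mem hc (mul_mem hwU hwU))).1 ?_
      rw [X.SW.img_mul hc (mul_mem hwU hwU), X.SW.img_commutator hnW hwU, hW,
        X.SW.img_mul hwU hwU]
      abel
    have h2 : w * w ∈ S := by
      have := mul_mem (inv_mem (hcomm w (X.mem_W hw).1)) (mem_sup_right (S := H ⊓ 𝐐) h1)
      rwa [inv_mul_cancel_left] at this
    refine H85.mem_of_sq_mem_of_odd ?_ h2
    have : w ^ 3 = 1 := (mem_omegaOneCenter.1 hw).2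
    exact (by decide : Odd 3).of_dvd_nat (orderOf_dvd_of_pow_eq_one this)
  have hQS : 𝐐 ≤ S := by
    intro u hu
    have huU : u ∈ X.SQ.U := X.SQ_U.symm ▸ hu
    have hc := X.SQ.commutator_mem_U hnQ huU
    have h1 : ⁅t, u⁆ * (u * u) ∈ 𝐖 := by
      rw [← X.SQ_U₀]
      refine (X.SQ.img_eq_zero (mul_mem hc (mul_mem huU huU))).1 ?_
      rw [X.SQ.img_mul hc (mul_mem huU huU), X.SQ.img_commutator hnQ huU, hQ,
        X.SQ.img_mul huU huU]
      abel
    have h2 : u * u ∈ S := by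
      have := mul_mem (inv_mem (hcomm u hu)) (hWS h1)
      rwa [inv_mul_cancel_left] at this
    obtain ⟨k, hk⟩ := (H75.isPGroup_pCoreOf (p := 3) E) ⟨u, hu⟩
    exact H85.mem_of_sq_mem_of_odd ((Odd.pow (by decide : Odd 3)).of_dvd_nat
      (orderOf_dvd_of_pow_eq_one (congrArg Subtype.val hk : u ^ 3 ^ k = 1))) h2
  -- `Z` is the Frattini subgroup of `Q`
  have hgen : (H ⊓ 𝐐).subgroupOf 𝐐 ⊔ frattini (𝐐 : Subgroup G) = ⊤ := by
    apply Subgroup.map_injective (Subgroup.subtype_injective (𝐐 : Subgroup G))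
    rw [Subgroup.map_sup, X.frat, subgroupOf_map_subtype, ← MonoidHom.range_eq_map, range_subtype,
      inf_assoc, inf_idem]
    exact le_antisymm hSQ hQS
  have := Subgroup.subgroupOf_eq_top.1 (frattini_nongenerating hgen)
  exact this.trans inf_le_left

end Exc

end H78.Block
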