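import Cfsg.Agent.H78.BlockAltAct

/-!
Blocks inside `B(G)` against a subnormal block.
-/

set_option autoImplicit false
set_option linter.unusedSectionVars false

open Subgroup
open scoped commutatorElement

namespace H78.Block

variable {G : Type*} [Group G] [Finite G] {p : ℕ} [Fact p.Prime] {T T' : Sylow p G} {E F : Subgroup G}

theorem charP_of_card {K : Type} [Field K] [Fintype K] {n : ℕ} (h : Fintype.card K = p ^ n) :
    CharP K p := by
  haveI : CharP K (ringChar K) := ringChar.charP K
  obtain ⟨m, hm, hm'⟩ := FiniteField.card K (ringChar K)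
  have hd : ringChar K ∣ p ^ n := h ▸ hm' ▸ dvd_pow_self _ m.ne_zero
  exact (Nat.prime_dvd_prime_iff_eq hm Fact.out).1 (hm.dvd_of_dvd_pow hd) ▸ ringChar.charP K

/-- `p'`-elements of `B(G)` act on `W_E` as elements of `E`. -/
theorem exists_act_eq_block (hG : centralizer (Cfsg.pCore p G : Set G) ≤ Cfsg.pCore p G)
    (hE : Cfsg.IsBaumannBlock p (T : Subgroup G) E) (hEs : E.IsSubnormal) {g : G}
    (hg : g ∈ Cfsg.baumannSubgroup p G) (hgo : (orderOf g).Coprime p) :
    ∃ e ∈ E, e⁻¹ * g ∈ centralizer ((modE p E : Subgroup G) : Set G) := by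
  have hE' := hE
  obtain ⟨-, -, -, -, hcase⟩ := hE'
  rcases hcase with ⟨K, hKi, hKf, n, hcard, -, hWs, -⟩ | ⟨hp, m, -, hWs, -⟩
  · haveI := charP_of_card (p := p) hcard
    obtain ⟨S, ρ, hU, hU₀, hr, hact⟩ :=
      exists_sec hWs (le_normalizer.trans (normalizer_E_le_normalizer_Z E))
    exact (⟨S, ρ, hU, hU₀, hr, hact⟩ : LinData p K E).exists_act_eq hG hE hEs hg hgo
  · subst hp
    exact exists_act_eq_alt hE hWs (baumannSubgroup_le_normalizer hG hE hEs hg) hgo

/-- `⁅a, e⁆ ∈ Q` for `a ∈ O_p(G)`, `e ∈ E`. -/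
theorem commutator_pCore_mem (hE : Cfsg.IsBaumannBlock p (T : Subgroup G) E) :
    ⁅Cfsg.pCore p G, E⁆ ≤ Cfsg.pCoreOf p E := by
  have := H1.pCore_normal' p G
  refine H75.le_pCoreOf ?_ H1.right_le_normalizer_commutator
    ((H1.isPGroup_pCore p G).to_le (commutator_le_left _ _))
  rw [commutator_comm]
  exact H1.commutator_le_left_of_le_normalizer (pCore_le_normalizer hE)

/-- The commutator of `O_p(G)` with a block is central in `Q` or `Q ≤ O_p(G)`. -/
theorem pCoreOf_le_or (hG : centralizer (Cfsg.pCore p G : Set G) ≤ Cfsg.pCore p G)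
    (hE : Cfsg.IsBaumannBlock p (T : Subgroup G) E) :
    ⁅Cfsg.pCore p G, E⁆ ≤ Cfsg.omegaOneCenter p (Cfsg.pCoreOf p E) ∨
      Cfsg.pCoreOf p E ≤ Cfsg.pCore p G := by
  have := H1.pCore_normal' p G
  have hf := facts_of_block hE
  set Q := Cfsg.pCoreOf p E with hQ
  set W := Cfsg.omegaOneCenter p Q with hW
  have hD := commutator_pCore_mem hE
  by_cases hQW : Q = W
  · exact Or.inl (hD.trans hQW.le)
  have hirr := hf.irrQ.resolve_left hQW
  rcases hirr.irr (⁅Cfsg.pCore p G, E⁆ ⊔ W) le_sup_right (sup_le hD (omega_le_core E))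
    ((le_inf H1.right_le_normalizer_commutator hf.irrW.norm).trans
      (H75.normalizer_inf_le_normalizer_sup _ _)) with hle | heq
  · exact Or.inl (le_sup_left.trans hle.le)
  right
  have hV := hf.mod_le_omega hG (pCore_le_normalizer hE)
  have hE' := hE
  obtain ⟨-, -, -, -, hcase⟩ := hE'
  rcases hcase with ⟨K, hKi, hKf, n, hcard, hiso, hWs, hQs⟩ | ⟨-, m, -, -, hQ'⟩
  swap
  · exact absurd hQ' hQW
  obtain ⟨-, -, -, hfrat, -⟩ := hQs.resolve_left hQW
  have hgen : (Q ⊓ Cfsg.pCore p G).subgroupOf Q ⊔ frattini (Q : Subgroup G) = ⊤ := by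
    apply Subgroup.map_injective (Subgroup.subtype_injective (Q : Subgroup G))
    rw [Subgroup.map_sup, hfrat, subgroupOf_map_subtype, ← MonoidHom.range_eq_map, range_subtype,
      inf_right_comm, inf_idem]
    refine le_antisymm (sup_le inf_le_left (inf_le_left.trans (omega_le_core E))) ?_
    conv_lhs => rw [hQ, ← heq]
    refine sup_le ((le_inf hD (commutator_le_left _ _)).trans le_sup_left) ?_
    conv_lhs => rw [hW, hQ, ← hf.mod_sup]
    exact sup_le ((le_inf (hf.mod_le.trans (omega_le_core E))
      fun x hx => (mem_omegaOneCenter.1 (hV hx)).1.1).trans le_sup_left) le_sup_right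
  exact (Subgroup.subgroupOf_eq_top.1 (frattini_nongenerating hgen)).trans inf_le_right

/-- A block of `G` lies in a subnormal block or commutes with it. -/
theorem le_or_commute (hG : centralizer (Cfsg.pCore p G : Set G) ≤ Cfsg.pCore p G)
    (hE : Cfsg.IsBaumannBlock p (T : Subgroup G) E) (hEs : E.IsSubnormal)
    (hF : Cfsg.IsBaumannBlock p (T' : Subgroup G) F) : F ≤ E ∨ ⁅F, E⁆ = ⊥ := by
  have := H1.pCore_normal' p G
  have hfE := facts_of_block hE
  have hfF := facts_of_block hF
  have hFB := block_le_baumannSubgroup hF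
  have hFN : F ≤ normalizer (E : Set G) := hFB.trans (baumannSubgroup_le_normalizer hG hE hEs)
  have hQE := H75.pCoreOf_le_of_subnormal (p := p) hEs
  set U := modE p E with hU
  set U' := modE p F with hU'
  have hUV : U ≤ Cfsg.omegaOneCenter p (Cfsg.pCore p G) := hfE.mod_le_omega hG (pCore_le_normalizer hE)
  have hFU : F ≤ normalizer (U : Set G) := hFN.trans (normalizer_E_le_normalizer_modE E)
  have hX1 : ⁅U, F⁆ ≤ U' := (commutator_mono hUV le_rfl).trans (commutator_omega_le hF)
  by_cases hc : ⁅U, F⁆ ≤ centralizer (F : Set G)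
  · -- `F` centralises `W_E`
    right
    have hFc : F ≤ centralizer (U : Set G) := le_centralizer_iff.1
      (le_centralizer_of_commutator_le hfF
        ((H75.isPGroup_pCoreOf E).to_le (hfE.mod_le.trans (omega_le_core E))) hFU hc)
    have hD : ⁅E, F⁆ ≤ Cfsg.pCoreOf p E := fun x hx => by
      have hxE : x ∈ E := H1.commutator_le_left_of_le_normalizer hFN hx
      have hxC : x ∈ centralizer (U : Set G) := by
        refine (?_ : ⁅E, F⁆ ≤ centralizer (U : Set G)) hx
        rw [commutator_le]
        intro e he f hf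
        rw [commutatorElement_def]
        exact mul_mem (H75.conj_mem_of_mem_normalizer (H75.normalizer_le_normalizer_centralizer _
          (normalizer_E_le_normalizer_modE E (le_normalizer he))) (hFc hf)) (inv_mem (hFc hf))
      refine mem_core_of_fix hE hxE fun w hw => ?_
      have hw' : w ∈ U ⊔ (Cfsg.omegaOneCenter p (Cfsg.pCoreOf p E) ⊓ centralizer (E : Set G)) :=
        hfE.mod_sup.ge hw
      rw [← SetLike.mem_coe, coe_mul_of_left_le_normalizer_right _ _ (fun a ha =>
        normalizer_E_le_normalizer_Z E (le_normalizer (H75.pCoreOf_le E (omega_le_core E (hfE.mod_le ha)))))] at hw'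
      obtain ⟨u, hu, z, hz, rfl⟩ := hw'
      rw [commutatorElement_eq_one_iff_mul_comm.2 ((Commute.mul_right (hxC u hu).symm
        (hz.2 x hxE : Commute x z)).eq)]
      exact one_mem _
    have hEF : E ≤ normalizer (F : Set G) := fun g hg =>
      mem_normalizer_of_commutator_mem hfF.res (H1.isPGroup_pCore p G) (pCore_le_normalizer hF)
        fun f hf => hQE (hD (commutator_mem_commutator hg hf))
    rw [commutator_comm]
    refine (commute_or_modE_eq hG hE hF hQE hEF hFN (hD.trans hQE)).resolve_right fun he => ?_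
    refine hfF.not_mod_le_centralizer fun u hu f hf => ((hFc hf) u ?_).symm
    exact he.ge hu
  left
  -- `W_F ≤ W_E`
  have hle : U' ≤ U := (hfF.mod_min (hX1.trans hfF.mod_le) H1.right_le_normalizer_commutator hc).trans
    (H1.commutator_le_left_of_le_normalizer hFU)
  set R₀ := ⁅Cfsg.pCore p G, F⁆ with hR₀
  set S := Cfsg.pCoreOf p E ⊔ R₀ with hS
  set L := E ⊔ F with hL
  have hLN : L ≤ normalizer (E : Set G) := sup_le le_normalizer hFN
  have hR₀F : R₀ ≤ Cfsg.pCoreOf p F := commutator_pCore_mem hF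
  have hR₀P : R₀ ≤ Cfsg.pCore p G := commutator_le_left _ _
  have hSn : L ≤ normalizer (S : Set G) := by
    refine sup_le ?_ ((le_inf (hFN.trans (H75.normalizer_le_normalizer_pCoreOf E))
      H1.right_le_normalizer_commutator).trans (H75.normalizer_inf_le_normalizer_sup _ _))
    rw [le_normalizer_iff]
    intro e he
    suffices hmap : S ≤ S.comap (MulAut.conj e).toMonoidHom from fun x hx => hmap hx
    refine sup_le (fun q hq => mem_sup_left (H75.conj_mem_of_mem_normalizer (H75.le_normalizer_pCoreOf E he) hq))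
      fun a ha => ?_
    show e * a * e⁻¹ ∈ S
    rw [show e * a * e⁻¹ = ⁅a, e⁆⁻¹ * a by simp [commutatorElement_def, mul_assoc]]
    exact mul_mem (mem_sup_left (inv_mem (commutator_pCore_mem hE (commutator_mem_commutator (hR₀P ha) he))))
      (mem_sup_right ha)
  let K : Subgroup G :=
    { carrier := {g | g ∈ L ∧ ∀ a ∈ Cfsg.pCore p G, ⁅g, a⁆ ∈ S}
      one_mem' := ⟨one_mem _, fun a _ => by simp⟩
      mul_mem' := fun {x y} hx hy => ⟨mul_mem hx.1 hy.1, fun a ha => by
        rw [show ⁅x * y, a⁆ = x * ⁅y, a⁆ * x⁻¹ * ⁅x, a⁆ by simp [commutatorElement_def, mul_assoc]]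
        exact mul_mem (H75.conj_mem_of_mem_normalizer (hSn hx.1) (hy.2 a ha)) (hx.2 a ha)⟩
      inv_mem' := fun {x} hx => ⟨inv_mem hx.1, fun a ha => by
        rw [show ⁅x⁻¹, a⁆ = x⁻¹ * ⁅x, a⁆⁻¹ * x by simp [commutatorElement_def, mul_assoc]]
        exact H75.conj'_mem_of_mem_normalizer (hSn hx.1) (inv_mem (hx.2 a ha))⟩ }
  have hK : L ≤ K := sup_le
    (fun x hx => ⟨mem_sup_left hx, fun a ha => mem_sup_left (by
      rw [← commutatorElement_inv]
      exact inv_mem (commutator_pCore_mem hE (commutator_mem_commutator ha hx)))⟩)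
    (fun x hx => ⟨mem_sup_right hx, fun a ha => mem_sup_right (by
      rw [← commutatorElement_inv]
      exact inv_mem (commutator_mem_commutator ha hx))⟩)
  set C0 := L ⊓ centralizer (U : Set G) with hC0
  have hC0p : IsPGroup p C0 := by
    refine H75.isPGroup_of_no_coprime fun y hy hyo => ?_
    obtain ⟨hy1, hy2⟩ := mem_inf.1 hy
    have hyQ : ∀ q ∈ Cfsg.pCoreOf p E, Commute y q := commute_core_of_coprime hG hE hQE
      (H75.normalizer_le_normalizer_pCoreOf E (hLN hy1)) hy2 hyo
    have hyU' : y ∈ centralizer ((U' : Subgroup G) : Set G) :=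
      centralizer_le (SetLike.coe_subset_coe.2 hle) hy2
    have hyN : y ∈ normalizer (F : Set G) := centralizer_modE_le_normalizer hG hF hyU'
    have hyR : ∀ a ∈ R₀, Commute y a := by
      rcases pCoreOf_le_or hG hF with hw | hq
      · -- `R₀ ≤ W_F`
        have : R₀ ≤ U' := by
          refine H74.PRed.commutator_le_of_closure hfF.res.symm
            (le_normalizer.trans (normalizer_E_le_normalizer_modE F)) fun a ha x hx => ?_
          rw [← commutatorElement_inv]
          refine inv_mem ?_
          have hcW : ⁅x, a⁆ ∈ Cfsg.omegaOneCenter p (Cfsg.pCoreOf p F) := by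
            rw [← commutatorElement_inv]
            exact inv_mem (hw (commutator_mem_commutator ha hx.1))
          refine mem_of_coprime_step ((H75.isPGroup_pCoreOf F).to_le (omega_le_core F)) hx.2 hcW ?_
            (normalizer_E_le_normalizer_modE F (le_normalizer hx.1))
            (normalizer_E_le_normalizer_modE F (le_normalizer (H75.pCoreOf_le F (omega_le_core F hcW))))
          rw [← commutatorElement_inv]
          exact inv_mem (commutator_mem_commutator hcW hx.1)
        exact fun a ha => (hyU' a (this ha)).symm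
      · exact fun a ha => commute_core_of_coprime hG hF hq
          (H75.normalizer_le_normalizer_pCoreOf F hyN) hyU' hyo a (hR₀F ha)
    have hcS : S ≤ centralizer ({y} : Set G) := sup_le
      (fun q hq => mem_centralizer_singleton_iff.2 (hyQ q hq).eq.symm)
      (fun q hq => mem_centralizer_singleton_iff.2 (hyR q hq).eq.symm)
    have hP : y ∈ Cfsg.pCore p G := hG fun a ha => (H75.commute_of_stabilize
      ((H1.isPGroup_pCore p G).to_le (sup_le hQE hR₀P)) hyo (hK hy1).2
      (fun b hb => (mem_centralizer_singleton_iff.1 (hcS hb)).symm) a ha).symm.eq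
    exact H75.eq_one_of_mem_of_coprime (H1.isPGroup_pCore p G) hP hyo
  have hFle : F ≤ E ⊔ C0 := hfF.res.ge.trans ((closure_le _).2 fun f hf => by
    obtain ⟨e, he, hef⟩ := exists_act_eq_block hG hE hEs (hFB hf.1) hf.2
    rw [SetLike.mem_coe, show f = e * (e⁻¹ * f) by group]
    exact mul_mem (mem_sup_left he) (mem_sup_right (mem_inf.2
      ⟨mul_mem (inv_mem (mem_sup_left he)) (mem_sup_right hf.1), hef⟩)))
  exact hfF.res.ge.trans ((H75.resOf_mono hFle).trans
    (H75.resOf_le_of_sup (sup_le le_normalizer (inf_le_left.trans hLN)) hC0p rfl))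

end H78.Block
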