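import Cfsg.Agent.H78.BlockCentralizer
import Cfsg.Agent.H77.ThreeCycleBlocks
import Cfsg.Agent.H38.Omega4

/-!
The kernel of a block on `W / Z`, and the two kinds of blocks.
-/

set_option autoImplicit false
set_option linter.unusedSectionVars false

open Subgroup
open scoped MatrixGroups commutatorElement

namespace H78.Block

/-- The even-weight vectors. -/
def evenVec (n : ℕ) : AddSubgroup (Fin n → ZMod 2) where
  carrier := {v | ∑ i, v i = 0}
  zero_mem' := by simp
  add_mem' {a b} (ha : ∑ i, a i = 0) (hb : ∑ i, b i = 0) := by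
    show ∑ i, (a + b) i = 0
    simp [Finset.sum_add_distrib, ha, hb]
  neg_mem' {a} (ha : ∑ i, a i = 0) := by
    show ∑ i, (-a) i = 0
    simp [ha]

variable {G : Type*} [Group G] [Finite G] {p : ℕ} [Fact p.Prime]

theorem exists_sec_alt {n : ℕ} {R : Subgroup (Equiv.Perm (Fin n))} {E U U₀ : Subgroup G}
    (h : Cfsg.ActsAsOddPermModuleOnSection n R E U U₀) (hn : E ≤ normalizer (U₀ : Set G)) :
    ∃ (S : Sec G (evenVec n)) (ρ : E →* Equiv.Perm (Fin n)), S.U = U ∧ S.U₀ = U₀ ∧
      ρ.range = R ∧ ∀ (e : E) (v : evenVec n) (i : Fin n),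
        (S.act (e : G) v : Fin n → ZMod 2) i = (v : Fin n → ZMod 2) ((ρ e)⁻¹ i) := by
  obtain ⟨hEU, -, ρ, ψ, hρ, heven, hsurj, hker, hact⟩ := h
  let ψ' : U →* Multiplicative (evenVec n) :=
    { toFun := fun u => Multiplicative.ofAdd ⟨Multiplicative.toAdd (ψ u), heven u⟩
      map_one' := by
        apply Multiplicative.toAdd.injective
        apply Subtype.ext
        simp
      map_mul' := fun a b => by
        apply Multiplicative.toAdd.injective
        apply Subtype.ext
        simp }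
  have hψ' : Function.Surjective ψ' := fun v => by
    obtain ⟨u, hu⟩ := hsurj (Multiplicative.toAdd v : evenVec n) (Multiplicative.toAdd v).2
    exact ⟨u, Multiplicative.toAdd.injective (Subtype.ext hu)⟩
  have hker' : ∀ u : U, ψ' u = 1 ↔ (u : G) ∈ U₀ := fun u => by
    rw [← hker u]
    constructor
    · intro h
      exact Multiplicative.toAdd.injective
        (congrArg (fun x : Multiplicative (evenVec n) => ((Multiplicative.toAdd x : evenVec n) : Fin n → ZMod 2)) h)
    · intro h
      apply Multiplicative.toAdd.injective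
      apply Subtype.ext
      show Multiplicative.toAdd (ψ u) = 0
      rw [h]; rfl
  let S : Sec G (evenVec n) := ⟨U, U₀, ψ', hψ', hker'⟩
  refine ⟨S, ρ, rfl, rfl, hρ, fun e v i => ?_⟩
  obtain ⟨u, hu, rfl⟩ := S.exists_img v
  have hen : (e : G) ∈ S.Nz := S.mem_Nz.2 ⟨hEU e.2, hn e.2⟩
  obtain ⟨w, hw, hwe⟩ := hact e ⟨u, hu⟩
  rw [S.act_img hen hu, S.img_apply hu]
  show ((S.img ((e : G) * u * (e : G)⁻¹) : evenVec n) : Fin n → ZMod 2) i = _
  rw [← hw, S.img_apply w.2]
  exact hwe i

theorem normalizer_E_le_normalizer_pCore_omega (E : Subgroup G) :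
    normalizer (E : Set G) ≤
      normalizer ((Cfsg.omegaOneCenter p (Cfsg.pCoreOf p E) : Subgroup G) : Set G) :=
  (H75.normalizer_le_normalizer_pCoreOf E).trans (normalizer_le_normalizer_omegaOneCenter _)

theorem normalizer_E_le_normalizer_Z (E : Subgroup G) :
    normalizer (E : Set G) ≤ normalizer
      ((Cfsg.omegaOneCenter p (Cfsg.pCoreOf p E) ⊓ centralizer (E : Set G) : Subgroup G) : Set G) :=
  (le_inf (normalizer_E_le_normalizer_pCore_omega E)
    (H75.normalizer_le_normalizer_centralizer E)).trans (H75.normalizer_inf_le_normalizer_inf _ _)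

theorem normalizer_E_le_normalizer_modE (E : Subgroup G) :
    normalizer (E : Set G) ≤ normalizer ((modE p E : Subgroup G) : Set G) :=
  (le_inf (normalizer_E_le_normalizer_pCore_omega E) le_rfl).trans
    (H75.normalizer_inf_le_normalizer_commutator _ _)

omit [Fact p.Prime] in
theorem ker_eq_pCore {E : Subgroup G} {H : Type*} [Group H] (ρ : E →* H)
    (hle : Cfsg.pCore p E ≤ ρ.ker)
    (hcard : Nat.card (E ⧸ Cfsg.pCore p E) = Nat.card ρ.range) : ρ.ker = Cfsg.pCore p E := by
  symm
  refine eq_of_le_of_card_ge hle ?_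
  have h1 := card_eq_card_quotient_mul_card_subgroup (Cfsg.pCore p E)
  have h2 := card_eq_card_quotient_mul_card_subgroup ρ.ker
  rw [Nat.card_congr (QuotientGroup.quotientKerEquivRange ρ).toEquiv, ← hcard, h1] at h2
  exact (Nat.eq_of_mul_eq_mul_left Nat.card_pos h2).ge

/-- Elements of `Q` act trivially on `W / Z`. -/
theorem core_fix {E : Subgroup G} {e w : G} (he : e ∈ Cfsg.pCoreOf p E)
    (hw : w ∈ Cfsg.omegaOneCenter p (Cfsg.pCoreOf p E)) : ⁅e, w⁆ = 1 :=
  commutatorElement_eq_one_iff_mul_comm.2 ((mem_omegaOneCenter.1 hw).1.2 e he)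

/-- An element of a block acting trivially on `W / Z` lies in `Q`. -/
theorem mem_core_of_fix {T E : Subgroup G} (hE : Cfsg.IsBaumannBlock p T E) {x : G} (hx : x ∈ E)
    (hfix : ∀ w ∈ Cfsg.omegaOneCenter p (Cfsg.pCoreOf p E),
      ⁅x, w⁆ ∈ Cfsg.omegaOneCenter p (Cfsg.pCoreOf p E) ⊓ centralizer (E : Set G)) :
    x ∈ Cfsg.pCoreOf p E := by
  have hn : E ≤ normalizer ((Cfsg.omegaOneCenter p (Cfsg.pCoreOf p E) ⊓
      centralizer (E : Set G) : Subgroup G) : Set G) :=
    le_normalizer.trans (normalizer_E_le_normalizer_Z E)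
  have hn' := (le_normalizer (H := E)).trans (normalizer_E_le_normalizer_pCore_omega (p := p) E)
  suffices key : ∀ {A : Type} [AddCommGroup A] {H : Type} [Group H] (S : Sec G A) (ρ : E →* H),
      S.U = Cfsg.omegaOneCenter p (Cfsg.pCoreOf p E) →
      S.U₀ = Cfsg.omegaOneCenter p (Cfsg.pCoreOf p E) ⊓ centralizer (E : Set G) →
      Nat.card (E ⧸ Cfsg.pCore p E) = Nat.card ρ.range →
      (∀ e : E, (∀ a, S.act (e : G) a = a) ↔ ρ e = 1) → x ∈ Cfsg.pCoreOf p E by
    obtain ⟨-, -, -, -, hcase⟩ := hE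
    rcases hcase with ⟨F, hFi, hFf, n, hcard, ⟨iso⟩, hWs, -⟩ | ⟨-, m, ⟨iso⟩, hWs, -⟩
    · obtain ⟨S, ρ, hU, hU₀, hr, hact⟩ := exists_sec hWs hn
      refine key S ρ hU hU₀ (by rw [hr]; exact Nat.card_congr iso.toEquiv) fun e => ⟨fun h => ?_, fun h a => ?_⟩
      · refine sl2v_injective_left fun v => ?_
        rw [← hact, sl2v_one, h]
      · rw [hact, h, sl2v_one]
    · obtain ⟨S, ρ, hU, hU₀, hr, hact⟩ := exists_sec_alt hWs hn
      refine key S ρ hU hU₀ (by rw [hr]; exact Nat.card_congr iso.toEquiv) fun e => ⟨fun h => ?_, fun h a => ?_⟩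
      · rw [← inv_eq_one]
        ext i
        rw [Equiv.Perm.one_apply]
        by_contra hij
        set j := (ρ e)⁻¹ i with hj
        have hne : j ≠ i := fun h => hij (by rw [h])
        have h3 : ∃ k, k ≠ i ∧ k ≠ j := by
          rcases Nat.eq_zero_or_pos m with rfl | hm
          · exact absurd (Subsingleton.elim (h := ⟨fun a b => Fin.ext (by omega)⟩) j i) hne
          obtain ⟨k, hk⟩ : ((Finset.univ.erase i).erase j).Nonempty := Finset.card_pos.1 (by
            rw [Finset.card_erase_of_mem (by simp [hne]), Finset.card_erase_of_mem (by simp),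
              Finset.card_univ, Fintype.card_fin]
            omega)
          simp at hk
          exact ⟨k, hk.2, hk.1⟩
        obtain ⟨k, hki, hkj⟩ := h3
        have hv : (Pi.single i 1 + Pi.single k 1 : Fin (2 * m + 1) → ZMod 2) ∈ evenVec (2 * m + 1) := by
          show ∑ l, (Pi.single i 1 + Pi.single k 1 : Fin (2 * m + 1) → ZMod 2) l = 0
          simp [Finset.sum_add_distrib, CharTwo.add_self_eq_zero]
        have := hact e ⟨_, hv⟩ i
        rw [h, ← hj] at this
        simp [hne, hkj.symm, hki.symm] at this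
      · apply Subtype.ext
        funext i
        rw [hact, h, inv_one, Equiv.Perm.one_apply]
  intro A _ H _ S ρ hU hU₀ hcard hker
  have hnz : ∀ e : E, (e : G) ∈ S.Nz := fun e =>
    S.mem_Nz.2 ⟨hU ▸ hn' e.2, hU₀ ▸ hn e.2⟩
  have hk := ker_eq_pCore ρ (fun e he => ?_) hcard
  · have : (⟨x, hx⟩ : E) ∈ ρ.ker := (hker ⟨x, hx⟩).1 fun a => by
      refine (S.mem_triv_iff (hnz ⟨x, hx⟩)).1 ⟨hnz ⟨x, hx⟩, fun u hu => ?_⟩ a
      rw [hU] at hu
      rw [hU₀]
      exact hfix u hu
    rw [hk] at this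
    exact ⟨_, this, rfl⟩
  · refine (hker e).1 fun a => (S.mem_triv_iff (hnz e)).1 ⟨hnz e, fun u hu => ?_⟩ a
    rw [hU] at hu
    rw [show ⁅(e : G), u⁆ = 1 from core_fix ⟨e, he, rfl⟩ hu]
    exact one_mem _

/-- A block with small quotient by its core. -/
def IsSmall (p : ℕ) (E : Subgroup G) : Prop := Nat.card (E ⧸ Cfsg.pCore p E) ≤ 24

theorem isSmall_or_quasisimple {T E : Subgroup G} (hE : Cfsg.IsBaumannBlock p T E) :
    IsSmall p E ∨
      (haveI := H1.pCore_normal' p E; Cfsg.IsQuasisimple (E ⧸ Cfsg.pCore p E)) := by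
  haveI := H1.pCore_normal' p E
  obtain ⟨-, -, -, -, hcase⟩ := hE
  rcases hcase with ⟨F, hFi, hFf, n, hcard, ⟨iso⟩, -, -⟩ | ⟨-, m, ⟨iso⟩, -, -⟩
  · by_cases hq : 4 ≤ Nat.card F
    · right
      have hsq : ∃ a : F, a ≠ 0 ∧ a ^ 2 ≠ 1 := by
        classical
        obtain ⟨a, -, ha⟩ := Finset.exists_mem_notMem_of_card_lt_card
          (s := ({0, 1, -1} : Finset F)) (t := Finset.univ) (by
            rw [Finset.card_univ, ← Nat.card_eq_fintype_card]
            have := Finset.card_le_three (a := (0 : F)) (b := 1) (c := -1)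
            omega)
        simp only [Finset.mem_insert, Finset.mem_singleton, not_or] at ha
        exact ⟨a, ha.1, fun h => (sq_eq_one_iff.mp h).elim ha.2.1 ha.2.2⟩
      let e : (E ⧸ Cfsg.pCore p E) ≃* SL(2, F) :=
        iso.trans ((MulEquiv.subgroupCongr
          (Cfsg.Agent.H9.commutator_SL_eq_top_of_square hsq)).trans Subgroup.topEquiv)
      exact Cfsg.Comp.isQuasisimple_of_equiv e.symm
        (Cfsg.Agent.H9.isQuasisimple_SL le_rfl (Or.inr hq))
    · left
      show Nat.card _ ≤ 24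
      rw [Nat.card_congr iso.toEquiv]
      refine (card_le_card_group _).trans ?_
      rw [H38.card_SL_two]
      rw [Nat.card_eq_fintype_card] at hq
      have h3 : Fintype.card F ≤ 3 := by omega
      calc Fintype.card F * (Fintype.card F ^ 2 - 1) ≤ 3 * (3 ^ 2 - 1) :=
            Nat.mul_le_mul h3 (Nat.sub_le_sub_right (Nat.pow_le_pow_left h3 2) 1)
        _ = 24 := rfl
  · rcases Nat.lt_or_ge m 2 with hm | hm
    · left
      show Nat.card _ ≤ 24
      rw [Nat.card_congr iso.toEquiv]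
      refine (card_le_card_group _).trans ?_
      rw [Nat.card_perm, Nat.card_fin]
      have : m = 0 ∨ m = 1 := by omega
      rcases this with rfl | rfl <;> decide
    · right
      exact Cfsg.Comp.isQuasisimple_of_equiv iso.symm
        (H77.Blocks.isQuasisimple_alternating (by rw [Fintype.card_fin]; omega))

end H78.Block
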