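import Cfsg.Agent.H78.BlockSmall
import Cfsg.Agent.H37.SL23

/-!
The finite models of the small blocks.
-/

set_option autoImplicit false
set_option linter.unusedSectionVars false

open Subgroup
open scoped MatrixGroups commutatorElement

namespace H78.Block

local notation "S2" => Matrix.SpecialLinearGroup (Fin 2) (ZMod 2)
local notation "S3" => Matrix.SpecialLinearGroup (Fin 2) (ZMod 3)

set_option maxRecDepth 100000 in
theorem s2_cube_comm : ∀ g h : S2, ⁅g, h⁆ ^ 3 = 1 := by decide +kernel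

set_option maxRecDepth 100000 in
theorem s2_cube_closed : ∀ g h : S2, g ^ 3 = 1 → h ^ 3 = 1 → (g * h) ^ 3 = 1 ∧ g * h = h * g := by
  decide +kernel

set_option maxRecDepth 100000 in
theorem s2_fix : ∀ s : S2, s ^ 3 = 1 → ∀ v : Fin 2 → ZMod 2, v ≠ 0 →
    (s : Matrix (Fin 2) (Fin 2) (ZMod 2)).mulVec v = v → s = 1 := by decide +kernel

set_option maxRecDepth 100000 in
theorem s2_trans : ∀ u v : Fin 2 → ZMod 2, u ≠ 0 → v ≠ 0 →
    ∃ g h : S2, ((⁅g, h⁆ : S2) : Matrix (Fin 2) (Fin 2) (ZMod 2)).mulVec u = v := by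
  decide +kernel

set_option maxRecDepth 100000 in
theorem s3_four_comm : ∀ g h : S3, ⁅g, h⁆ ^ 4 = 1 := by decide +kernel

set_option maxRecDepth 100000 in
theorem s3_facts : ∀ s : S3, s ^ 4 = 1 →
    s = 1 ∨ (s = -1 ∨ s * s = -1) ∧ ∀ v : Fin 2 → ZMod 3, v ≠ 0 →
      (s : Matrix (Fin 2) (Fin 2) (ZMod 3)).mulVec v ≠ v := by decide +kernel

set_option maxRecDepth 100000 in
theorem s3_trans : ∀ u v : Fin 2 → ZMod 3, u ≠ 0 → v ≠ 0 →
    ∃ g h : S3, ((⁅g, h⁆ : S3) : Matrix (Fin 2) (Fin 2) (ZMod 3)).mulVec u = v := by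
  decide +kernel

set_option maxRecDepth 100000 in
theorem s3_order4 : ∃ g h : S3, ⁅g, h⁆ * ⁅g, h⁆ = -1 := by decide +kernel

theorem commutator_le_cube {s : S2} (hs : s ∈ commutator S2) : s ^ 3 = 1 := by
  let K : Subgroup S2 :=
    { carrier := {g | g ^ 3 = 1}
      mul_mem' := fun {a b} ha hb => (s2_cube_closed a b ha hb).1
      one_mem' := one_pow 3
      inv_mem' := fun {a} (ha : a ^ 3 = 1) => show a⁻¹ ^ 3 = 1 by rw [inv_pow, ha, inv_one] }
  have : commutator S2 ≤ K := by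
    rw [_root_.commutator_def, commutator_le]
    exact fun g _ h _ => s2_cube_comm g h
  exact this hs

theorem commutator_le_sl23Q {s : S3} (hs : s ∈ commutator S3) : s ^ 4 = 1 := by
  have : commutator S3 ≤ H37.sl23Q := by
    rw [_root_.commutator_def, commutator_le]
    exact fun g _ h _ => s3_four_comm g h
  exact this hs

local notation "V3" => {v : Fin (2 * 1 + 1) → ZMod 2 // ∑ i, v i = 0}

set_option maxRecDepth 100000 in
theorem a3_facts : ∀ s : Equiv.Perm (Fin (2 * 1 + 1)), Equiv.Perm.sign s = 1 → s ^ 3 = 1 ∧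
    (s = 1 ∨ ∀ v : Fin (2 * 1 + 1) → ZMod 2, ∑ i, v i = 0 → v ≠ 0 → (fun i => v (s⁻¹ i)) ≠ v) ∧
    ∀ t : Equiv.Perm (Fin (2 * 1 + 1)), Equiv.Perm.sign t = 1 → s * t = t * s := by
  decide +kernel

set_option maxRecDepth 100000 in
theorem a3_trans : ∀ u : Fin (2 * 1 + 1) → ZMod 2, ∀ v : Fin (2 * 1 + 1) → ZMod 2,
    ∑ i, u i ≠ 0 ∨ ∑ i, v i ≠ 0 ∨ u = 0 ∨ v = 0 ∨ ∃ s : Equiv.Perm (Fin (2 * 1 + 1)),
      Equiv.Perm.sign s = 1 ∧ ∀ i, u (s⁻¹ i) = v i := by decide +kernel

theorem a3_trans' {u v : Fin (2 * 1 + 1) → ZMod 2} (hu : ∑ i, u i = 0) (hv : ∑ i, v i = 0)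
    (hu0 : u ≠ 0) (hv0 : v ≠ 0) : ∃ s : Equiv.Perm (Fin (2 * 1 + 1)),
      Equiv.Perm.sign s = 1 ∧ (fun i => u (s⁻¹ i)) = v := by
  rcases a3_trans u v with h | h | h | h | ⟨s, hs, h⟩
  · exact absurd hu h
  · exact absurd hv h
  · exact absurd h hu0
  · exact absurd h hv0
  · exact ⟨s, hs, funext h⟩

theorem two_vec_facts : (![1, 0] : Fin 2 → ZMod 2) ≠ 0 ∧ (![0, 1] : Fin 2 → ZMod 2) ≠ 0 ∧
    (![0, 1] : Fin 2 → ZMod 2) ≠ ![1, 0] := by decide

theorem three_vec_facts : -(![1, 0] : Fin 2 → ZMod 3) ≠ ![1, 0] := by decide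

theorem a3_vec_facts : ∑ i, (![1, 1, 0] : Fin (2 * 1 + 1) → ZMod 2) i = 0 ∧
    ∑ i, (![0, 1, 1] : Fin (2 * 1 + 1) → ZMod 2) i = 0 ∧
    (![1, 1, 0] : Fin (2 * 1 + 1) → ZMod 2) ≠ 0 ∧ (![0, 1, 1] : Fin (2 * 1 + 1) → ZMod 2) ≠ 0 ∧
    (![0, 1, 1] : Fin (2 * 1 + 1) → ZMod 2) ≠ ![1, 1, 0] := by decide

set_option maxRecDepth 100000 in
theorem a3_card : Fintype.card V3 = 4 := by decide +kernel

variable {G : Type*} [Group G] [Finite G]

theorem smallData_sl2_two [Fact (Nat.Prime 2)] {T : Sylow 2 G} {E : Subgroup G}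
    (hE : Cfsg.IsBaumannBlock 2 (T : Subgroup G) E)
    (h : Cfsg.ActsAsSL2OnSection (ZMod 2) (commutator S2) E
      (Cfsg.omegaOneCenter 2 (Cfsg.pCoreOf 2 E))
      (Cfsg.omegaOneCenter 2 (Cfsg.pCoreOf 2 E) ⊓ centralizer (E : Set G))) :
    SmallData 2 E := by
  obtain ⟨S, ρ, hU, hU₀, hr, hact⟩ :=
    exists_sec h (le_normalizer.trans (normalizer_E_le_normalizer_Z E))
  refine smallData_of_model hE sl2v S ρ hU hU₀ hact (Or.inl rfl)
    (by rw [Nat.card_fun, Nat.card_zmod, Nat.card_fin]) ?_ ?_ ?_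
    ⟨3, Nat.prime_three, ?_⟩ (fun h => absurd h (by norm_num))
  · intro s hs a ha hsa b
    rw [s2_fix s (commutator_le_cube (hr ▸ hs)) a ha hsa, sl2v_one]
  · intro a b ha hb
    obtain ⟨g, h, hgh⟩ := s2_trans a b ha hb
    exact ⟨⁅g, h⁆, hr ▸ commutator_elem_mem g h, hgh⟩
  · obtain ⟨g, h, hgh⟩ := s2_trans ![1, 0] ![0, 1] two_vec_facts.1 two_vec_facts.2.1
    refine ⟨⁅g, h⁆, hr ▸ commutator_elem_mem g h, 3, by norm_num, s2_cube_comm g h,
      ⟨![1, 0], fun hfix => ?_⟩, fun t ht => ?_⟩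
    · rw [sl2v, hgh] at hfix
      exact two_vec_facts.2.2 hfix
    · exact (s2_cube_closed _ t (s2_cube_comm g h) (commutator_le_cube (hr ▸ ht))).2
  · intro s hs
    have h3 := commutator_le_cube (s := s) (hr ▸ hs)
    show s ^ 9 = 1
    rw [show (9 : ℕ) = 3 * 3 from rfl, pow_mul, h3, one_pow]

theorem sl2v_neg_one {F : Type*} [Field F] (v : Fin 2 → F) : sl2v (-1 : SL(2, F)) v = -v := by
  simp [sl2v, Matrix.SpecialLinearGroup.coe_neg, Matrix.neg_mulVec]

theorem smallData_sl2_three [Fact (Nat.Prime 3)] {T : Sylow 3 G} {E : Subgroup G}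
    (hE : Cfsg.IsBaumannBlock 3 (T : Subgroup G) E)
    (h : Cfsg.ActsAsSL2OnSection (ZMod 3) (commutator S3) E
      (Cfsg.omegaOneCenter 3 (Cfsg.pCoreOf 3 E))
      (Cfsg.omegaOneCenter 3 (Cfsg.pCoreOf 3 E) ⊓ centralizer (E : Set G))) :
    SmallData 3 E := by
  obtain ⟨S, ρ, hU, hU₀, hr, hact⟩ :=
    exists_sec h (le_normalizer.trans (normalizer_E_le_normalizer_Z E))
  obtain ⟨g, h, hgh⟩ := s3_order4
  refine smallData_of_model hE sl2v S ρ hU hU₀ hact (Or.inr rfl)
    (by rw [Nat.card_fun, Nat.card_zmod, Nat.card_fin]) ?_ ?_ ?_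
    ⟨2, Nat.prime_two, ?_⟩ (fun _ => ⟨?_, ⁅g, h⁆, hr ▸ commutator_elem_mem g h, fun a => by
      rw [hgh, sl2v_neg_one]⟩)
  · intro s hs a ha hsa b
    rcases s3_facts s (commutator_le_sl23Q (hr ▸ hs)) with h | h
    · rw [h, sl2v_one]
    · exact absurd hsa (h.2 a ha)
  · intro a b ha hb
    obtain ⟨g, h, hgh⟩ := s3_trans a b ha hb
    exact ⟨⁅g, h⁆, hr ▸ commutator_elem_mem g h, hgh⟩
  · refine ⟨-1, hr ▸ hgh ▸ mul_mem (commutator_elem_mem g h) (commutator_elem_mem g h), 2,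
      by norm_num, by simp, ⟨![1, 0], ?_⟩, fun t _ => by simp⟩
    rw [sl2v_neg_one]
    exact three_vec_facts
  · intro s hs
    show s ^ 4 = 1
    exact commutator_le_sl23Q (hr ▸ hs)
  · intro s hs
    rcases s3_facts s (commutator_le_sl23Q (hr ▸ hs)) with h | ⟨h | h, -⟩
    · exact Or.inl fun a => by rw [h, sl2v_one]
    · exact Or.inr (Or.inl fun a => by rw [h, sl2v_neg_one])
    · exact Or.inr (Or.inr fun a => by rw [h, sl2v_neg_one])

theorem smallData_a3 [Fact (Nat.Prime 2)] {T : Sylow 2 G} {E : Subgroup G}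
    (hE : Cfsg.IsBaumannBlock 2 (T : Subgroup G) E)
    (h : Cfsg.ActsAsOddPermModuleOnSection (2 * 1 + 1) (alternatingGroup (Fin (2 * 1 + 1))) E
      (Cfsg.omegaOneCenter 2 (Cfsg.pCoreOf 2 E))
      (Cfsg.omegaOneCenter 2 (Cfsg.pCoreOf 2 E) ⊓ centralizer (E : Set G))) :
    SmallData 2 E := by
  obtain ⟨S, ρ, hU, hU₀, hr, hact⟩ :=
    exists_sec_alt h (le_normalizer.trans (normalizer_E_le_normalizer_Z E))
  have hsign : ∀ {s : Equiv.Perm (Fin (2 * 1 + 1))}, s ∈ ρ.range ↔ Equiv.Perm.sign s = 1 :=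
    fun {s} => by rw [hr, Equiv.Perm.mem_alternatingGroup]
  let act0 : Equiv.Perm (Fin (2 * 1 + 1)) → evenVec (2 * 1 + 1) → evenVec (2 * 1 + 1) := fun s v =>
    ⟨fun i => (v : Fin (2 * 1 + 1) → ZMod 2) (s⁻¹ i), by
      show ∑ i, (v : Fin (2 * 1 + 1) → ZMod 2) (s⁻¹ i) = 0
      rw [Equiv.sum_comp s⁻¹ (v : Fin (2 * 1 + 1) → ZMod 2)]
      exact v.2⟩
  obtain ⟨s, hs, hst⟩ := a3_trans' a3_vec_facts.1 a3_vec_facts.2.1 a3_vec_facts.2.2.1
    a3_vec_facts.2.2.2.1
  refine smallData_of_model hE act0 S ρ hU hU₀ (fun e a => Subtype.ext (funext (hact e a)))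
    (Or.inl rfl) (by rw [show evenVec (2 * 1 + 1) = evenVec (2 * 1 + 1) from rfl,
      show Nat.card (evenVec (2 * 1 + 1)) = Nat.card V3 from rfl, Nat.card_eq_fintype_card, a3_card]; rfl)
    ?_ ?_ ?_ ⟨3, Nat.prime_three, ?_⟩ (fun h => absurd h (by norm_num))
  · intro t ht a ha hta b
    rcases (a3_facts t (hsign.1 ht)).2.1 with h | h
    · exact Subtype.ext (funext fun i => by simp [act0, h])
    · exact absurd (congrArg Subtype.val hta) (h a a.2 fun h0 => ha (Subtype.ext h0))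
  · intro a b ha hb
    obtain ⟨t, ht, htab⟩ := a3_trans' a.2 b.2 (fun h0 => ha (Subtype.ext h0))
      fun h0 => hb (Subtype.ext h0)
    exact ⟨t, hsign.2 ht, Subtype.ext htab⟩
  · refine ⟨s, hsign.2 hs, 3, by norm_num, (a3_facts s hs).1, ⟨⟨![1, 1, 0], a3_vec_facts.1⟩, fun hc => ?_⟩,
      fun t ht => (a3_facts s hs).2.2 t (hsign.1 ht)⟩
    exact a3_vec_facts.2.2.2.2 (hst.symm.trans (congrArg Subtype.val hc))
  · intro t ht
    show t ^ 9 = 1
    rw [show (9 : ℕ) = 3 * 3 from rfl, pow_mul, (a3_facts t (hsign.1 ht)).1, one_pow]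

/-- Changing the field along an isomorphism. -/
theorem acts_map_field {F K : Type*} [Field F] [Field K] (σ : F ≃+* K) {E U U₀ : Subgroup G}
    (h : Cfsg.ActsAsSL2OnSection F (commutator SL(2, F)) E U U₀) :
    Cfsg.ActsAsSL2OnSection K (commutator SL(2, K)) E U U₀ := by
  obtain ⟨hEU, hle, ρ, ψ, hρ, hψ, hker, hact⟩ := h
  let m : SL(2, F) →* SL(2, K) := Matrix.SpecialLinearGroup.map σ.toRingHom
  have hm : Function.Surjective m := fun g => ⟨Matrix.SpecialLinearGroup.map σ.symm.toRingHom g, by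
    ext i j
    simp [m]⟩
  let τ : Multiplicative (Fin 2 → F) →* Multiplicative (Fin 2 → K) :=
    AddMonoidHom.toMultiplicative (AddMonoidHom.mk' (fun v => σ ∘ v) fun a b => funext fun i => by simp)
  have hτ : ∀ x, Multiplicative.toAdd (τ x) = σ ∘ Multiplicative.toAdd x := fun x => rfl
  refine ⟨hEU, hle, m.comp ρ, τ.comp ψ, ?_, ?_, fun u => ?_, fun e u => ?_⟩
  · rw [MonoidHom.range_comp, hρ, _root_.commutator_def, map_commutator,
      ← MonoidHom.range_eq_map, MonoidHom.range_eq_top.2 hm, _root_.commutator_def]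
  · intro v
    obtain ⟨u, hu⟩ := hψ (Multiplicative.ofAdd (σ.symm ∘ Multiplicative.toAdd v))
    refine ⟨u, Multiplicative.toAdd.injective (funext fun i => ?_)⟩
    simp [hτ, hu]
  · rw [← hker u, MonoidHom.comp_apply]
    refine ⟨fun h => Multiplicative.toAdd.injective (funext fun i => σ.injective ?_), fun h => by rw [h, map_one]⟩
    have := congrFun ((hτ _).symm.trans (congrArg Multiplicative.toAdd h)) i
    simpa using this
  · obtain ⟨w, hw, hwe⟩ := hact e u
    refine ⟨w, hw, funext fun i => ?_⟩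
    simp only [MonoidHom.comp_apply, hτ, hwe, Function.comp_apply]
    exact σ.toRingHom.map_mulVec _ _ i

theorem two_or_three_of_card {q : ℕ} (hq : q ≤ 3) (hq1 : 1 < q) {p n : ℕ} (hp : p.Prime)
    (h : q = p ^ n) : q = p ∧ (p = 2 ∨ p = 3) := by
  have hn : n = 1 := by
    rcases n with _ | _ | k
    · simp at h; omega
    · rfl
    · have : 4 ≤ p ^ (k + 2) := (Nat.pow_le_pow_left hp.two_le 2).trans
        (Nat.pow_le_pow_right hp.pos (by omega))
      rw [show k + 1 + 1 = k + 2 from rfl] at h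
      omega
  subst hn
  rw [pow_one] at h
  have := hp.two_le
  omega

/-- A small block has `SmallData`. -/
theorem smallData_of_isSmall {p : ℕ} [Fact p.Prime] {T : Sylow p G} {E : Subgroup G}
    (hE : Cfsg.IsBaumannBlock p (T : Subgroup G) E) (hs : IsSmall p E) : SmallData p E := by
  have hf := facts_of_block hE
  have hE' := hE
  obtain ⟨-, -, -, -, hcase⟩ := hE'
  rcases hcase with ⟨F, hFi, hFf, n, hcard, ⟨iso⟩, hWs, -⟩ | ⟨rfl, m, ⟨iso⟩, hWs, -⟩
  · have hs' : Nat.card (commutator SL(2, F)) ≤ 24 := Nat.card_congr iso.toEquiv ▸ hs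
    have hq : Fintype.card F ≤ 3 := by
      by_contra hq
      push Not at hq
      classical
      obtain ⟨a, -, ha⟩ := Finset.exists_mem_notMem_of_card_lt_card
        (s := ({0, 1, -1} : Finset F)) (t := Finset.univ) (by
          rw [Finset.card_univ]
          have := Finset.card_le_three (a := (0 : F)) (b := 1) (c := -1)
          omega)
      simp only [Finset.mem_insert, Finset.mem_singleton, not_or] at ha
      rw [Cfsg.Agent.H9.commutator_SL_eq_top_of_square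
        ⟨a, ha.1, fun h => (sq_eq_one_iff.mp h).elim ha.2.1 ha.2.2⟩,
        Subgroup.card_top, H38.card_SL_two] at hs'
      have h1 : 4 * (4 ^ 2 - 1) ≤ Fintype.card F * (Fintype.card F ^ 2 - 1) :=
        Nat.mul_le_mul hq (Nat.sub_le_sub_right (Nat.pow_le_pow_left hq 2) 1)
      omega
    obtain ⟨hqp, hp⟩ := two_or_three_of_card hq Fintype.one_lt_card Fact.out hcard
    have h' := acts_map_field (ZMod.ringEquivOfPrime F Fact.out hqp).symm hWs
    rcases hp with rfl | rfl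
    · exact smallData_sl2_two hE h'
    · exact smallData_sl2_three hE h'
  · have hm : m = 1 := by
      have hs' : Nat.card (alternatingGroup (Fin (2 * m + 1))) ≤ 24 := Nat.card_congr iso.toEquiv ▸ hs
      rcases Nat.lt_or_ge m 2 with h | h
      · refine (Nat.eq_zero_or_pos m).elim (fun h0 => ?_) (fun h1 => by omega)
        subst h0
        exact absurd hWs fun hWs => by
          refine hf.irrW.nontriv ?_
          obtain ⟨-, -, -, ψ, -, heven, -, hker, -⟩ := hWs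
          have hall : ∀ u : (Cfsg.omegaOneCenter 2 (Cfsg.pCoreOf 2 E) : Subgroup G),
              (u : G) ∈ Cfsg.omegaOneCenter 2 (Cfsg.pCoreOf 2 E) ⊓ centralizer (E : Set G) := fun u =>
            (hker u).1 (Multiplicative.toAdd.injective (funext fun i => by
              have := heven u
              rw [Fintype.sum_eq_single i (fun j hj => absurd (Subsingleton.elim (α := Fin 1) j i) hj)] at this
              exact this))
          exact (H1.commutator_le_left_of_le_normalizer hf.irrW.norm).trans fun w hw => hall ⟨w, hw⟩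
      · exfalso
        have h5 : 5 ≤ 2 * m + 1 := by omega
        haveI : Nontrivial (Fin (2 * m + 1)) := Fin.nontrivial_iff_two_le.2 (by omega)
        have h2 := two_mul_nat_card_alternatingGroup (α := Fin (2 * m + 1))
        rw [Nat.card_perm, Nat.card_fin] at h2
        have := Nat.factorial_le h5
        rw [show (5 : ℕ).factorial = 120 from rfl] at this
        omega
    subst hm
    exact smallData_a3 hE hWs

end H78.Block
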