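import Cfsg.Agent.H78.BlockPair
import Cfsg.Agent.H75.FStar
import Cfsg.Agent.H3.SubnormalJoin

/-!
Fixed points in `W_E` outside `C(E)`, by averaging over a Sylow subgroup of the block.
-/

set_option autoImplicit false
set_option linter.unusedSectionVars false

open Subgroup
open scoped commutatorElement

namespace H78.Block

variable {G : Type*} [Group G] [Finite G] {p : ℕ} [Fact p.Prime]

theorem omega_pCore_conj (g : G) {v : G} (hv : v ∈ Cfsg.omegaOneCenter p (Cfsg.pCore p G)) :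
    g * v * g⁻¹ ∈ Cfsg.omegaOneCenter p (Cfsg.pCore p G) := by
  have := H1.pCore_normal' p G
  exact H75.conj_mem_of_mem_normalizer (normalizer_le_normalizer_omegaOneCenter _
    (by rw [normalizer_eq_top]; trivial)) hv

theorem omega_pCore_comm {a b : G} (ha : a ∈ Cfsg.omegaOneCenter p (Cfsg.pCore p G))
    (hb : b ∈ Cfsg.omegaOneCenter p (Cfsg.pCore p G)) : Commute a b :=
  (mem_omegaOneCenter.1 hb).1.2 _ (mem_omegaOneCenter.1 ha).1.1

theorem omega_pCore_isPGroup : IsPGroup p (Cfsg.omegaOneCenter p (Cfsg.pCore p G) : Subgroup G) :=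
  (H1.isPGroup_pCore p G).to_le fun _ hy => (mem_omegaOneCenter.1 hy).1.1

/-- `⁅Ω₁(Z(O_p(G))), E⁆ ≤ W_E`. -/
theorem commutator_omega_le {T : Sylow p G} {E : Subgroup G}
    (hE : Cfsg.IsBaumannBlock p (T : Subgroup G) E) :
    ⁅Cfsg.omegaOneCenter p (Cfsg.pCore p G), E⁆ ≤ modE p E := by
  have hf := facts_of_block hE
  refine H74.PRed.commutator_le_of_closure hf.res.symm
    (le_normalizer.trans (normalizer_E_le_normalizer_modE E)) fun v hv x hx => ?_
  rw [← commutatorElement_inv]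
  refine inv_mem ?_
  have hcV : ⁅x, v⁆ ∈ Cfsg.omegaOneCenter p (Cfsg.pCore p G) :=
    mul_mem (omega_pCore_conj x hv) (inv_mem hv)
  have hcE : ⁅x, v⁆ ∈ E := by
    rw [commutatorElement_def, mul_assoc, mul_assoc, ← mul_assoc v]
    exact mul_mem hx.1 (H75.conj_mem_of_mem_normalizer
      (pCore_le_normalizer hE (mem_omegaOneCenter.1 hv).1.1) (inv_mem hx.1))
  have hcW := inf_omega_le hf ⟨hcE, hcV⟩
  refine mem_of_coprime_step omega_pCore_isPGroup hx.2 hcV ?_
    (normalizer_E_le_normalizer_modE E (le_normalizer hx.1))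
    (normalizer_E_le_normalizer_modE E (le_normalizer hcE))
  rw [← commutatorElement_inv]
  exact inv_mem (commutator_mem_commutator hcW hx.1)

/-- `Ω₁(Z(O_p(G)))` as a commutative group. -/
noncomputable abbrev omegaCommGroup :
    CommGroup (Cfsg.omegaOneCenter p (Cfsg.pCore p G) : Subgroup G) :=
  { (inferInstance : Group (Cfsg.omegaOneCenter p (Cfsg.pCore p G) : Subgroup G)) with
    mul_comm := fun a b => Subtype.ext (omega_pCore_comm a.2 b.2).eq }

attribute [local instance] omegaCommGroup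

section Transfer

variable (p) (E S : Subgroup G)

/-- The product of the conjugates of `v` over coset representatives of `S` in `E`. -/
noncomputable def avg (v : G) : G :=
  letI : Fintype (E ⧸ S.subgroupOf E) := Fintype.ofFinite _
  open scoped Classical in
  if h : v ∈ Cfsg.omegaOneCenter p (Cfsg.pCore p G) then
    Subtype.val (∏ q : E ⧸ S.subgroupOf E,
      (⟨(q.out : G) * v * (q.out : G)⁻¹, omega_pCore_conj _ h⟩ :
        (Cfsg.omegaOneCenter p (Cfsg.pCore p G) : Subgroup G)))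
  else 1

variable {p} {E S}

theorem out_conj_eq {v : G} (hv : v ∈ centralizer (S : Set G)) {e : E} :
    ((QuotientGroup.mk e : E ⧸ S.subgroupOf E).out : G) * v *
      ((QuotientGroup.mk e : E ⧸ S.subgroupOf E).out : G)⁻¹ = (e : G) * v * (e : G)⁻¹ := by
  obtain ⟨s, hs⟩ := QuotientGroup.mk_out_eq_mul (S.subgroupOf E) e
  rw [hs]
  have h1 : ((s : E) : G) * v = v * ((s : E) : G) := hv _ (mem_subgroupOf.1 s.2)
  rw [Subgroup.coe_mul, _root_.mul_inv_rev,
    show (e : G) * ((s : E) : G) * v * (((s : E) : G)⁻¹ * (e : G)⁻¹) =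
      (e : G) * (((s : E) : G) * v * ((s : E) : G)⁻¹) * (e : G)⁻¹ by group,
    h1, mul_inv_cancel_right]

theorem avg_mem (v : G) : avg p E S v ∈ Cfsg.omegaOneCenter p (Cfsg.pCore p G) := by
  unfold avg
  split
  · exact SetLike.coe_mem _
  · exact one_mem _

theorem avg_mul {v w : G} (hv : v ∈ Cfsg.omegaOneCenter p (Cfsg.pCore p G))
    (hw : w ∈ Cfsg.omegaOneCenter p (Cfsg.pCore p G)) :
    avg p E S (v * w) = avg p E S v * avg p E S w := by
  unfold avg
  rw [dif_pos hv, dif_pos hw, dif_pos (mul_mem hv hw), ← Subgroup.coe_mul, ← Finset.prod_mul_distrib]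
  congr 1
  refine Finset.prod_congr rfl fun q _ => Subtype.ext ?_
  simp [mul_assoc]

theorem avg_one : avg p E S (1 : G) = 1 := by
  have := avg_mul (E := E) (S := S) (one_mem (Cfsg.omegaOneCenter p (Cfsg.pCore p G))) (one_mem _)
  rw [mul_one] at this
  exact mul_left_cancel (a := avg p E S 1) (by rw [mul_one]; exact this.symm)

theorem avg_pow {v : G} (hv : v ∈ Cfsg.omegaOneCenter p (Cfsg.pCore p G)) (n : ℕ) :
    avg p E S (v ^ n) = avg p E S v ^ n := by
  induction n with
  | zero => rw [pow_zero, pow_zero, avg_one]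
  | succ n ih => rw [pow_succ, pow_succ, avg_mul (pow_mem hv n) hv, ih]

theorem avg_inv {v : G} (hv : v ∈ Cfsg.omegaOneCenter p (Cfsg.pCore p G)) :
    avg p E S v⁻¹ = (avg p E S v)⁻¹ := by
  refine eq_inv_of_mul_eq_one_left ?_
  rw [← avg_mul (inv_mem hv) hv, inv_mul_cancel, avg_one]

/-- Elements fixed by `E`. -/
theorem avg_of_fixed {v : G} (hv : v ∈ Cfsg.omegaOneCenter p (Cfsg.pCore p G))
    (hE : v ∈ centralizer (E : Set G)) : avg p E S v = v ^ (S.subgroupOf E).index := by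
  letI : Fintype (E ⧸ S.subgroupOf E) := Fintype.ofFinite _
  unfold avg
  rw [dif_pos hv, Finset.prod_congr rfl (fun q _ => (Subtype.ext
    (mul_inv_eq_iff_eq_mul.2 (hE _ (SetLike.coe_mem q.out))) :
    (⟨(q.out : G) * v * (q.out : G)⁻¹, omega_pCore_conj _ hv⟩ :
      (Cfsg.omegaOneCenter p (Cfsg.pCore p G) : Subgroup G)) = ⟨v, hv⟩)), Finset.prod_const,
    Finset.card_univ, ← Nat.card_eq_fintype_card]
  rfl

/-- The average commutes with `E`. -/
theorem avg_centralizer {v : G} (hv : v ∈ Cfsg.omegaOneCenter p (Cfsg.pCore p G))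
    (hS : v ∈ centralizer (S : Set G)) : avg p E S v ∈ centralizer (E : Set G) := by
  intro e he
  letI : Fintype (E ⧸ S.subgroupOf E) := Fintype.ofFinite _
  let c : (Cfsg.omegaOneCenter p (Cfsg.pCore p G) : Subgroup G) →*
      (Cfsg.omegaOneCenter p (Cfsg.pCore p G) : Subgroup G) :=
    { toFun := fun x => ⟨e * x * e⁻¹, omega_pCore_conj _ x.2⟩
      map_one' := Subtype.ext (by simp)
      map_mul' := fun x y => Subtype.ext (by simp [mul_assoc]) }
  have key : e * avg p E S v * e⁻¹ = avg p E S v := by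
    unfold avg
    rw [dif_pos hv]
    show ((c (∏ q : E ⧸ S.subgroupOf E, _) : (Cfsg.omegaOneCenter p (Cfsg.pCore p G) : Subgroup G)) : G) = _
    rw [map_prod]
    congr 1
    refine Fintype.prod_equiv (MulAction.toPerm (⟨e, he⟩ : E)) _ _ fun q => Subtype.ext ?_
    show e * ((q.out : G) * v * (q.out : G)⁻¹) * e⁻¹ =
      ((((⟨e, he⟩ : E) • q).out : E) : G) * v * ((((⟨e, he⟩ : E) • q).out : E) : G)⁻¹
    conv_rhs => rw [← QuotientGroup.out_eq' q, MulAction.Quotient.smul_mk, out_conj_eq hS]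
    simp [mul_assoc]
  exact mul_inv_eq_iff_eq_mul.1 key

/-- Equivariance under elements normalising `E` and `S`. -/
theorem avg_conj {v r : G} (hv : v ∈ Cfsg.omegaOneCenter p (Cfsg.pCore p G))
    (hS : v ∈ centralizer (S : Set G)) (hrE : r ∈ normalizer (E : Set G))
    (hrS : r ∈ normalizer (S : Set G)) : avg p E S (r * v * r⁻¹) = r * avg p E S v * r⁻¹ := by
  letI : Fintype (E ⧸ S.subgroupOf E) := Fintype.ofFinite _
  let c : (Cfsg.omegaOneCenter p (Cfsg.pCore p G) : Subgroup G) →*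
      (Cfsg.omegaOneCenter p (Cfsg.pCore p G) : Subgroup G) :=
    { toFun := fun x => ⟨r * x * r⁻¹, omega_pCore_conj _ x.2⟩
      map_one' := Subtype.ext (by simp)
      map_mul' := fun x y => Subtype.ext (by simp [mul_assoc]) }
  have hrv : r * v * r⁻¹ ∈ Cfsg.omegaOneCenter p (Cfsg.pCore p G) := omega_pCore_conj r hv
  have hrvS : r * v * r⁻¹ ∈ centralizer (S : Set G) :=
    H75.conj_mem_of_mem_normalizer (H75.normalizer_le_normalizer_centralizer _ hrS) hS
  unfold avg
  rw [dif_pos hv, dif_pos hrv]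
  show _ = ((c (∏ q : E ⧸ S.subgroupOf E, _) : (Cfsg.omegaOneCenter p (Cfsg.pCore p G) : Subgroup G)) : G)
  rw [map_prod]
  congr 1
  let σ : E ⧸ S.subgroupOf E → E ⧸ S.subgroupOf E := fun q =>
    QuotientGroup.mk (⟨r * (q.out : G) * r⁻¹, H75.conj_mem_of_mem_normalizer hrE q.out.2⟩ : E)
  have hσ : Function.Injective σ := by
    intro q q' h
    rw [← QuotientGroup.out_eq' q, ← QuotientGroup.out_eq' q', QuotientGroup.eq]
    have h' := mem_subgroupOf.1 (QuotientGroup.eq.1 h)
    refine mem_subgroupOf.2 ?_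
    have := H75.conj'_mem_of_mem_normalizer hrS h'
    simpa [mul_assoc] using this
  symm
  refine Fintype.prod_bijective σ (Finite.injective_iff_bijective.1 hσ) _ _ fun q => Subtype.ext ?_
  show r * ((q.out : G) * v * (q.out : G)⁻¹) * r⁻¹ = ((σ q).out : G) * (r * v * r⁻¹) * ((σ q).out : G)⁻¹
  rw [show σ q = QuotientGroup.mk _ from rfl, out_conj_eq hrvS]
  simp [mul_assoc]

/-- `avg v ≡ v ^ |E : S|` modulo a subgroup containing all `⁅e, v⁆`. -/
theorem avg_pow_mem {v : G} (hv : v ∈ Cfsg.omegaOneCenter p (Cfsg.pCore p G)) {U : Subgroup G}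
    (hU : ∀ e ∈ E, ⁅e, v⁆ ∈ U) : avg p E S v * (v ^ (S.subgroupOf E).index)⁻¹ ∈ U := by
  letI : Fintype (E ⧸ S.subgroupOf E) := Fintype.ofFinite _
  unfold avg
  rw [dif_pos hv]
  have h1 : v ^ (S.subgroupOf E).index = Subtype.val
      (∏ _q : E ⧸ S.subgroupOf E, (⟨v, hv⟩ : (Cfsg.omegaOneCenter p (Cfsg.pCore p G) : Subgroup G))) := by
    rw [Finset.prod_const, Finset.card_univ, ← Nat.card_eq_fintype_card]
    rfl
  rw [h1, ← Subgroup.coe_inv, ← Subgroup.coe_mul, ← Finset.prod_inv_distrib, ← Finset.prod_mul_distrib]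
  refine Finset.prod_induction _
    (fun x : (Cfsg.omegaOneCenter p (Cfsg.pCore p G) : Subgroup G) => (x : G) ∈ U)
    (fun a b ha hb => U.mul_mem ha hb) U.one_mem fun q _ => ?_
  exact hU _ q.out.2

end Transfer

/-- A Sylow subgroup of `G` meets a subnormal subgroup in a Sylow subgroup. -/
theorem exists_conj_inf_eq (T T' : Sylow p G) {E : Subgroup G} (hEs : E.IsSubnormal) :
    ∃ e ∈ E, (E ⊓ (T : Subgroup G)).map (MulAut.conj e).toMonoidHom = E ⊓ (T' : Subgroup G) := by
  obtain ⟨Q, hQ⟩ := H3.subnormal_inf_sylow hEs T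
  obtain ⟨Q', hQ'⟩ := H3.subnormal_inf_sylow hEs T'
  obtain ⟨e, he⟩ := MulAction.exists_smul_eq E Q Q'
  refine ⟨e, e.2, ?_⟩
  have h1 : (Q : Subgroup E).map (MulAut.conj e).toMonoidHom = (Q' : Subgroup E) :=
    congrArg (fun S : Sylow p E => (S : Subgroup E)) he
  have h2 := congrArg (Subgroup.map E.subtype) h1
  rw [hQ', subgroupOf_map_subtype, Subgroup.map_map] at h2
  rw [inf_comm E (T' : Subgroup G), ← h2, hQ, inf_comm E (T : Subgroup G), ← subgroupOf_map_subtype,
    Subgroup.map_map]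
  rfl

/-- The elements of `Ω₁(Z(O_p(G)))` fixed by `S` with trivial average lie in `W_E`. -/
theorem mem_modE_of_avg {T : Sylow p G} {E : Subgroup G}
    (hE : Cfsg.IsBaumannBlock p (T : Subgroup G) E) {S : Subgroup G}
    (hn : ¬ p ∣ (S.subgroupOf E).index) {v : G}
    (hv : v ∈ Cfsg.omegaOneCenter p (Cfsg.pCore p G)) (hav : avg p E S v = 1) :
    v ∈ modE p E := by
  have h := avg_pow_mem (S := S) hv (U := modE p E) fun e he => by
    rw [← commutatorElement_inv]
    exact inv_mem (commutator_omega_le hE (commutator_mem_commutator hv he))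
  rw [hav, one_mul, inv_mem_iff] at h
  refine H74.PRed.mem_of_pow_pow ?_ h
    (by rw [(mem_omegaOneCenter.1 hv).2]; exact one_mem _ : v ^ p ∈ modE p E)
  exact ((Fact.out : p.Prime).coprime_iff_not_dvd.2 hn).symm

/-- **A fixed point of `N_{T'}(E)` in `W_E` outside `C(E)`.** -/
theorem exists_fixed {T : Sylow p G} {E : Subgroup G}
    (hG : centralizer (Cfsg.pCore p G : Set G) ≤ Cfsg.pCore p G)
    (hE : Cfsg.IsBaumannBlock p (T : Subgroup G) E) (hEs : E.IsSubnormal) (T' : Sylow p G) :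
    ∃ x ∈ modE p E, x ∉ centralizer (E : Set G) ∧
      x ∈ centralizer (((T' : Subgroup G) ⊓ normalizer (E : Set G) : Subgroup G) : Set G) := by
  have hf := facts_of_block hE
  set V := Cfsg.omegaOneCenter p (Cfsg.pCore p G) with hV
  -- an element of `Ω₁(Z(T))` not centralised by `E`
  obtain ⟨z, hz, hzE⟩ : ∃ z ∈ Cfsg.omegaOneCenter p (T : Subgroup G), z ∉ centralizer (E : Set G) := by
    by_contra h
    push Not at h
    refine hf.omega ?_
    rw [commutator_comm, commutator_eq_bot_iff_le_centralizer]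
    exact h
  obtain ⟨⟨hzT, hzC⟩, hzp⟩ := mem_omegaOneCenter.1 hz
  have hz0 : z ∈ centralizer (Cfsg.pCore p G : Set G) := fun y hy => hzC y (H1.pCore_le_sylow T hy)
  have hzV : z ∈ V := mem_omegaOneCenter.2 ⟨⟨hG hz0, hz0⟩, hzp⟩
  obtain ⟨e, he, heq⟩ := exists_conj_inf_eq T T' hEs
  set S := E ⊓ (T' : Subgroup G) with hS
  set z' := e * z * e⁻¹ with hz'
  have hz'V : z' ∈ V := omega_pCore_conj e hzV
  have hz'E : z' ∉ centralizer (E : Set G) := fun h => hzE fun x hx => by
    have := h _ (mul_mem (mul_mem he hx) (inv_mem he))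
    calc x * z = e⁻¹ * (e * x * e⁻¹ * z') * e := by rw [hz']; group
      _ = e⁻¹ * (z' * (e * x * e⁻¹)) * e := by rw [this]
      _ = _ := by rw [hz']; group
  have hz'S : z' ∈ centralizer (S : Set G) := by
    intro s hs
    replace hs : s ∈ (E ⊓ (T : Subgroup G)).map (MulAut.conj e).toMonoidHom := heq.ge hs
    obtain ⟨t, ht, rfl⟩ := hs
    show e * t * e⁻¹ * z' = z' * (e * t * e⁻¹)
    calc e * t * e⁻¹ * z' = e * (t * z) * e⁻¹ := by rw [hz']; group
      _ = e * (z * t) * e⁻¹ := by rw [hzC t ht.2]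
      _ = _ := by rw [hz']; group
  set n := (S.subgroupOf E).index with hn'
  have hn : ¬ p ∣ n := by
    obtain ⟨Q, hQ⟩ := H3.subnormal_inf_sylow hEs T'
    have : S.subgroupOf E = (Q : Subgroup E) := by
      rw [hQ, hS, inf_comm, inf_subgroupOf_right]
    rw [hn', this]
    exact Q.not_dvd_index
  -- the elements with trivial average
  let X : Subgroup G :=
    { carrier := {v | v ∈ V ∧ v ∈ centralizer (S : Set G) ∧ avg p E S v = 1}
      one_mem' := ⟨one_mem _, one_mem _, avg_one⟩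
      mul_mem' := fun {a b} ha hb => ⟨mul_mem ha.1 hb.1, mul_mem ha.2.1 hb.2.1, by
        rw [avg_mul ha.1 hb.1, ha.2.2, hb.2.2, one_mul]⟩
      inv_mem' := fun {a} ha => ⟨inv_mem ha.1, inv_mem ha.2.1, by
        rw [avg_inv ha.1, ha.2.2, inv_one]⟩ }
  set R := (T' : Subgroup G) ⊓ normalizer (E : Set G) with hR
  have hRS : R ≤ normalizer (S : Set G) :=
    (le_inf inf_le_right (inf_le_left.trans le_normalizer)).trans
      (H75.normalizer_inf_le_normalizer_inf _ _)
  have hRX : R ≤ normalizer (X : Set G) := by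
    rw [le_normalizer_iff]
    rintro r hr v ⟨hvV, hvS, hva⟩
    exact ⟨omega_pCore_conj r hvV,
      H75.conj_mem_of_mem_normalizer (H75.normalizer_le_normalizer_centralizer _ (hRS hr)) hvS,
      by rw [avg_conj hvV hvS hr.2 (hRS hr), hva, mul_one, mul_inv_cancel]⟩
  have hcop : n.Coprime p := ((Fact.out : p.Prime).coprime_iff_not_dvd.2 hn).symm
  have hX1 : X ≠ ⊥ := by
    intro hb
    refine hz'E ?_
    set t := avg p E S z' with ht
    have htV : t ∈ V := avg_mem z'
    have htE : t ∈ centralizer (E : Set G) := avg_centralizer hz'V hz'S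
    have hmem : z' ^ n * t⁻¹ ∈ X := ⟨mul_mem (pow_mem hz'V n) (inv_mem htV),
      mul_mem (pow_mem hz'S n) (inv_mem (centralizer_le (SetLike.coe_subset_coe.2 inf_le_left) htE)),
      by rw [avg_mul (pow_mem hz'V n) (inv_mem htV), avg_pow hz'V, avg_inv htV,
        avg_of_fixed htV htE, ← hn', mul_inv_cancel]⟩
    rw [hb, mem_bot, mul_inv_eq_one] at hmem
    refine H74.PRed.mem_of_pow_pow hcop (hmem ▸ htE) ?_
    rw [(mem_omegaOneCenter.1 hz'V).2]
    exact one_mem _
  obtain ⟨⟨x, hx⟩, hx1⟩ := Subgroup.ne_bot_iff_exists_ne_one.1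
    (H75.inf_centralizer_ne_bot (omega_pCore_isPGroup.to_le fun y (hy : y ∈ X) => hy.1) hX1
      (T'.2.to_le inf_le_left : IsPGroup p R) hRX)
  obtain ⟨⟨hxV, hxS, hxa⟩, hxR⟩ := hx
  refine ⟨x, mem_modE_of_avg hE hn hxV hxa, fun hxE => hx1 (Subtype.ext ?_), hxR⟩
  rw [avg_of_fixed hxV hxE, ← hn'] at hxa
  exact mem_bot.1 (H74.PRed.mem_of_pow_pow (C := ⊥) hcop (mem_bot.2 hxa)
    (mem_bot.2 (mem_omegaOneCenter.1 hxV).2))

end H78.Block
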