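import Cfsg.Agent.H78.BlockSubnormal
import Cfsg.Agent.H78.BlockTransfer
import Cfsg.Agent.H79.OffenderMain
import Cfsg.Agent.H10.Offender

/-!
`B(T')` normalises a subnormal block.
-/

set_option autoImplicit false
set_option linter.unusedSectionVars false

open Subgroup
open scoped commutatorElement

namespace H78.Block

attribute [local instance] omegaCommGroup

variable {G : Type*} [Group G] [Finite G] {p : ℕ} [Fact p.Prime]

/-- A largest elementary abelian subgroup is a best offender on `Ω₁(Z(O_p(G)))`. -/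
theorem weight_le {T' : Sylow p G} {A : Subgroup G} (hA : A ∈ maxEl p (T' : Subgroup G))
    {B : Subgroup G} (hBA : B ≤ A) :
    Nat.card B * Nat.card (Cfsg.omegaOneCenter p (Cfsg.pCore p G) ⊓ centralizer (B : Set G) : Subgroup G)
      ≤ Nat.card A *
        Nat.card (Cfsg.omegaOneCenter p (Cfsg.pCore p G) ⊓ centralizer (A : Set G) : Subgroup G) := by
  set V := Cfsg.omegaOneCenter p (Cfsg.pCore p G)
  set C := V ⊓ centralizer (B : Set G) with hC
  have hVT : V ≤ (T' : Subgroup G) := fun y hy =>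
    H1.pCore_le_sylow T' (mem_omegaOneCenter.1 hy).1.1
  have hBC : ∀ x ∈ B, ∀ y ∈ C, x * y = y * x := fun x hx y hy => hy.2 x hx
  have hel : Cfsg.IsElementaryAbelian p (B ⊔ C) := by
    have hcomm : IsMulCommutative ↥(B ⊔ C) := H11.isMulCommutative_sup
      (H11.isMulCommutative_of_le hA.2.1.1 hBA)
      (H11.isMulCommutative_of_commute fun a ha b hb => (omega_pCore_comm ha.1 hb.1).eq) hBC
    refine ⟨hcomm, fun x hx => ?_⟩
    rw [← SetLike.mem_coe, coe_mul_of_left_le_normalizer_right B C (fun b hb =>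
      (le_inf (fun g _ => ?_) (le_normalizer.trans (H75.normalizer_le_normalizer_centralizer B))
        |>.trans (H75.normalizer_inf_le_normalizer_inf _ _)) hb)] at hx
    · obtain ⟨b, hb, c, hc, rfl⟩ := hx
      rw [(show Commute b c from hBC b hb c hc).mul_pow, hA.2.1.2 b (hBA hb),
        (mem_omegaOneCenter.1 hc.1).2, one_mul]
    · exact normalizer_le_normalizer_omegaOneCenter _
        (by have := H1.pCore_normal' p G; rw [normalizer_eq_top]; trivial)
  have hle : Nat.card (B ⊔ C : Subgroup G) ≤ Nat.card A :=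
    hA.2.2 _ (sup_le (hBA.trans hA.1) (inf_le_left.trans hVT)) hel
  have hinf : Nat.card (B ⊓ C : Subgroup G) ≤ Nat.card (V ⊓ centralizer (A : Set G) : Subgroup G) :=
    card_le_of_le fun y hy => ⟨hy.2.1, fun a ha => (H11.comm_of_mulCommutative hA.2.1.1 ha (hBA hy.1)).eq⟩
  have h := H10.card_mul_card_inf (H := B) (K := C) (fun b hb => by
    exact (le_inf (fun g _ => normalizer_le_normalizer_omegaOneCenter _
      (by have := H1.pCore_normal' p G; rw [normalizer_eq_top]; trivial))
      (le_normalizer.trans (H75.normalizer_le_normalizer_centralizer B))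
        |>.trans (H75.normalizer_inf_le_normalizer_inf _ _)) hb)
  calc Nat.card B * Nat.card C = Nat.card (B ⊔ C : Subgroup G) * Nat.card (B ⊓ C : Subgroup G) := by
        first | exact h | exact h.symm | (rw [mul_comm] at h; exact h) | linarith
    _ ≤ _ := Nat.mul_le_mul hle hinf

variable {T T' : Sylow p G} {E : Subgroup G}

theorem weight_strict {T' : Sylow p G} {A B : Subgroup G} (hA : A ∈ maxEl p (T' : Subgroup G))
    (hBA : B ≤ A) {N m : ℕ} (hcard : Nat.card A ≤ Nat.card B * m)
    (h : N * Nat.card (Cfsg.omegaOneCenter p (Cfsg.pCore p G) ⊓ centralizer (A : Set G) : Subgroup G) ≤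
      Nat.card (Cfsg.omegaOneCenter p (Cfsg.pCore p G) ⊓ centralizer (B : Set G) : Subgroup G)) :
    N ≤ m := by
  refine Nat.le_of_mul_le_mul_left ?_ (show 0 < Nat.card B *
    Nat.card (Cfsg.omegaOneCenter p (Cfsg.pCore p G) ⊓ centralizer (A : Set G) : Subgroup G) from
    Nat.mul_pos Nat.card_pos Nat.card_pos)
  calc _ = Nat.card B * (N * Nat.card (Cfsg.omegaOneCenter p (Cfsg.pCore p G) ⊓
          centralizer (A : Set G) : Subgroup G)) := by ring
    _ ≤ Nat.card B * Nat.card (Cfsg.omegaOneCenter p (Cfsg.pCore p G) ⊓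
          centralizer (B : Set G) : Subgroup G) := Nat.mul_le_mul le_rfl h
    _ ≤ _ := weight_le hA hBA
    _ ≤ Nat.card B * m * _ := Nat.mul_le_mul hcard le_rfl
    _ = _ := by ring

theorem pow_pred_gt {p m : ℕ} (hp : 2 ≤ p) (hm : p ≤ m) (h : p ^ (m - 1) ≤ m) : p = 2 ∧ m = 2 := by
  have h3 : ∀ k : ℕ, 3 ≤ k → k < 2 ^ (k - 1) := by
    intro k hk
    induction k, hk using Nat.le_induction with
    | base => norm_num
    | succ k hk ih =>
      rw [show k + 1 - 1 = k - 1 + 1 by omega, pow_succ]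
      omega
  have hm2 : m = 2 := by
    by_contra hne
    exact absurd (lt_of_lt_of_le (h3 m (by omega)) ((Nat.pow_le_pow_left hp _).trans h)) (lt_irrefl _)
  exact ⟨by omega, hm2⟩

/-- A largest elementary abelian subgroup normalises a small subnormal block. -/
theorem maxEl_normalises_small (hG : centralizer (Cfsg.pCore p G : Set G) ≤ Cfsg.pCore p G)
    (hE : Cfsg.IsBaumannBlock p (T : Subgroup G) E) (hEs : E.IsSubnormal) (sE : IsSmall p E)
    {A : Subgroup G} (hA : A ∈ maxEl p (T' : Subgroup G)) : A ≤ normalizer (E : Set G) := by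
  by_contra hnot
  have dE := smallData_of_isSmall hE sE
  have hf := facts_of_block hE
  set V := Cfsg.omegaOneCenter p (Cfsg.pCore p G) with hV
  have hab : ∀ {a b : G}, a ∈ A → b ∈ A → Commute a b := fun ha hb =>
    H11.comm_of_mulCommutative hA.2.1.1 ha hb
  have hPE := pCore_le_normalizer hE
  have hUV : modE p E ≤ V := hf.mod_le_omega hG hPE
  have hUE : modE p E ≤ E := hf.mod_le.trans ((omega_le_core E).trans (H75.pCoreOf_le E))
  set B := A ⊓ normalizer (E : Set G) with hB
  obtain ⟨x, hxU, hxE, hxR⟩ := exists_fixed hG hE hEs T'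
  have hxB : ∀ b ∈ B, Commute b x := fun b hb => hxR b ⟨hA.1 hb.1, hb.2⟩
  set c : G → Subgroup G := fun g => E.map (MulAut.conj g).toMonoidHom with hc
  have hpair : ∀ a b : G, c a = c b ∨ ⁅c a, c b⁆ = ⊥ := fun a b => eq_or_commute_of_subnormal hG
    ⟨a • T, isBaumannBlock_map (MulAut.conj a) hE⟩ ⟨b • T, isBaumannBlock_map (MulAut.conj b) hE⟩
    (hEs.map (MulEquiv.surjective _)) (hEs.map (MulEquiv.surjective _))
  have hc1 : c 1 = E := by
    show E.map (MulAut.conj (1 : G)).toMonoidHom = E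
    convert Subgroup.map_id E using 2
    ext x; simp
  have hcomm : ∀ a ∈ A, a ∉ B → ⁅E, c a⁆ = ⊥ := fun a ha haB => by
    rcases hpair 1 a with h | h
    · exact absurd ⟨ha, mem_normalizer_iff_map_conj_eq.2 (h.symm.trans hc1)⟩ haB
    · rwa [hc1] at h
  -- `a x a⁻¹` commutes with `E` for `a ∉ B`
  have hfar : ∀ a ∈ A, a ∉ B → ∀ u ∈ modE p E, a * u * a⁻¹ ∈ centralizer (E : Set G) :=
    fun a ha haB u hu e he =>
      (commutator_eq_bot_iff_le_centralizer.1 (hcomm a ha haB) he _ (conj_mem_map (hUE hu))).symm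
  have hdisj : ∀ u ∈ modE p E, u ∈ centralizer (E : Set G) → u = 1 := fun u hu hc =>
    mem_bot.1 (dE.inf_bot ▸ ⟨hu, hc⟩)
  haveI : IsMulCommutative A := hA.2.1.1
  haveI : (B.subgroupOf A).Normal := ⟨fun b hb a => by
    rwa [show a * b * a⁻¹ = b from mul_inv_eq_iff_eq_mul.2 (Subtype.ext (hab a.2 b.2).eq)]⟩
  set m := (B.subgroupOf A).index with hm
  have hcardA : Nat.card A ≤ Nat.card B * m := by
    rw [← Nat.card_congr (Subgroup.subgroupOfEquivOfLe (inf_le_left : B ≤ A)).toEquiv, hm,
      card_mul_index]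
  have hm1 : p ≤ m := by
    have hne : m ≠ 1 := fun h => hnot ((subgroupOf_eq_top.1 (index_eq_one.1 h)).trans inf_le_right)
    obtain ⟨k, hk⟩ := ((T'.2.to_le hA.1).index (B.subgroupOf A))
    rw [hm, hk] at hne ⊢
    rcases k with _ | k
    · exact absurd rfl hne
    · exact Nat.le_self_pow (Nat.succ_ne_zero k) p
  letI : Fintype (A ⧸ B.subgroupOf A) := Fintype.ofFinite _
  -- `x` conjugated by a coset
  let y : A ⧸ B.subgroupOf A → G := fun q => (q.out : G) * x * (q.out : G)⁻¹
  have hyV : ∀ q, y q ∈ V := fun q => omega_pCore_conj _ (hUV hxU)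
  have hout : ∀ q q' : A ⧸ B.subgroupOf A, q ≠ q' → ((q.out : G)⁻¹ * (q'.out : G)) ∉ B := fun q q' hne h =>
    hne (by
      rw [← QuotientGroup.out_eq' q, ← QuotientGroup.out_eq' q']
      exact QuotientGroup.eq.2 (mem_subgroupOf.2 h))
  -- the map on functions
  let g : (A ⧸ B.subgroupOf A → ZMod p) → G := fun f =>
    Subtype.val (∏ q, (⟨y q, hyV q⟩ : (Cfsg.omegaOneCenter p (Cfsg.pCore p G) : Subgroup G)) ^ (f q).val)
  have hgV : ∀ f, g f ∈ V := fun f => SetLike.coe_mem _
  -- projection to a component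
  have hproj : ∀ f q₀, (q₀.out : G)⁻¹ * g f * (q₀.out : G) * (x ^ (f q₀).val)⁻¹ ∈
      centralizer (E : Set G) := by
    intro f q₀
    classical
    have h1 : g f = (y q₀) ^ (f q₀).val * Subtype.val (∏ q ∈ Finset.univ.erase q₀,
        (⟨y q, hyV q⟩ : (Cfsg.omegaOneCenter p (Cfsg.pCore p G) : Subgroup G)) ^ (f q).val) := by
      show Subtype.val (∏ q, _) = _
      rw [← Finset.mul_prod_erase _ _ (Finset.mem_univ q₀), Subgroup.coe_mul, SubgroupClass.coe_pow]
    set rest := Subtype.val (∏ q ∈ Finset.univ.erase q₀,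
        (⟨y q, hyV q⟩ : (Cfsg.omegaOneCenter p (Cfsg.pCore p G) : Subgroup G)) ^ (f q).val) with hrest
    have h2 : (q₀.out : G)⁻¹ * rest * (q₀.out : G) ∈ centralizer (E : Set G) := by
      refine Finset.prod_induction _
        (fun v : (Cfsg.omegaOneCenter p (Cfsg.pCore p G) : Subgroup G) =>
          (q₀.out : G)⁻¹ * (v : G) * (q₀.out : G) ∈ centralizer (E : Set G))
        (fun a b ha hb => by
          have := mul_mem ha hb
          simpa [mul_assoc] using this) (by simp) fun q hq => ?_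
      have hne : q₀ ≠ q := (Finset.ne_of_mem_erase hq).symm
      have := hfar _ (mul_mem (inv_mem q₀.out.2) q.out.2) (hout q₀ q hne) x hxU
      rw [SubgroupClass.coe_pow]
      show (q₀.out : G)⁻¹ * y q ^ (f q).val * (q₀.out : G) ∈ _
      rw [show (q₀.out : G)⁻¹ * y q ^ (f q).val * (q₀.out : G) =
        ((q₀.out : G)⁻¹ * y q * (q₀.out : G)) ^ (f q).val by
          conv_rhs => rw [show (q₀.out : G)⁻¹ * y q * (q₀.out : G) =
            (q₀.out : G)⁻¹ * y q * ((q₀.out : G)⁻¹)⁻¹ by rw [inv_inv], conj_pow, inv_inv]]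
      refine pow_mem ?_ _
      simpa [y, mul_assoc] using this
    rw [h1, show (q₀.out : G)⁻¹ * (y q₀ ^ (f q₀).val * rest) * (q₀.out : G) =
      x ^ (f q₀).val * ((q₀.out : G)⁻¹ * rest * (q₀.out : G)) by
        simp only [y, conj_pow]; group,
      (omega_pCore_comm (pow_mem (hUV hxU) _) (by
        have := omega_pCore_conj (p := p) (q₀.out : G)⁻¹ (v := rest) (SetLike.coe_mem _)
        rwa [inv_inv] at this)).eq, mul_inv_cancel_right]
    exact h2
  have hxo : orderOf x = p := orderOf_eq_prime (mem_omegaOneCenter.1 (hf.mod_le hxU)).2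
    fun h => hxE (h ▸ one_mem _)
  have hgB : ∀ f, g f ∈ centralizer (B : Set G) := fun f => by
    refine Finset.prod_induction _
      (fun v : (Cfsg.omegaOneCenter p (Cfsg.pCore p G) : Subgroup G) => (v : G) ∈ centralizer (B : Set G))
      (fun a b ha hb => mul_mem ha hb) (one_mem _) fun q _ => ?_
    rw [SubgroupClass.coe_pow]
    refine pow_mem (fun b hb => ?_) _
    show b * y q = y q * b
    have h1 := hab q.out.2 hb.1
    exact ((h1.symm.mul_right (hxB b hb)).mul_right h1.symm.inv_right).eq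
  -- injectivity
  let F := {f : A ⧸ B.subgroupOf A → ZMod p // f (QuotientGroup.mk 1) = 0}
  let φ : F × (V ⊓ centralizer (A : Set G) : Subgroup G) → (V ⊓ centralizer (B : Set G) : Subgroup G) :=
    fun fc => ⟨g fc.1.1 * fc.2, mul_mem (mem_inf.2 ⟨hgV _, hgB _⟩)
      (mem_inf.2 ⟨fc.2.2.1, centralizer_le (SetLike.coe_subset_coe.2 inf_le_left) fc.2.2.2⟩)⟩
  have hφ : Function.Injective φ := by
    rintro ⟨f, c⟩ ⟨f', c'⟩ h
    have h' : g f.1 * c = g f'.1 * c' := congrArg Subtype.val h
    have hk : (g f'.1)⁻¹ * g f.1 ∈ centralizer (A : Set G) := by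
      have : (g f'.1)⁻¹ * g f.1 = (c' : G) * (c : G)⁻¹ := by
        rw [show g f.1 = g f'.1 * c' * (c : G)⁻¹ by rw [← h', mul_inv_cancel_right]]; group
      rw [this]
      exact mul_mem c'.2.2 (inv_mem c.2.2)
    set k := (g f'.1)⁻¹ * g f.1 with hk'
    have hkq : ∀ q, k * (x ^ (f.1 q).val)⁻¹ * x ^ (f'.1 q).val ∈ centralizer (E : Set G) := fun q => by
      have h1 := hproj f.1 q
      have h2 := hproj f'.1 q
      have hkeq : k = (q.out : G)⁻¹ * k * (q.out : G) := by
        have := hk _ q.out.2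
        rw [mul_assoc, ← this]; group
      have hinvV : ∀ {v : G}, v ∈ V → (q.out : G)⁻¹ * v * (q.out : G) ∈ V := fun hv => by
        have := omega_pCore_conj (p := p) (q.out : G)⁻¹ hv
        rwa [inv_inv] at this
      have h3 := mul_mem (inv_mem h2) h1
      have e : ((q.out : G)⁻¹ * g f'.1 * (q.out : G) * (x ^ (f'.1 q).val)⁻¹)⁻¹ *
          ((q.out : G)⁻¹ * g f.1 * (q.out : G) * (x ^ (f.1 q).val)⁻¹) =
          k * (x ^ (f.1 q).val)⁻¹ * x ^ (f'.1 q).val := by
        conv_rhs => rw [hkeq]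
        rw [_root_.mul_inv_rev, inv_inv]
        have hc1 := omega_pCore_comm (pow_mem (hUV hxU) (f'.1 q).val)
          (mul_mem (inv_mem (hinvV (hgV f'.1))) (mul_mem (hinvV (hgV f.1))
            (inv_mem (pow_mem (hUV hxU) (f.1 q).val))))
        rw [mul_assoc (x ^ (f'.1 q).val), hc1.eq, hk']
        group
      rwa [e] at h3
    have hf0 : f.1 = f'.1 := by
      funext q
      have h1 := hkq q
      have h0 := hkq (QuotientGroup.mk 1)
      rw [f.2, f'.2] at h0
      simp only [ZMod.val_zero, pow_zero, inv_one, mul_one] at h0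
      rw [mul_assoc] at h1
      have h2 := (mul_mem_cancel_left h0).1 h1
      have h3 := hdisj _ (mul_mem (inv_mem (pow_mem hxU _)) (pow_mem hxU _)) h2
      rw [inv_mul_eq_one, pow_eq_pow_iff_modEq, hxo] at h3
      exact (ZMod.val_injective p (by
        have := h3; rwa [Nat.ModEq, Nat.mod_eq_of_lt (ZMod.val_lt _), Nat.mod_eq_of_lt (ZMod.val_lt _)] at this))
    obtain rfl : f = f' := Subtype.ext hf0
    simp only [Prod.mk.injEq, true_and]
    exact Subtype.ext (mul_left_cancel h')
  have hFcard : Nat.card F * p = p ^ m := by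
    have e : F × ZMod p ≃ (A ⧸ B.subgroupOf A → ZMod p) :=
      { toFun := fun fz q => fz.1.1 q + fz.2
        invFun := fun f => (⟨fun q => f q - f (QuotientGroup.mk 1), sub_self _⟩, f (QuotientGroup.mk 1))
        left_inv := fun fz => by
          have := fz.1.2
          apply Prod.ext
          · apply Subtype.ext
            funext q
            show fz.1.1 q + fz.2 - (fz.1.1 _ + fz.2) = _
            rw [fz.1.2, zero_add, add_sub_cancel_right]
          · show fz.1.1 _ + fz.2 = _
            rw [fz.1.2, zero_add]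
        right_inv := fun f => funext fun q => sub_add_cancel _ _ }
    have := Nat.card_congr e
    rwa [Nat.card_prod, Nat.card_zmod, Nat.card_fun, Nat.card_zmod] at this
  have hN : p ^ (m - 1) * Nat.card (V ⊓ centralizer (A : Set G) : Subgroup G) ≤
      Nat.card (V ⊓ centralizer (B : Set G) : Subgroup G) := by
    have := Nat.card_le_card_of_injective φ hφ
    rw [Nat.card_prod] at this
    have hp' := (Fact.out : p.Prime).pos
    have hF : Nat.card F = p ^ (m - 1) := by
      refine Nat.eq_of_mul_eq_mul_right hp' (hFcard.trans ?_)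
      rw [← pow_succ]
      congr 1
      omega
    rwa [hF] at this
  obtain ⟨hp2, hm2⟩ := pow_pred_gt (Fact.out : p.Prime).two_le hm1 (weight_strict hA inf_le_left hcardA hN)
  subst hp2
  -- the tight case
  obtain ⟨a, ha, haB⟩ := SetLike.not_le_iff_exists.1 (show ¬ A ≤ B from fun h => hnot (h.trans inf_le_right))
  have hdU : ∀ u ∈ modE 2 E, ∀ v ∈ modE 2 E, u = a * v * a⁻¹ → u = 1 := fun u hu v hv h =>
    hdisj u hu (h ▸ hfar a ha haB v hv)
  by_cases hUB : modE 2 E ≤ centralizer (B : Set G)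
  · let ψ : (modE 2 E : Subgroup G) × (V ⊓ centralizer (A : Set G) : Subgroup G) →
        (V ⊓ centralizer (B : Set G) : Subgroup G) :=
      fun uc => ⟨(uc.1 : G) * uc.2, mul_mem (mem_inf.2 ⟨hUV uc.1.2, hUB uc.1.2⟩)
        (mem_inf.2 ⟨uc.2.2.1, centralizer_le (SetLike.coe_subset_coe.2 inf_le_left) uc.2.2.2⟩)⟩
    have hψ : Function.Injective ψ := by
      rintro ⟨u, c⟩ ⟨u', c'⟩ h
      have h' : (u : G) * c = u' * c' := congrArg Subtype.val h
      have hk : (u' : G)⁻¹ * u ∈ centralizer (A : Set G) := by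
        rw [show (u' : G)⁻¹ * u = (c' : G) * (c : G)⁻¹ by
          rw [show (u : G) = u' * c' * (c : G)⁻¹ by rw [← h', mul_inv_cancel_right]]; group]
        exact mul_mem c'.2.2 (inv_mem c.2.2)
      have h0 := hdU _ (mul_mem (inv_mem u'.2) u.2) _ (mul_mem (inv_mem u'.2) u.2)
        (by rw [hk a ha, mul_inv_cancel_right])
      obtain rfl : u = u' := Subtype.ext (inv_mul_eq_one.1 h0).symm
      simp only [Prod.mk.injEq, true_and]
      exact Subtype.ext (mul_left_cancel h')
    have := Nat.card_le_card_of_injective ψ hψ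
    rw [Nat.card_prod, dE.card] at this
    have := weight_strict hA inf_le_left hcardA this
    omega
  obtain ⟨y0, hy0, hy0B⟩ := SetLike.not_le_iff_exists.1 hUB
  set B1 := B ⊓ centralizer ((modE 2 E : Subgroup G) : Set G) with hB1
  -- `|B : B₁| ≤ 2`
  have hy01 : y0 ≠ 1 := fun h => hy0B (h ▸ one_mem _)
  have hx1 : x ≠ 1 := fun h => hxE (h ▸ one_mem _)
  have hBU : ∀ {b u : G}, b ∈ B → u ∈ modE 2 E → b * u * b⁻¹ ∈ modE 2 E := fun hb hu =>
    H75.conj_mem_of_mem_normalizer (normalizer_E_le_normalizer_modE E hb.2) hu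
  have hcardB : Nat.card B ≤ Nat.card B1 * 2 := by
    rw [← Nat.card_congr (Subgroup.subgroupOfEquivOfLe (inf_le_left : B1 ≤ B)).toEquiv,
      ← card_mul_index (B1.subgroupOf B)]
    refine Nat.mul_le_mul le_rfl ?_
    let τ : B ⧸ B1.subgroupOf B → {u : (modE 2 E : Subgroup G) // u ≠ 1 ∧ (u : G) ≠ x} := fun q =>
      ⟨⟨(q.out : G) * y0 * (q.out : G)⁻¹, hBU q.out.2 hy0⟩,
        fun h => hy01 (conj_eq_one_iff.1 (congrArg Subtype.val h)), fun h => hy0B (by
          have hb := hxB _ q.out.2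
          have : y0 = x := by
            have h2 : (q.out : G) * y0 * (q.out : G)⁻¹ = (q.out : G) * x * (q.out : G)⁻¹ := by
              rw [hb.eq, mul_inv_cancel_right]; exact h
            exact mul_left_cancel (mul_right_cancel h2)
          exact this ▸ fun b hb => (hxB b hb).eq)⟩
    have hτ : Function.Injective τ := by
      intro q q' h
      rw [← QuotientGroup.out_eq' q, ← QuotientGroup.out_eq' q']
      refine QuotientGroup.eq.2 (mem_subgroupOf.2 ⟨(q.out⁻¹ * q'.out).2, ?_⟩)
      have h' : (q.out : G) * y0 * (q.out : G)⁻¹ = (q'.out : G) * y0 * (q'.out : G)⁻¹ :=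
        congrArg (fun u => ((u.1 : (modE 2 E : Subgroup G)) : G)) h
      set d := (q.out : G)⁻¹ * (q'.out : G) with hd
      have hdB : d ∈ B := mul_mem (inv_mem q.out.2) q'.out.2
      have hdy : Commute d y0 := mul_inv_eq_iff_eq_mul.1 (by
        rw [hd, show (q.out : G)⁻¹ * (q'.out : G) * y0 * ((q.out : G)⁻¹ * (q'.out : G))⁻¹ =
          (q.out : G)⁻¹ * ((q'.out : G) * y0 * (q'.out : G)⁻¹) * (q.out : G) by group, ← h']
        group)
      have hdn := normalizer_E_le_normalizer_modE (p := 2) E hdB.2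
      -- `⟨x, y₀⟩ = U`
      let K : Subgroup G := modE 2 E ⊓ centralizer ({d} : Set G)
      have hxK : x ∈ K := ⟨hxU, mem_centralizer_singleton_iff.2 (hxB d hdB).eq.symm⟩
      have hyK : y0 ∈ K := ⟨hy0, mem_centralizer_singleton_iff.2 hdy.eq.symm⟩
      have hKtop : K = modE 2 E := by
        refine eq_of_le_of_card_ge inf_le_left ?_
        rw [dE.card]
        obtain ⟨k, hk⟩ := IsPGroup.iff_card.1 (((omega_pCore_isPGroup (G := G) (p := 2)).to_le hUV).to_le
          (inf_le_left : K ≤ modE 2 E))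
        have hz : zpowers x < K := lt_of_le_of_ne (zpowers_le.2 hxK) fun he => by
          obtain ⟨j, hj⟩ := he.ge hyK
          refine hy0B ?_
          rw [← hj]
          exact (centralizer (B : Set G)).zpow_mem (fun b hb => (hxB b hb).eq) j
        have h2 : 2 < Nat.card K := by
          rw [← hxo, ← Nat.card_zpowers]
          exact lt_of_le_of_ne (card_le_of_le hz.le) fun h => hz.ne (eq_of_le_of_card_ge hz.le h.ge)
        rw [hk] at h2 ⊢
        exact Nat.pow_le_pow_right (by norm_num) (by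
          by_contra hlt
          have := Nat.pow_le_pow_right (show 2 > 0 by norm_num) (show k ≤ 1 by omega)
          omega)
      intro u hu
      exact (mem_centralizer_singleton_iff.1 (hKtop.ge hu).2)
    have h4 := Nat.card_le_card_of_injective τ hτ
    refine h4.trans ?_
    classical
    haveI := Fintype.ofFinite (modE 2 E : Subgroup G)
    rw [Nat.card_eq_fintype_card, Fintype.card_subtype]
    have : (Finset.univ.filter fun u : (modE 2 E : Subgroup G) => u ≠ 1 ∧ (u : G) ≠ x) =
        (Finset.univ.erase 1).erase ⟨x, hxU⟩ := by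
      ext u
      simp only [Finset.mem_filter, Finset.mem_erase, Finset.mem_univ, true_and, and_true, ne_eq,
        Subtype.ext_iff]
      tauto
    rw [this, Finset.card_erase_of_mem (by simp [Subtype.ext_iff, hx1]), Finset.card_erase_of_mem (by simp),
      Finset.card_univ, ← Nat.card_eq_fintype_card, dE.card]
    norm_num
  -- many fixed points of `B₁`
  set y1 := a * y0 * a⁻¹ with hy1
  have hy1B1 : y1 ∈ centralizer (B1 : Set G) := fun b hb => by
    have h1 := hab ha hb.1.1
    have h2 : Commute b y0 := (hb.2 y0 hy0).symm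
    exact ((h1.symm.mul_right h2).mul_right h1.symm.inv_right).eq
  let w : Bool → G := fun i => if i then y1 else 1
  have hw : ∀ i, w i ∈ V ∧ w i ∈ centralizer (B1 : Set G) := fun i => by
    cases i
    · exact ⟨one_mem _, one_mem _⟩
    · exact ⟨omega_pCore_conj a (hUV hy0), hy1B1⟩
  let χ : ((modE 2 E : Subgroup G) × Bool) × (V ⊓ centralizer (A : Set G) : Subgroup G) →
      (V ⊓ centralizer (B1 : Set G) : Subgroup G) :=
    fun z => ⟨(z.1.1 : G) * w z.1.2 * z.2, mul_mem (mul_mem
      (mem_inf.2 ⟨hUV z.1.1.2, fun b hb => (hb.2 _ z.1.1.2).symm⟩)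
      (mem_inf.2 (hw z.1.2)))
      (mem_inf.2 ⟨z.2.2.1, centralizer_le (SetLike.coe_subset_coe.2 (inf_le_left.trans inf_le_left)) z.2.2.2⟩)⟩
  have hχ : Function.Injective χ := by
    rintro ⟨⟨u, i⟩, c⟩ ⟨⟨u', i'⟩, c'⟩ h
    have h' : (u : G) * w i * c = u' * w i' * c' := congrArg Subtype.val h
    have hwV := (hw i).1
    have hwV' := (hw i').1
    set u0 := (u' : G)⁻¹ * u with hu0
    set w0 := (w i')⁻¹ * w i with hw0
    have hu0U : u0 ∈ modE 2 E := mul_mem (inv_mem u'.2) u.2
    have hk : u0 * w0 ∈ centralizer (A : Set G) := by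
      have e : u0 * w0 = (u' * w i')⁻¹ * ((u : G) * w i) := by
        have hc1 := omega_pCore_comm (inv_mem hwV') (mul_mem (inv_mem (hUV u'.2)) (hUV u.2))
        rw [_root_.mul_inv_rev, hu0, hw0, ← mul_assoc, ← hc1.eq]
        group
      rw [e, show (u : G) * w i = u' * w i' * c' * (c : G)⁻¹ by rw [← h', mul_inv_cancel_right]]
      rw [show ((u' : G) * w i')⁻¹ * (u' * w i' * c' * (c : G)⁻¹) = c' * (c : G)⁻¹ by group]
      exact mul_mem c'.2.2 (inv_mem c.2.2)
    have hwa : ∃ v ∈ modE 2 E, w0 = a * v * a⁻¹ ∧ (v = 1 → i = i') := by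
      cases i <;> cases i'
      · exact ⟨1, one_mem _, by simp [hw0, w], fun _ => rfl⟩
      · exact ⟨y0⁻¹, inv_mem hy0, by simp [hw0, w, hy1, mul_assoc], fun h => absurd (inv_eq_one.1 h) hy01⟩
      · exact ⟨y0, hy0, by simp [hw0, w, hy1], fun h => absurd h hy01⟩
      · exact ⟨1, one_mem _, by simp [hw0, w], fun _ => rfl⟩
    obtain ⟨v, hv, hwv, hvi⟩ := hwa
    -- conjugating by `a` swaps the two parts
    have haa : a * a = 1 := by rw [← sq]; exact hA.2.1.2 a ha
    have hai : a⁻¹ = a := inv_eq_of_mul_eq_one_right haa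
    have hfix : a * (u0 * w0) * a⁻¹ = u0 * w0 := by rw [hk a ha, mul_inv_cancel_right]
    have h2 : v * (a * u0 * a⁻¹) = u0 * (a * v * a⁻¹) := by
      have e1 : a * (u0 * w0) * a⁻¹ = (a * u0 * a⁻¹) * ((a * a) * v * (a * a)⁻¹) := by rw [hwv]; group
      rw [e1, haa, inv_one, one_mul, mul_one,
        (omega_pCore_comm (omega_pCore_conj a (hUV hu0U)) (hUV hv)).eq, hwv] at hfix
      exact hfix
    have h3 : u0⁻¹ * v = a * (v * u0⁻¹) * a⁻¹ := by
      calc u0⁻¹ * v = u0⁻¹ * (v * (a * u0 * a⁻¹)) * (a * u0⁻¹ * a⁻¹) := by group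
        _ = _ := by rw [h2]; group
    have hvu : u0 = v :=
      inv_mul_eq_one.1 (hdU _ (mul_mem (inv_mem hu0U) hv) _ (mul_mem hv (inv_mem hu0U)) h3)
    have hvB : v ∈ centralizer (B : Set G) := by
      intro b hb
      have hbk : Commute b (u0 * w0) := hk b hb.1
      have h4 : b * u0 * b⁻¹ * (a * (b * v * b⁻¹) * a⁻¹) = u0 * w0 := by
        have hb' : b * (a * v * a⁻¹) * b⁻¹ = a * (b * v * b⁻¹) * a⁻¹ := by
          calc b * (a * v * a⁻¹) * b⁻¹ = (b * a) * v * (b * a)⁻¹ := by group
            _ = (a * b) * v * (a * b)⁻¹ := by rw [(hab hb.1 ha).eq]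
            _ = _ := by group
        calc _ = b * (u0 * w0) * b⁻¹ := by rw [hwv, ← hb']; group
          _ = _ := by rw [hbk.eq, mul_inv_cancel_right]
      rw [hvu, hwv] at h4
      have h5 : v⁻¹ * (b * v * b⁻¹) = a * (v * (b * v * b⁻¹)⁻¹) * a⁻¹ := by
        calc v⁻¹ * (b * v * b⁻¹)
            = v⁻¹ * (b * v * b⁻¹ * (a * (b * v * b⁻¹) * a⁻¹)) * (a * (b * v * b⁻¹)⁻¹ * a⁻¹) := by group
          _ = _ := by rw [h4]; group
      have h6 := inv_mul_eq_one.1 (hdU _ (mul_mem (inv_mem hv) (hBU hb hv)) _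
        (mul_mem hv (inv_mem (hBU hb hv))) h5)
      exact mul_inv_eq_iff_eq_mul.1 h6.symm
    have hv1 : v = 1 := by
      cases i <;> cases i'
      · simpa [hw0, w, eq_comm] using hwv
      · exfalso
        have : v = y0⁻¹ := by
          have h7 : a * v * a⁻¹ = a * y0⁻¹ * a⁻¹ := by rw [← hwv]; simp [hw0, w, hy1, mul_assoc]
          exact mul_left_cancel (mul_right_cancel h7)
        exact hy0B (inv_mem_iff.1 (this ▸ hvB))
      · exfalso
        have : v = y0 := by
          have h7 : a * v * a⁻¹ = a * y0 * a⁻¹ := by rw [← hwv]; simp [hw0, w, hy1]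
          exact mul_left_cancel (mul_right_cancel h7)
        exact hy0B (this ▸ hvB)
      · simpa [hw0, w, eq_comm] using hwv
    obtain rfl : i = i' := hvi hv1
    obtain rfl : u = u' := Subtype.ext (inv_mul_eq_one.1 (hvu.trans hv1)).symm
    simp only [Prod.mk.injEq, true_and]
    exact Subtype.ext (mul_left_cancel h')
  have h8 := Nat.card_le_card_of_injective χ hχ
  rw [Nat.card_prod, Nat.card_prod, dE.card, Nat.card_eq_fintype_card (α := Bool), Fintype.card_bool] at h8
  have := weight_strict (B := B1) (m := 4) hA (inf_le_left.trans inf_le_left) (by rw [hm2] at hcardA; omega) h8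
  omega

end H78.Block
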