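import Cfsg.Agent.H78.BlockKernel
import Mathlib.RingTheory.LittleWedderburn

/-!
Two blocks normalising each other.
-/

set_option autoImplicit false
set_option linter.unusedSectionVars false

open Subgroup
open scoped MatrixGroups commutatorElement

namespace H78.Block

variable {G : Type*} [Group G] [Finite G] {p : ℕ} [Fact p.Prime]

theorem omega_le_core (E : Subgroup G) :
    Cfsg.omegaOneCenter p (Cfsg.pCoreOf p E) ≤ Cfsg.pCoreOf p E :=
  fun _ hx => (mem_omegaOneCenter.1 hx).1.1

theorem omega_comm {E : Subgroup G} {u v : G} (hu : u ∈ Cfsg.pCoreOf p E)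
    (hv : v ∈ Cfsg.omegaOneCenter p (Cfsg.pCoreOf p E)) : Commute u v :=
  (mem_omegaOneCenter.1 hv).1.2 u hu

/-- An element of `N(Q) ∩ C(W_E)` acts trivially on `Q / W`. -/
theorem commutator_mem_omega {T : Sylow p G} {E : Subgroup G}
    (hG : centralizer (Cfsg.pCore p G : Set G) ≤ Cfsg.pCore p G)
    (hE : Cfsg.IsBaumannBlock p (T : Subgroup G) E) (hQP : Cfsg.pCoreOf p E ≤ Cfsg.pCore p G)
    {g : G} (hgQ : g ∈ normalizer (Cfsg.pCoreOf p E : Set G))
    (hgM : g ∈ centralizer ((modE p E : Subgroup G) : Set G)) :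
    ∀ q ∈ Cfsg.pCoreOf p E, ⁅g, q⁆ ∈ Cfsg.omegaOneCenter p (Cfsg.pCoreOf p E) := by
  intro q hq
  have hf := facts_of_block hE
  have hE' := hE
  obtain ⟨-, -, -, -, hcase⟩ := hE'
  by_cases hQW : Cfsg.pCoreOf p E = Cfsg.omegaOneCenter p (Cfsg.pCoreOf p E)
  · rw [← hQW]
    exact mul_mem (H75.conj_mem_of_mem_normalizer hgQ hq) (inv_mem hq)
  rcases hcase with ⟨F, hFi, hFf, n, hcard, hiso, hWs, hQs⟩ | ⟨-, m, -, -, hQ'⟩
  swap
  · exact absurd hQ' hQW
  obtain ⟨rfl, hQs, hcomm, hfrat, hcent, hZ, hnq⟩ := hQs.resolve_left hQW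
  haveI : CharP F 3 := by
    haveI : CharP F (ringChar F) := ringChar.charP F
    obtain ⟨m, hm, hm'⟩ := FiniteField.card F (ringChar F)
    have h3 : ringChar F = 3 := by
      have hd : ringChar F ∣ 3 ^ n := hcard ▸ hm' ▸ dvd_pow_self _ m.ne_zero
      exact (Nat.prime_dvd_prime_iff_eq hm Nat.prime_three).1 (hm.dvd_of_dvd_pow hd)
    exact h3 ▸ (ringChar.charP F)
  obtain ⟨SW, ρW, hWU, hWU₀, hWr, hWa⟩ := exists_sec hWs
    (le_normalizer.trans (normalizer_E_le_normalizer_Z E))
  obtain ⟨SQ, ρQ, hQU, hQU₀, hQr, hQa⟩ := exists_sec hQs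
    (le_normalizer.trans (normalizer_E_le_normalizer_pCore_omega E))
  have hcardE : Nat.card (E ⧸ Cfsg.pCore 3 E) = Nat.card (commutator SL(2, F)) := by
    obtain ⟨i⟩ := hiso
    exact Nat.card_congr i.toEquiv
  have X : Exc F T E :=
    { hG := hG, blk := hE, SW := SW, SQ := SQ, SW_U := hWU, SW_U₀ := hWU₀, SQ_U := hQU,
      SQ_U₀ := hQU₀, ρW := ρW, ρQ := ρQ, ρW_range := hWr, ρQ_range := hQr, actW := hWa,
      actQ := hQa, QleP := hQP, commQQ := hcomm, frat := hfrat, centE := hcent,
      cardZ := by rw [hZ, Nat.card_eq_fintype_card, hcard]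
      cardE := hcardE, nonquad := hnq }
  have := (X.K_le_trivQ (mem_inf.2 ⟨hgQ, hgM⟩)).2 q (X.SQ_U ▸ hq)
  rwa [X.SQ_U₀] at this

/-- `Z = C_W(E)` is central in `Q`, and `⁅Q, E⁆ = Q`: an element of order prime to `p` centralising
`W_E` and normalising `Q` centralises `Q`. -/
theorem commute_core_of_coprime {T : Sylow p G} {E : Subgroup G}
    (hG : centralizer (Cfsg.pCore p G : Set G) ≤ Cfsg.pCore p G)
    (hE : Cfsg.IsBaumannBlock p (T : Subgroup G) E) (hQP : Cfsg.pCoreOf p E ≤ Cfsg.pCore p G)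
    {g : G} (hgQ : g ∈ normalizer (Cfsg.pCoreOf p E : Set G))
    (hgM : g ∈ centralizer ((modE p E : Subgroup G) : Set G)) (hgo : (orderOf g).Coprime p) :
    ∀ q ∈ Cfsg.pCoreOf p E, Commute g q := by
  have hf := facts_of_block hE
  set W := Cfsg.omegaOneCenter p (Cfsg.pCoreOf p E) with hW
  by_cases hQW : Cfsg.pCoreOf p E = W
  · intro q hq
    have : q ∈ modE p E := by
      show q ∈ ⁅W, E⁆
      rw [← hQW, hf.core]
      exact hq
    exact (hgM q this).symm
  refine H75.commute_of_stabilize ((H75.isPGroup_pCoreOf E).to_le (omega_le_core E)) hgo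
    (commutator_mem_omega hG hE hQP hgQ hgM) fun w hw => ?_
  have hE' := hE
  obtain ⟨-, -, -, -, hcase⟩ := hE'
  rcases hcase with ⟨F, hFi, hFf, n, hcard, hiso, hWs, hQs⟩ | ⟨-, m, -, -, hQ'⟩
  swap
  · exact absurd hQ' hQW
  obtain ⟨-, -, hcomm, -⟩ := hQs.resolve_left hQW
  have hZ : ∀ z ∈ W ⊓ centralizer (E : Set G), Commute g z := by
    intro z hz
    rw [← hcomm] at hz
    have hle : ⁅Cfsg.pCoreOf p E, Cfsg.pCoreOf p E⁆ ≤ centralizer ({g} : Set G) :=
      commutator_le.2 fun a ha b hb => mem_centralizer_singleton_iff.2 (by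
      have key : ∀ a ∈ Cfsg.pCoreOf p E, ∃ w ∈ W, g * a * g⁻¹ = w * a := fun a ha =>
        ⟨⁅g, a⁆, commutator_mem_omega hG hE hQP hgQ hgM a ha, by rw [commutatorElement_def]; group⟩
      obtain ⟨u, hu, hua⟩ := key a ha
      obtain ⟨v, hv, hvb⟩ := key b hb
      have hconj : g * ⁅a, b⁆ * g⁻¹ = ⁅a, b⁆ := by
        calc g * ⁅a, b⁆ * g⁻¹ = ⁅g * a * g⁻¹, g * b * g⁻¹⁆ := by
              simp [commutatorElement_def, mul_assoc]
          _ = u * a * (v * b) * (a⁻¹ * u⁻¹) * (b⁻¹ * v⁻¹) := by
              rw [hua, hvb]; simp [commutatorElement_def, mul_assoc]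
          _ = _ := by
              have huv := omega_comm (omega_le_core E hu) hv
              have hav := omega_comm ha hv
              have hbu := omega_comm hb hu
              have hvu : Commute v (a * b * a⁻¹) :=
                (omega_comm (mul_mem (mul_mem ha hb) (inv_mem ha)) hv).symm
              calc u * a * (v * b) * (a⁻¹ * u⁻¹) * (b⁻¹ * v⁻¹)
                  = u * (a * v) * b * a⁻¹ * (u⁻¹ * b⁻¹) * v⁻¹ := by group
                _ = u * (v * a) * b * a⁻¹ * (b⁻¹ * u⁻¹) * v⁻¹ := by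
                    rw [hav.eq, hbu.inv_inv.eq]
                _ = (u * v) * ⁅a, b⁆ * (u⁻¹ * v⁻¹) := by simp [commutatorElement_def, mul_assoc]
                _ = (u * v) * ⁅a, b⁆ * (u * v)⁻¹ := by
                    rw [_root_.mul_inv_rev, huv.inv_inv.eq]
                _ = ⁅a, b⁆ := by
                    have hc : ⁅a, b⁆ ∈ Cfsg.pCoreOf p E :=
                      mul_mem (mul_mem (mul_mem ha hb) (inv_mem ha)) (inv_mem hb)
                    rw [← (omega_comm hc (mul_mem hu hv)).eq, mul_inv_cancel_right]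
      exact (mul_inv_eq_iff_eq_mul.1 hconj).symm)
    exact (mem_centralizer_singleton_iff.1 (hle hz)).symm
  replace hw : w ∈ modE p E ⊔ (W ⊓ centralizer (E : Set G)) := hf.mod_sup.ge hw
  rw [← SetLike.mem_coe, coe_mul_of_left_le_normalizer_right _ _ (fun x hx =>
    normalizer_E_le_normalizer_Z E (le_normalizer (H75.pCoreOf_le E
      (omega_le_core E (hf.mod_le hx)))))] at hw
  obtain ⟨u, hu, z, hz, rfl⟩ := hw
  exact Commute.mul_right (hgM u hu).symm (hZ z hz)

variable {T T' : Sylow p G} {E F : Subgroup G}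

/-- `E ∩ Ω₁(Z(O_p(G))) ≤ W`. -/
theorem inf_omega_le (hf : Facts p (T : Subgroup G) E) :
    E ⊓ Cfsg.omegaOneCenter p (Cfsg.pCore p G) ≤ Cfsg.omegaOneCenter p (Cfsg.pCoreOf p E) := by
  set Q := Cfsg.pCoreOf p E with hQ
  set W := Cfsg.omegaOneCenter p Q with hW
  set V := Cfsg.omegaOneCenter p (Cfsg.pCore p G) with hV
  have := H1.pCore_normal' p G
  have hVn : ∀ g : G, g ∈ normalizer (V : Set G) := fun g =>
    normalizer_le_normalizer_omegaOneCenter _ (by rw [normalizer_eq_top]; trivial)
  set U := E ⊓ V with hU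
  have hUp : IsPGroup p U := (H1.isPGroup_pCore p G).to_le
    fun x hx => (mem_omegaOneCenter.1 hx.2).1.1
  have hEU : E ≤ normalizer (U : Set G) :=
    (le_inf le_normalizer fun g _ => hVn g).trans (H75.normalizer_inf_le_normalizer_inf _ _)
  have hUQ : U ≤ Q := H75.le_pCoreOf inf_le_left hEU hUp
  rcases hf.irrQ with hq | hq
  · exact hUQ.trans hq.le
  rcases hq.irr (U ⊔ W) le_sup_right (sup_le hUQ hq.le)
    ((le_inf hEU hf.irrW.norm).trans (H75.normalizer_inf_le_normalizer_sup _ _)) with he | he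
  · exact le_sup_left.trans he.le
  intro x hx
  refine mem_omegaOneCenter.2 ⟨⟨hUQ hx, ?_⟩, (mem_omegaOneCenter.1 hx.2).2⟩
  intro q hq'
  have : U ⊔ W ≤ centralizer ({x} : Set G) := sup_le
    (fun u hu => mem_centralizer_singleton_iff.2
      ((mem_omegaOneCenter.1 hx.2).1.2 u (mem_omegaOneCenter.1 hu.2).1.1))
    (fun w hw => mem_centralizer_singleton_iff.2 (omega_comm (hUQ hx) hw).eq.symm)
  exact mem_centralizer_singleton_iff.1 (this (he.ge hq'))

/-- `⁅U, F⁆ ≤ C(F)` forces `F` to centralise the `p`-group `U`. -/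
theorem le_centralizer_of_commutator_le (hf : Facts p (T : Subgroup G) F) {U : Subgroup G}
    (hU : IsPGroup p U) (hFU : F ≤ normalizer (U : Set G))
    (h : ⁅U, F⁆ ≤ centralizer (F : Set G)) : U ≤ centralizer (F : Set G) := fun u hu f hfF =>
  (hf.commute_of_fixed hU
    (fun e he => mul_mem (H75.conj_mem_of_mem_normalizer (hFU he) hu) (inv_mem hu))
    (fun e he => by rw [← commutatorElement_inv]; exact inv_mem (h (commutator_mem_commutator hu he)))
    f hfF).eq

/-- **Mutually normalising blocks commute or share `W_E`.** -/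
theorem commute_or_modE_eq (hG : centralizer (Cfsg.pCore p G : Set G) ≤ Cfsg.pCore p G)
    (hE : Cfsg.IsBaumannBlock p (T : Subgroup G) E) (hF : Cfsg.IsBaumannBlock p (T' : Subgroup G) F)
    (hQP : Cfsg.pCoreOf p E ≤ Cfsg.pCore p G)
    (hEF : E ≤ normalizer (F : Set G)) (hFE : F ≤ normalizer (E : Set G))
    (hD : ⁅E, F⁆ ≤ Cfsg.pCore p G) : ⁅E, F⁆ = ⊥ ∨ modE p E = modE p F := by
  have hfE := facts_of_block hE
  have hfF := facts_of_block hF
  set P0 := Cfsg.pCore p G with hP0
  set Q := Cfsg.pCoreOf p E with hQ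
  set W := Cfsg.omegaOneCenter p Q with hW
  set D := ⁅E, F⁆ with hD'
  have hP : IsPGroup p P0 := H1.isPGroup_pCore p G
  have hDE : D ≤ E := H1.commutator_le_left_of_le_normalizer hFE
  have hEW : E ≤ normalizer (W : Set G) := hfE.irrW.norm
  have hFW : F ≤ normalizer (W : Set G) := hFE.trans (normalizer_E_le_normalizer_pCore_omega E)
  have hWE : W ≤ E := (omega_le_core E).trans (H75.pCoreOf_le E)
  set X := ⁅W, F⁆ with hX
  have hXW : X ≤ W := H1.commutator_le_left_of_le_normalizer hFW
  have hXF : X ≤ F := by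
    rw [hX, commutator_comm]
    exact H1.commutator_le_left_of_le_normalizer (hWE.trans hEF)
  have hEX : E ≤ normalizer (X : Set G) :=
    (le_inf hEW hEF).trans (H75.normalizer_inf_le_normalizer_commutator _ _)
  have hmod : modE p E ≤ W := hfE.mod_le
  by_cases hXc : X ≤ centralizer (E : Set G)
  · by_cases hQF : ⁅Q, F⁆ ≤ W
    · left
      have hDQ : D ≤ Q := H75.le_pCoreOf hDE H1.left_le_normalizer_commutator (hP.to_le hD)
      have hstep : ∀ (K : Subgroup G), K ≤ D → ⁅K, F⁆ ≤ ⁅D, F⁆ := fun K hK => commutator_mono hK le_rfl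
      have hDD : D ≤ ⁅D, F⁆ := by
        refine H74.PRed.commutator_le_of_closure hfF.res.symm H1.right_le_normalizer_commutator
          fun e he x hx => ?_
        have hc : ⁅e, x⁆ ∈ D := commutator_mem_commutator he hx.1
        have hc' : ⁅x, e⁆ ∈ D := by rw [← commutatorElement_inv]; exact inv_mem hc
        have hDF : D ≤ F := by
          rw [hD', commutator_comm]; exact H1.commutator_le_left_of_le_normalizer hEF
        rw [← commutatorElement_inv]
        refine inv_mem (mem_of_coprime_step (hP.to_le hD) hx.2 hc' ?_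
          (H1.right_le_normalizer_commutator hx.1) (H1.right_le_normalizer_commutator (hDF hc')))
        rw [← commutatorElement_inv]
        exact inv_mem (commutator_mem_commutator hc' hx.1)
      have hDc : D ≤ centralizer (E : Set G) :=
        hDD.trans ((commutator_mono (hDD.trans ((commutator_mono hDQ le_rfl).trans hQF)) le_rfl).trans hXc)
      have hcomm : E ≤ centralizer (F : Set G) := hfE.res.ge.trans ((closure_le _).2 fun e he f hfF' =>
        ((H75.commute_of_coprime_step (hP.to_le hD) he.2 (commutator_mem_commutator he.1 hfF')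
          (hDc (commutator_mem_commutator he.1 hfF') e he.1)).eq).symm)
      exact commutator_eq_bot_iff_le_centralizer.2 hcomm
    · -- `F` centralises `W_E`, so it is trivial on `Q / W`
      exfalso
      refine hQF ?_
      have hDQ : D ≤ Q := H75.le_pCoreOf hDE H1.left_le_normalizer_commutator (hP.to_le hD)
      have h3 : ⁅modE p E, F⁆ = ⊥ := by
        refine commutator_commutator_eq_bot_of_rotate ?_ ?_
        · rw [commutator_eq_bot_iff_le_centralizer]
          exact hDQ.trans fun q hq w hw => ((omega_comm hq hw).eq).symm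
        · rw [commutator_comm F W, commutator_eq_bot_iff_le_centralizer]
          exact hXc
      rw [commutator_eq_bot_iff_le_centralizer, le_centralizer_iff] at h3
      rw [commutator_le]
      intro q hq f hfF'
      rw [← commutatorElement_inv]
      exact inv_mem (commutator_mem_omega hG hE hQP
        (H75.normalizer_le_normalizer_pCoreOf E (hFE hfF')) (h3 hfF') q hq)
  · right
    have hV := hfE.mod_le_omega hG (pCore_le_normalizer hE)
    have hUX : modE p E ≤ X := hfE.mod_min hXW hEX hXc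
    have hUW' : modE p E ≤ Cfsg.omegaOneCenter p (Cfsg.pCoreOf p F) :=
      (le_inf (hUX.trans hXF) hV).trans (inf_omega_le hfF)
    have hUp : IsPGroup p (modE p E : Subgroup G) :=
      (H75.isPGroup_pCoreOf E).to_le (hmod.trans (omega_le_core E))
    have hnE : normalizer (E : Set G) ≤ normalizer ((modE p E : Subgroup G) : Set G) :=
      normalizer_E_le_normalizer_modE E
    set Y := ⁅modE p E, F⁆ with hY
    have hYU : Y ≤ modE p E := H1.commutator_le_left_of_le_normalizer (hFE.trans hnE)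
    have hEY : E ≤ normalizer (Y : Set G) :=
      (le_inf (le_normalizer.trans hnE) hEF).trans (H75.normalizer_inf_le_normalizer_commutator _ _)
    have hYc : ¬ Y ≤ centralizer (E : Set G) := by
      intro hle
      refine hXc ?_
      rw [hX, commutator_le]
      intro w hw f hfF'
      have hw' := hw
      rw [hW, ← hfE.mod_sup, ← SetLike.mem_coe, coe_mul_of_left_le_normalizer_right _ _ (fun x hx =>
        normalizer_E_le_normalizer_Z E (le_normalizer (hWE (hmod hx))))] at hw'
      obtain ⟨u, hu, z, hz, rfl⟩ := hw'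
      rw [show ⁅u * z, f⁆ = u * ⁅z, f⁆ * u⁻¹ * ⁅u, f⁆ by simp [commutatorElement_def, mul_assoc]]
      refine mul_mem (H75.conj_mem_of_mem_normalizer
        (H75.normalizer_le_normalizer_centralizer E (le_normalizer (hWE (hmod hu)))) ?_)
        (hle (commutator_mem_commutator hu hfF'))
      rw [commutatorElement_def, mul_assoc, mul_assoc, ← mul_assoc f]
      exact mul_mem hz.2 (H75.conj_mem_of_mem_normalizer
        (H75.normalizer_le_normalizer_centralizer E (hFE hfF')) (inv_mem hz.2))
    have hUY : modE p E ≤ Y := hfE.mod_min (hYU.trans hmod) hEY hYc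
    refine le_antisymm (hUY.trans (commutator_mono hUW' le_rfl))
      (hfF.mod_min hUW' (hFE.trans hnE) fun hle => hYc ?_)
    rw [show Y = ⊥ from commutator_eq_bot_iff_le_centralizer.2 hle]
    exact bot_le

/-- If `W_E = W_F` then `F / Q'` is abelian. -/
theorem commutator_le_core_of_modE_eq (hE : Cfsg.IsBaumannBlock p (T : Subgroup G) E)
    (hF : Cfsg.IsBaumannBlock p (T' : Subgroup G) F)
    (hFE : F ≤ normalizer (E : Set G)) (hEF : E ≤ normalizer (F : Set G))
    (hD : ⁅F, E⁆ ≤ Cfsg.pCoreOf p E) (hU : modE p E = modE p F) :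
    ⁅F, F⁆ ≤ Cfsg.pCoreOf p F := by
  have hfE := facts_of_block hE
  have hfF := facts_of_block hF
  set W := Cfsg.omegaOneCenter p (Cfsg.pCoreOf p E) with hW
  set Z := W ⊓ centralizer (E : Set G) with hZ
  have hWab : ∀ a b : W, a * b = b * a := fun a b =>
    Subtype.ext (omega_comm (omega_le_core E a.2) b.2).eq
  haveI : (Z.subgroupOf W).Normal := ⟨fun a ha b => by rwa [hWab b a, mul_inv_cancel_right]⟩
  let S : Sec G (Additive (Abelianization (W ⧸ Z.subgroupOf W))) :=
    { U := W, U₀ := Z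
      ψ :=
        { toFun := fun u => Multiplicative.ofAdd (Additive.ofMul (Abelianization.of
            (QuotientGroup.mk' (Z.subgroupOf W) u)))
          map_one' := by simp
          map_mul' := fun a b => by simp }
      surj := fun a => by
        obtain ⟨v, hv⟩ := QuotientGroup.mk'_surjective _ (Additive.toMul (Multiplicative.toAdd a))
        obtain ⟨u, hu⟩ := QuotientGroup.mk'_surjective _ v
        refine ⟨u, ?_⟩
        show Multiplicative.ofAdd (Additive.ofMul (Abelianization.of (QuotientGroup.mk' _ u))) = a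
        rw [hu]
        exact congrArg (fun x => Multiplicative.ofAdd (Additive.ofMul x)) hv
      ker := fun u => by
        change Abelianization.of (QuotientGroup.mk' _ u) = 1 ↔ _
        have hc : commutator (W ⧸ Z.subgroupOf W) = ⊥ := by
          rw [_root_.commutator_def, eq_bot_iff, commutator_le]
          intro a _ b _
          obtain ⟨a, rfl⟩ := QuotientGroup.mk'_surjective _ a
          obtain ⟨b, rfl⟩ := QuotientGroup.mk'_surjective _ b
          rw [mem_bot, ← map_commutatorElement, commutatorElement_eq_one_iff_mul_comm.2 (hWab a b),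
            map_one]
        rw [← MonoidHom.mem_ker, Abelianization.ker_of, hc, mem_bot, ← MonoidHom.mem_ker,
          QuotientGroup.ker_mk', mem_subgroupOf] }
  have hnz : ∀ {g : G}, g ∈ normalizer (E : Set G) → g ∈ S.Nz := fun {g} hg => S.mem_Nz.2
    ⟨normalizer_E_le_normalizer_pCore_omega E hg, normalizer_E_le_normalizer_Z E hg⟩
  let A := Additive (Abelianization (W ⧸ Z.subgroupOf W))
  haveI : Finite (AddMonoid.End A) :=
    Finite.of_injective (fun f : AddMonoid.End A => (f : A → A)) DFunLike.coe_injective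
  let Dg : Subring (AddMonoid.End A) :=
    { carrier := {φ | ∀ e ∈ E, ∀ a, φ (S.act e a) = S.act e (φ a)}
      one_mem' := fun _ _ _ => rfl
      mul_mem' := fun {φ ψ} hφ hψ e he a => (congrArg φ (hψ e he a)).trans (hφ e he (ψ a))
      zero_mem' := fun e he _ => (S.act_zero (hnz (le_normalizer he))).symm
      add_mem' := fun {φ ψ} hφ hψ e he a => (congrArg₂ (· + ·) (hφ e he a) (hψ e he a)).trans
        (S.act_add (hnz (le_normalizer he)) _ _).symm
      neg_mem' := fun {φ} hφ e he a => (congrArg (fun x => -x) (hφ e he a)).trans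
        (S.act_neg (hnz (le_normalizer he)) _).symm }
  -- nonzero members are injective
  have hinj : ∀ φ : Dg, φ ≠ 0 → ∀ a, (φ : AddMonoid.End A) a = 0 → a = 0 := by
    intro φ hφ
    let X : Subgroup G :=
      { carrier := {w | w ∈ W ∧ (φ : AddMonoid.End A) (S.img w) = 0}
        one_mem' := ⟨one_mem _, by rw [S.img_one, map_zero]⟩
        mul_mem' := fun {a b} ha hb => ⟨mul_mem ha.1 hb.1, by
          rw [S.img_mul ha.1 hb.1, map_add, ha.2, hb.2, add_zero]⟩
        inv_mem' := fun {a} ha => ⟨inv_mem ha.1, by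
          rw [S.img_inv ha.1, map_neg, ha.2, neg_zero]⟩ }
    have hXE : E ≤ normalizer (X : Set G) := by
      rw [le_normalizer_iff]
      intro e he w hw
      refine ⟨H75.conj_mem_of_mem_normalizer (hfE.irrW.norm he) hw.1, ?_⟩
      rw [← S.act_img (hnz (le_normalizer he)) hw.1, φ.2 e he, hw.2,
        S.act_zero (hnz (le_normalizer he))]
    rcases hfE.irrW.irr X (fun z hz => ⟨hz.1, by rw [(S.img_eq_zero hz.1).2 hz, map_zero]⟩)
      (fun w hw => hw.1) hXE with h | h
    · intro a ha
      obtain ⟨w, hw, rfl⟩ := S.exists_img a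
      exact (S.img_eq_zero hw).2 (h.le ⟨hw, ha⟩)
    · refine absurd (Subtype.ext (AddMonoidHom.ext fun a => ?_)) hφ
      obtain ⟨w, hw, rfl⟩ := S.exists_img a
      exact (h.ge hw).2
  haveI : Nontrivial Dg := by
    refine ⟨⟨0, 1, fun h => hfE.irrW.nontriv ?_⟩⟩
    have hall : ∀ w ∈ W, w ∈ Z := fun w hw => (S.img_eq_zero hw).1
      (DFunLike.congr_fun (congrArg Subtype.val h) (S.img w)).symm
    exact (H1.commutator_le_left_of_le_normalizer hfE.irrW.norm).trans hall
  haveI : NoZeroDivisors Dg := ⟨fun {a b} hab => by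
    by_contra h
    push Not at h
    obtain ⟨ha, hb⟩ := h
    refine hb (Subtype.ext (AddMonoidHom.ext fun x => hinj a ha _ ?_))
    exact DFunLike.congr_fun (congrArg Subtype.val hab) x⟩
  haveI : IsDomain Dg := NoZeroDivisors.to_isDomain _
  have hfield := Finite.isDomain_to_isField Dg
  have hmem : ∀ f, f ∈ F → ∀ e ∈ E, ∀ a, S.act f (S.act e a) = S.act e (S.act f a) := fun f hf' e he =>
    (S.act_comm_iff (hnz (hFE hf')) (hnz (le_normalizer he))).1 (by
      have hc := hD (commutator_mem_commutator hf' he)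
      exact ⟨hnz (le_normalizer (H75.pCoreOf_le E hc)), fun w hw =>
        (core_fix hc hw).symm ▸ one_mem _⟩)
  rw [commutator_le]
  intro f hf' g hg
  have htriv : ⁅f, g⁆ ∈ S.triv := (S.act_comm_iff (hnz (hFE hf')) (hnz (hFE hg))).2 fun a =>
    DFunLike.congr_fun (congrArg Subtype.val (hfield.mul_comm
      (⟨S.actHom (hnz (hFE hf')), hmem f hf'⟩ : Dg) ⟨S.actHom (hnz (hFE hg)), hmem g hg⟩)) a
  have hc : ⁅f, g⁆ ∈ F := mul_mem (mul_mem (mul_mem hf' hg) (inv_mem hf')) (inv_mem hg)
  -- `W_E ∩ C(E) ≤ C(F)`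
  have hU0 : modE p E ⊓ centralizer (E : Set G) ≤ centralizer (F : Set G) := by
    by_contra hn
    refine hfE.not_mod_le_centralizer ?_
    rw [hU]
    exact (hfF.mod_min (inf_le_left.trans (hU.le.trans hfF.mod_le))
      ((le_inf (hFE.trans (normalizer_E_le_normalizer_modE E))
        (hFE.trans (H75.normalizer_le_normalizer_centralizer E))).trans
        (H75.normalizer_inf_le_normalizer_inf _ _)) hn).trans inf_le_right
  refine mem_core_of_fix hF hc fun w hw => ?_
  rw [← hfF.mod_sup, ← SetLike.mem_coe, coe_mul_of_left_le_normalizer_right _ _ (fun x hx =>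
    normalizer_E_le_normalizer_Z F (le_normalizer (H75.pCoreOf_le F
      (omega_le_core F (hfF.mod_le hx)))))] at hw
  obtain ⟨u, hu, z, hz, rfl⟩ := hw
  have hzc : ⁅⁅f, g⁆, z⁆ = 1 := commutatorElement_eq_one_iff_mul_comm.2 (hz.2 _ hc)
  have key : ∀ a b c : G, ⁅a, b * c⁆ = ⁅a, b⁆ * (b * ⁅a, c⁆ * b⁻¹) := fun a b c => by
    simp [commutatorElement_def, mul_assoc]
  rw [key, hzc, mul_one, mul_inv_cancel, mul_one]
  have hnU : ⁅f, g⁆ ∈ normalizer ((modE p F : Subgroup G) : Set G) :=
    normalizer_E_le_normalizer_modE F (le_normalizer hc)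
  have hcu : ⁅⁅f, g⁆, u⁆ ∈ modE p F :=
    mul_mem (H75.conj_mem_of_mem_normalizer hnU hu) (inv_mem hu)
  refine ⟨hfF.mod_le hcu, hU0 ⟨hU.ge hcu, (htriv.2 u (hfE.mod_le (hU.ge hu))).2⟩⟩

end H78.Block
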