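import Cfsg.Agent.H78.BlockKernel

/-!
Small blocks: `SL₂(2)'`, `SL₂(3)'` and `A₃`.
-/

set_option autoImplicit false
set_option linter.unusedSectionVars false

open Subgroup
open scoped MatrixGroups commutatorElement

namespace H78.Block

variable {G : Type*} [Group G] [Finite G] {p : ℕ} [Fact p.Prime]

/-- The action of a small block on `W_E`. -/
structure SmallData (p : ℕ) (E : Subgroup G) : Prop where
  prime : p = 2 ∨ p = 3
  card : Nat.card (modE p E : Subgroup G) = p ^ 2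
  inf_bot : modE p E ⊓ centralizer (E : Set G) = ⊥
  fix : ∀ x ∈ E, ∀ u ∈ modE p E, u ≠ 1 → Commute x u → ∀ v ∈ modE p E, Commute x v
  trans : ∀ u ∈ modE p E, ∀ v ∈ modE p E, u ≠ 1 → v ≠ 1 → ∃ x ∈ E, x * u * x⁻¹ = v
  inv3 : p = 3 → ∀ x ∈ E, (∀ u ∈ modE p E, Commute x u) ∨ (∀ u ∈ modE p E, x * u * x⁻¹ = u⁻¹) ∨
    (∀ u ∈ modE p E, x * x * u * (x * x)⁻¹ = u⁻¹)
  exists_inv : p = 3 → ∃ x ∈ E, ∀ u ∈ modE p E, x * x * u * (x * x)⁻¹ = u⁻¹
  solv : Group.IsSolvable E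

/-- A central element of order prime to `p` of `E / Q` has no fixed points on `W_E`. -/
theorem mod_inf_centralizer_singleton {T : Sylow p G} {E : Subgroup G}
    (hf : Facts p (T : Subgroup G) E) {h : G} (hh : h ∈ E) {k : ℕ} (hk : k.Coprime p)
    (hpow : ∀ w ∈ Cfsg.omegaOneCenter p (Cfsg.pCoreOf p E), Commute (h ^ k) w)
    (hcen : ∀ e ∈ E, ∀ w ∈ Cfsg.omegaOneCenter p (Cfsg.pCoreOf p E), Commute ⁅h, e⁆ w)
    (hnt : ∃ w ∈ Cfsg.omegaOneCenter p (Cfsg.pCoreOf p E),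
      ⁅h, w⁆ ∉ centralizer (E : Set G)) :
    modE p E ⊓ centralizer ({h} : Set G) = ⊥ := by
  set W := Cfsg.omegaOneCenter p (Cfsg.pCoreOf p E) with hW
  have hn : E ≤ normalizer (W : Set G) := hf.irrW.norm
  have hcomm : ∀ {u v : G}, u ∈ W → v ∈ W → u * v = v * u := fun {u v} hu hv =>
    ((mem_omegaOneCenter.1 hv).1.2 u (mem_omegaOneCenter.1 hu).1.1)
  have hin : ∀ {w : G}, w ∈ W → ⁅h, w⁆ ∈ W := fun {w} hw =>
    mul_mem (H75.conj_mem_of_mem_normalizer (hn hh) hw) (inv_mem hw)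
  let X : Subgroup G :=
    { carrier := {c | ∃ w ∈ W, ⁅h, w⁆ = c}
      one_mem' := ⟨1, one_mem _, by simp⟩
      mul_mem' := fun {a b} ha hb => by
        obtain ⟨u, hu, rfl⟩ := ha
        obtain ⟨v, hv, rfl⟩ := hb
        refine ⟨u * v, mul_mem hu hv, ?_⟩
        rw [show ⁅h, u * v⁆ = ⁅h, u⁆ * (u * ⁅h, v⁆ * u⁻¹) by
          simp [commutatorElement_def, mul_assoc]]
        rw [hcomm hu (hin hv), mul_inv_cancel_right]
      inv_mem' := fun {a} ha => by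
        obtain ⟨u, hu, rfl⟩ := ha
        refine ⟨u⁻¹, inv_mem hu, ?_⟩
        rw [show ⁅h, u⁻¹⁆ = u⁻¹ * ⁅h, u⁆⁻¹ * u by simp [commutatorElement_def, mul_assoc],
          hcomm (inv_mem hu) (inv_mem (hin hu)), inv_mul_cancel_right] }
  have hXW : X ≤ W := by
    rintro c ⟨w, hw, rfl⟩
    exact hin hw
  have hEX : E ≤ normalizer (X : Set G) := by
    rw [le_normalizer_iff]
    rintro e he c ⟨w, hw, rfl⟩
    have hw' : e * w * e⁻¹ ∈ W := H75.conj_mem_of_mem_normalizer (hn he) hw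
    refine ⟨e * w * e⁻¹, hw', ?_⟩
    have hcx : Commute ⁅h, e⁆ (e * (h * w * h⁻¹) * e⁻¹) := hcen e he _
      (H75.conj_mem_of_mem_normalizer (hn he) (H75.conj_mem_of_mem_normalizer (hn hh) hw))
    calc ⁅h, e * w * e⁻¹⁆
        = ⁅h, e⁆ * (e * (h * w * h⁻¹) * e⁻¹) * ⁅h, e⁆⁻¹ * (e * w * e⁻¹)⁻¹ := by
          simp [commutatorElement_def, mul_assoc]
      _ = e * (h * w * h⁻¹) * e⁻¹ * (e * w * e⁻¹)⁻¹ := by
          rw [hcx.eq, mul_inv_cancel_right]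
      _ = e * ⁅h, w⁆ * e⁻¹ := by simp [commutatorElement_def, mul_assoc]
  have hUX : modE p E ≤ X := hf.mod_min hXW hEX fun hle => by
    obtain ⟨w, hw, hwc⟩ := hnt
    exact hwc (hle ⟨w, hw, rfl⟩)
  rw [eq_bot_iff]
  rintro c ⟨hc, hcc⟩
  rw [mem_bot]
  obtain ⟨w, hw, rfl⟩ := hUX hc
  have hch : Commute h ⁅h, w⁆ := (mem_centralizer_singleton_iff.1 hcc).symm
  have key : ∀ n : ℕ, h ^ n * w * (h ^ n)⁻¹ = ⁅h, w⁆ ^ n * w := by
    intro n
    induction n with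
    | zero => simp
    | succ n ih =>
      calc h ^ (n + 1) * w * (h ^ (n + 1))⁻¹ = h * (h ^ n * w * (h ^ n)⁻¹) * h⁻¹ := by
            rw [pow_succ']; group
        _ = (h * ⁅h, w⁆ ^ n) * w * h⁻¹ := by rw [ih]; group
        _ = ⁅h, w⁆ ^ n * ⁅h, w⁆ * w := by
            rw [(hch.pow_right n).eq, commutatorElement_def]; group
        _ = _ := by rw [pow_succ]
  have h1 : ⁅h, w⁆ ^ k = 1 := by
    have := key k
    rw [(hpow w hw).eq, mul_inv_cancel_right] at this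
    simpa using this.symm
  exact H75.eq_one_of_pow_eq_one_coprime ((H75.isPGroup_pCoreOf E).to_le
    fun x hx => (mem_omegaOneCenter.1 hx).1.1) (hin hw) hk h1

/-- `SmallData` from a finite model of the action on `W / Z`. -/
theorem smallData_of_model {T : Sylow p G} {E : Subgroup G}
    (hE : Cfsg.IsBaumannBlock p (T : Subgroup G) E) {A : Type} [AddCommGroup A] {H : Type}
    [Group H] (act0 : H → A → A) (S : Sec G A) (ρ : E →* H)
    (hU : S.U = Cfsg.omegaOneCenter p (Cfsg.pCoreOf p E))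
    (hU₀ : S.U₀ = Cfsg.omegaOneCenter p (Cfsg.pCoreOf p E) ⊓ centralizer (E : Set G))
    (hact : ∀ (e : E) a, S.act (e : G) a = act0 (ρ e) a)
    (hprime : p = 2 ∨ p = 3) (hA : Nat.card A = p ^ 2)
    (mfix : ∀ s ∈ ρ.range, ∀ a : A, a ≠ 0 → act0 s a = a → ∀ b, act0 s b = b)
    (mtrans : ∀ a b : A, a ≠ 0 → b ≠ 0 → ∃ s ∈ ρ.range, act0 s a = b)
    (mh : ∃ s ∈ ρ.range, ∃ k : ℕ, k.Coprime p ∧ s ^ k = 1 ∧ (∃ a, act0 s a ≠ a) ∧
      ∀ t ∈ ρ.range, s * t = t * s)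
    (mr : ∃ r : ℕ, r.Prime ∧ ∀ s ∈ ρ.range, s ^ r ^ 2 = 1)
    (m3 : p = 3 → (∀ s ∈ ρ.range, (∀ a, act0 s a = a) ∨ (∀ a, act0 s a = -a) ∨
      (∀ a, act0 (s * s) a = -a)) ∧ ∃ s ∈ ρ.range, ∀ a, act0 (s * s) a = -a) :
    SmallData p E := by
  have hf := facts_of_block hE
  set W := Cfsg.omegaOneCenter p (Cfsg.pCoreOf p E) with hW
  have hnz : ∀ {e : G}, e ∈ E → e ∈ S.Nz := fun {e} he => S.mem_Nz.2
    ⟨hU ▸ hf.irrW.norm he, hU₀ ▸ normalizer_E_le_normalizer_Z E (le_normalizer he)⟩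
  have act1 : ∀ a, act0 1 a = a := fun a => by
    rw [← map_one ρ, ← hact]; exact S.act_one a
  have hQ : ∀ {e : E}, ρ e = 1 → (e : G) ∈ Cfsg.pCoreOf p E := fun {e} he =>
    mem_core_of_fix hE e.2 fun w hw => by
      have ht := ((S.mem_triv_iff (hnz e.2)).2 fun a => by rw [hact, he, act1]).2 w (hU ▸ hw)
      rwa [hU₀] at ht
  -- `U ⊓ Z = ⊥`
  have hbot : modE p E ⊓ centralizer (E : Set G) = ⊥ := by
    obtain ⟨_, ⟨h, rfl⟩, k, hk, hsk, ⟨a, ha⟩, hcen⟩ := mh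
    refine eq_bot_iff.2 ((inf_le_inf_left _ (centralizer_le
      (Set.singleton_subset_iff.2 h.2))).trans (mod_inf_centralizer_singleton hf h.2 hk
      (fun w hw => ?_) (fun e he w hw => ?_) ?_).le)
    · have := hQ (e := h ^ k) (by rw [map_pow, hsk])
      exact commutatorElement_eq_one_iff_commute.1 (core_fix (by simpa using this) hw)
    · have := hQ (e := ⁅h, (⟨e, he⟩ : E)⁆) (by
        rw [map_commutatorElement, commutatorElement_eq_one_iff_mul_comm]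
        exact hcen _ ⟨_, rfl⟩)
      exact commutatorElement_eq_one_iff_commute.1
        (core_fix (by simpa [commutatorElement_def] using this) hw)
    · obtain ⟨w, hw, rfl⟩ := S.exists_img a
      refine ⟨w, hU.le hw, fun hc => ha ?_⟩
      have h0 := (S.img_eq_zero (S.commutator_mem_U (hnz h.2) hw)).2 (by
        rw [hU₀]
        exact ⟨hU.le (S.commutator_mem_U (hnz h.2) hw), hc⟩)
      rw [S.img_commutator (hnz h.2) hw, hact, sub_eq_zero] at h0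
      exact h0
  have hUW : ∀ {u : G}, u ∈ modE p E → u ∈ S.U := fun hu => hU ▸ hf.mod_le hu
  have hinj : ∀ {u v : G}, u ∈ modE p E → v ∈ modE p E → S.img u = S.img v → u = v := by
    intro u v hu hv h
    have h1 := (S.img_eq_zero (mul_mem (inv_mem (hUW hu)) (hUW hv))).1 (by
      rw [S.img_mul (inv_mem (hUW hu)) (hUW hv), S.img_inv (hUW hu), h, neg_add_cancel])
    rw [hU₀] at h1
    have : u⁻¹ * v ∈ (⊥ : Subgroup G) := hbot.le (mem_inf.2 ⟨mul_mem (inv_mem hu) hv, h1.2⟩)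
    exact inv_mul_eq_one.1 (mem_bot.1 this)
  have hsurj : ∀ a, ∃ u ∈ modE p E, S.img u = a := by
    intro a
    obtain ⟨w, hw, rfl⟩ := S.exists_img a
    rw [hU, hW, ← hf.mod_sup, ← SetLike.mem_coe, coe_mul_of_left_le_normalizer_right _ _
      ((le_inf le_rfl le_rfl).trans (fun x hx => normalizer_E_le_normalizer_Z E
        (le_normalizer ((H75.pCoreOf_le E) (mem_omegaOneCenter.1 (hf.mod_le hx.1)).1.1))))] at hw
    obtain ⟨u, hu, z, hz, rfl⟩ := hw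
    refine ⟨u, hu, ?_⟩
    have hzU : z ∈ S.U := hU ▸ hz.1
    rw [S.img_mul (hUW hu) hzU, (S.img_eq_zero hzU).2 (hU₀ ▸ hz), add_zero]
  have hne : ∀ {u : G}, u ∈ modE p E → u ≠ 1 → S.img u ≠ 0 := fun hu h1 h0 =>
    h1 (hinj hu (one_mem _) (by rw [h0, S.img_one]))
  have hmem : ∀ {e u : G}, e ∈ E → u ∈ modE p E → e * u * e⁻¹ ∈ modE p E := fun he hu =>
    H75.conj_mem_of_mem_normalizer (normalizer_E_le_normalizer_modE _ (le_normalizer he)) hu
  have himg : ∀ (e : E) {u : G}, u ∈ modE p E →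
      S.img ((e : G) * u * (e : G)⁻¹) = act0 (ρ e) (S.img u) := fun e u hu => by
    rw [← hact, S.act_img (hnz e.2) (hUW hu)]
  have hcomm : ∀ {e u : G}, e * u * e⁻¹ = u → Commute e u := fun h => mul_inv_eq_iff_eq_mul.1 h
  refine ⟨hprime, ?_, hbot, ?_, ?_, ?_, ?_, ?_⟩
  · rw [← hA]
    exact Nat.card_congr (Equiv.ofBijective (fun u : (modE p E : Subgroup G) => S.img u)
      ⟨fun u v h => Subtype.ext (hinj u.2 v.2 h),
        fun a => let ⟨u, hu, h⟩ := hsurj a; ⟨⟨u, hu⟩, h⟩⟩)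
  · intro x hx u hu hu1 hxu v hv
    refine hcomm (hinj (hmem hx hv) hv ?_)
    rw [himg ⟨x, hx⟩ hv]
    refine mfix _ ⟨_, rfl⟩ _ (hne hu hu1) ?_ _
    rw [← himg ⟨x, hx⟩ hu]
    simp [hxu.eq]
  · intro u hu v hv hu1 hv1
    obtain ⟨_, ⟨e, rfl⟩, he⟩ := mtrans _ _ (hne hu hu1) (hne hv hv1)
    exact ⟨e, e.2, hinj (hmem e.2 hu) hv (by rw [himg e hu, he])⟩
  · intro h3 x hx
    have hinvimg : ∀ {u : G}, u ∈ modE p E → S.img u⁻¹ = -S.img u := fun hu => S.img_inv (hUW hu)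
    rcases (m3 h3).1 _ ⟨⟨x, hx⟩, rfl⟩ with h | h | h
    · exact Or.inl fun u hu => hcomm (hinj (hmem hx hu) hu (by rw [himg ⟨x, hx⟩ hu, h]))
    · exact Or.inr (Or.inl fun u hu =>
        hinj (hmem hx hu) (inv_mem hu) (by rw [himg ⟨x, hx⟩ hu, h, hinvimg hu]))
    · refine Or.inr (Or.inr fun u hu => hinj (hmem (mul_mem hx hx) hu) (inv_mem hu) ?_)
      rw [himg ⟨_, mul_mem hx hx⟩ hu, hinvimg hu]
      convert h (S.img u) using 2
      exact map_mul ρ ⟨x, hx⟩ ⟨x, hx⟩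
  · intro h3
    obtain ⟨_, ⟨x, rfl⟩, hx⟩ := (m3 h3).2
    refine ⟨x, x.2, fun u hu => hinj (hmem (mul_mem x.2 x.2) hu) (inv_mem hu) ?_⟩
    rw [himg ⟨_, mul_mem x.2 x.2⟩ hu, S.img_inv (hUW hu), ← map_mul ρ] at *
    exact (congrArg (fun e => act0 (ρ e) (S.img u)) (Subtype.ext rfl)).trans (hx _)
  · haveI := H1.pCore_normal' p E
    obtain ⟨r, hr, hpow⟩ := mr
    haveI := Fact.mk hr
    have hq : IsPGroup r (E ⧸ Cfsg.pCore p E) := fun x => by
      obtain ⟨e, rfl⟩ := QuotientGroup.mk'_surjective _ x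
      refine ⟨2, ?_⟩
      rw [← map_pow, QuotientGroup.mk'_apply, QuotientGroup.eq_one_iff]
      obtain ⟨y, hy, hye⟩ := hQ (e := e ^ r ^ 2) (by rw [map_pow, hpow _ ⟨_, rfl⟩])
      have : y = e ^ r ^ 2 := Subtype.ext hye
      exact this ▸ hy
    haveI := hq.isNilpotent
    haveI := (H1.isPGroup_pCore p E).isNilpotent
    exact Group.isSolvable_of_ker_le_range (Cfsg.pCore p E).subtype
      (QuotientGroup.mk' (Cfsg.pCore p E)) (by rw [QuotientGroup.ker_mk', range_subtype])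

end H78.Block
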