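import Cfsg.Agent.H78.BlockModels
import Cfsg.Agent.H78.BlockPair

/-!
Two small blocks normalising each other.
-/

set_option autoImplicit false
set_option linter.unusedSectionVars false

open Subgroup
open scoped commutatorElement

namespace H78.Block

theorem zmod_three_sq : ∀ x : ZMod 3, -1 - x * x ≠ 0 := by decide

variable {G : Type*} [Group G] [Finite G] {p : ℕ} [Fact p.Prime] {T T' : Sylow p G}
  {E F : Subgroup G}

omit [Finite G] [Fact p.Prime] in
theorem SmallData.ne_bot (h : SmallData p E) [hp : Fact p.Prime] :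
    (modE p E : Subgroup G) ≠ ⊥ := fun hb => by
  have := h.card
  rw [hb, Subgroup.card_bot] at this
  exact absurd this.symm (one_lt_pow₀ hp.out.one_lt two_ne_zero).ne'

theorem SmallData.inf_eq_bot_or_eq (hE : Cfsg.IsBaumannBlock p (T : Subgroup G) E)
    (hF : Cfsg.IsBaumannBlock p (T' : Subgroup G) F) (dE : SmallData p E) (dF : SmallData p F)
    (hEF : E ≤ normalizer (F : Set G)) (hFE : F ≤ normalizer (E : Set G)) :
    modE p E ⊓ modE p F = ⊥ ∨ modE p E = modE p F := by
  by_cases h : modE p E ⊓ modE p F = ⊥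
  · exact Or.inl h
  right
  have hX : E ⊔ F ≤ normalizer ((modE p E ⊓ modE p F : Subgroup G) : Set G) :=
    (le_inf ((sup_le le_normalizer hFE).trans (normalizer_E_le_normalizer_modE E))
      ((sup_le hEF le_normalizer).trans (normalizer_E_le_normalizer_modE F))).trans
      (H75.normalizer_inf_le_normalizer_inf _ _)
  refine le_antisymm (le_trans ((facts_of_block hE).mod_min
    (inf_le_left.trans (facts_of_block hE).mod_le) (le_sup_left.trans hX) fun hle =>
      h (le_bot_iff.1 (dE.inf_bot ▸ le_inf inf_le_left hle))) inf_le_right) ?_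
  exact le_trans ((facts_of_block hF).mod_min
    (inf_le_right.trans (facts_of_block hF).mod_le) (le_sup_right.trans hX) fun hle =>
      h (le_bot_iff.1 (dF.inf_bot ▸ le_inf inf_le_right hle))) inf_le_left

/-- Small blocks normalising each other with the same `W_E` are contained in one another. -/
theorem SmallData.le_of_modE_eq (hG : centralizer (Cfsg.pCore p G : Set G) ≤ Cfsg.pCore p G)
    (hE : Cfsg.IsBaumannBlock p (T : Subgroup G) E) (hF : Cfsg.IsBaumannBlock p (T' : Subgroup G) F)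
    (dE : SmallData p E) (dF : SmallData p F)
    (hQE : Cfsg.pCoreOf p E ≤ Cfsg.pCore p G) (hQF : Cfsg.pCoreOf p F ≤ Cfsg.pCore p G)
    (hEF : E ≤ normalizer (F : Set G)) (hFE : F ≤ normalizer (E : Set G))
    (hU : modE p E = modE p F) : F ≤ E := by
  set U := modE p E with hUdef
  set P0 := Cfsg.pCore p G with hP0
  have := H1.pCore_normal' p G
  set N : Subgroup G := (E ⊔ F) ⊓ centralizer (U : Set G) with hN
  have hEFE : E ⊔ F ≤ normalizer (E : Set G) := sup_le le_normalizer hFE
  have hEFF : E ⊔ F ≤ normalizer (F : Set G) := sup_le hEF le_normalizer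
  -- `N` is a `p`-group
  set S := Cfsg.pCoreOf p E ⊔ Cfsg.pCoreOf p F with hS
  have hSn : E ⊔ F ≤ normalizer (S : Set G) :=
    (le_inf (hEFE.trans (H75.normalizer_le_normalizer_pCoreOf E))
      (hEFF.trans (H75.normalizer_le_normalizer_pCoreOf F))).trans
      (H75.normalizer_inf_le_normalizer_sup _ _)
  have hcore : ∀ {T : Sylow p G} {E : Subgroup G}, Cfsg.IsBaumannBlock p (T : Subgroup G) E →
      ∀ x ∈ E, ∀ a ∈ P0, ⁅x, a⁆ ∈ Cfsg.pCoreOf p E := by
    intro T E hE x hx a ha
    have h1 : ⁅P0, E⁆ ≤ P0 := commutator_le_left _ _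
    have h2 : ⁅P0, E⁆ ≤ E := by
      rw [commutator_comm]
      exact H1.commutator_le_left_of_le_normalizer (pCore_le_normalizer hE)
    have h3 := H75.le_pCoreOf (p := p) h2 H1.right_le_normalizer_commutator
      ((H1.isPGroup_pCore p G).to_le h1)
    rw [← commutatorElement_inv]
    exact inv_mem (h3 (commutator_mem_commutator ha hx))
  let K : Subgroup G :=
    { carrier := {g | g ∈ E ⊔ F ∧ ∀ a ∈ P0, ⁅g, a⁆ ∈ S}
      one_mem' := ⟨one_mem _, fun a _ => by simp⟩
      mul_mem' := fun {x y} hx hy => ⟨mul_mem hx.1 hy.1, fun a ha => by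
        rw [show ⁅x * y, a⁆ = x * ⁅y, a⁆ * x⁻¹ * ⁅x, a⁆ by simp [commutatorElement_def, mul_assoc]]
        exact mul_mem (H75.conj_mem_of_mem_normalizer (hSn hx.1) (hy.2 a ha)) (hx.2 a ha)⟩
      inv_mem' := fun {x} hx => ⟨inv_mem hx.1, fun a ha => by
        rw [show ⁅x⁻¹, a⁆ = x⁻¹ * ⁅x, a⁆⁻¹ * x by simp [commutatorElement_def, mul_assoc]]
        exact H75.conj'_mem_of_mem_normalizer (hSn hx.1) (inv_mem (hx.2 a ha))⟩ }
  have hK : E ⊔ F ≤ K := sup_le
    (fun x hx => ⟨mem_sup_left hx, fun a ha => mem_sup_left (hcore hE x hx a ha)⟩)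
    (fun x hx => ⟨mem_sup_right hx, fun a ha => mem_sup_right (hcore hF x hx a ha)⟩)
  have hNp : IsPGroup p N := by
    refine H75.isPGroup_of_no_coprime fun y hy hyo => ?_
    obtain ⟨hy1, hy2⟩ := mem_inf.1 hy
    have hcS : S ≤ centralizer ({y} : Set G) := sup_le
      (fun q hq => mem_centralizer_singleton_iff.2 (commute_core_of_coprime hG hE hQE
        (H75.normalizer_le_normalizer_pCoreOf E (hEFE hy1)) hy2 hyo q hq).eq.symm)
      (fun q hq => mem_centralizer_singleton_iff.2 (commute_core_of_coprime hG hF hQF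
        (H75.normalizer_le_normalizer_pCoreOf F (hEFF hy1)) (hU ▸ hy2) hyo q hq).eq.symm)
    have hP : y ∈ P0 := hG fun a ha => (H75.commute_of_stabilize
      ((H1.isPGroup_pCore p G).to_le (sup_le hQE hQF)) hyo (hK hy1).2
      (fun b hb => (mem_centralizer_singleton_iff.1 (hcS hb)).symm) a ha).symm.eq
    exact H75.eq_one_of_mem_of_coprime (H1.isPGroup_pCore p G) hP hyo
  have hFU : ∀ {f u : G}, f ∈ F → u ∈ U → f * u * f⁻¹ ∈ U := fun hf hu =>
    H75.conj_mem_of_mem_normalizer (normalizer_E_le_normalizer_modE E (hFE hf)) hu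
  have hEU : ∀ {e u : G}, e ∈ E → u ∈ U → e * u * e⁻¹ ∈ U := fun he hu =>
    H75.conj_mem_of_mem_normalizer (normalizer_E_le_normalizer_modE E (le_normalizer he)) hu
  obtain ⟨u₀, hu₀, hu₀1⟩ : ∃ u ∈ U, u ≠ 1 :=
    (Subgroup.ne_bot_iff_exists_ne_one.1 dE.ne_bot).elim fun u hu =>
      ⟨u, u.2, fun h => hu (Subtype.ext h)⟩
  have hcU := dE.card
  rw [← hUdef] at hcU
  have hz : Nat.card (zpowers u₀) ≤ p := by
    rw [Nat.card_zpowers]
    exact Nat.le_of_dvd (Fact.out : p.Prime).pos (orderOf_dvd_of_pow_eq_one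
      (mem_omegaOneCenter.1 ((facts_of_block hE).mod_le hu₀)).2)
  -- every element of `F` acts on `U` as one of `E`
  have key : ∀ f ∈ F, ∃ e ∈ E, ∀ u ∈ U, e * u * e⁻¹ = f * u * f⁻¹ := by
    intro f hf
    by_cases hftriv : ∀ u ∈ U, Commute f u
    · exact ⟨1, one_mem _, fun u hu => by rw [(hftriv u hu).eq]; simp⟩
    obtain ⟨e, he, he0⟩ := dE.trans u₀ hu₀ _ (hFU hf hu₀) hu₀1 (by simpa using hu₀1)
    have hnfix : ∀ u ∈ U, u ≠ 1 → f * u * f⁻¹ ≠ u := fun u hu hu1 hfu =>
      hftriv fun v hv => dF.fix f hf u (hU ▸ hu) hu1 (mul_inv_eq_iff_eq_mul.1 hfu) v (hU ▸ hv)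
    have hefix : ∀ u ∈ U, u ≠ 1 → e * u * e⁻¹ ≠ u := fun u hu hu1 heu => by
      refine hnfix u₀ hu₀ hu₀1 (he0.symm.trans ?_)
      rw [(dE.fix e he u hu hu1 (mul_inv_eq_iff_eq_mul.1 heu) u₀ hu₀).eq, mul_inv_cancel_right]
    set u₁ := f * u₀ * f⁻¹ with hu₁
    have hu₁U : u₁ ∈ U := hFU hf hu₀
    have hu₁1 : u₁ ≠ 1 := by simpa [hu₁] using hu₀1
    let Eq' : Subgroup G :=
      { carrier := {u | u ∈ U ∧ e * u * e⁻¹ = f * u * f⁻¹}
        one_mem' := ⟨one_mem _, by simp⟩
        mul_mem' := fun {a b} ha hb => ⟨mul_mem ha.1 hb.1, by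
          calc e * (a * b) * e⁻¹ = (e * a * e⁻¹) * (e * b * e⁻¹) := by group
            _ = _ := by rw [ha.2, hb.2]; group⟩
        inv_mem' := fun {a} ha => ⟨inv_mem ha.1, by
          calc e * a⁻¹ * e⁻¹ = (e * a * e⁻¹)⁻¹ := by group
            _ = _ := by rw [ha.2]; group⟩ }
    have fin : e * u₁ * e⁻¹ = f * u₁ * f⁻¹ → u₁ ∉ zpowers u₀ → ∀ u ∈ U, e * u * e⁻¹ = f * u * f⁻¹ := by
      intro h1 h2
      have hle : Eq' ≤ U := fun u hu => hu.1
      suffices Eq' = U from fun u hu => (this.ge hu).2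
      refine eq_of_le_of_card_ge hle ?_
      obtain ⟨k, hk⟩ := IsPGroup.iff_card.1 (((H75.isPGroup_pCoreOf E).to_le
        ((facts_of_block hE).mod_le.trans (omega_le_core E))).to_le hle)
      rw [hcU, hk]
      refine Nat.pow_le_pow_right (Fact.out : p.Prime).pos ?_
      by_contra hk2
      have hle' : Nat.card Eq' ≤ p := hk ▸ (Nat.pow_le_pow_right (Fact.out : p.Prime).pos
        (by omega : k ≤ 1)).trans (pow_one p).le
      have hzle : zpowers u₀ ≤ Eq' := zpowers_le.2 ⟨hu₀, he0⟩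
      have hp0 : Nat.card (zpowers u₀) = p := by
        rw [Nat.card_zpowers]
        exact orderOf_eq_prime (mem_omegaOneCenter.1 ((facts_of_block hE).mod_le hu₀)).2 hu₀1
      exact h2 ((eq_of_le_of_card_ge hzle (hle'.trans hp0.ge)).ge ⟨hu₁U, h1⟩)
    rcases dE.prime with hp | hp
    · -- three nonidentity elements
      subst hp
      refine ⟨e, he, fin ?_ fun hm => ?_⟩
      · by_contra hne
        have h1 := hefix u₁ hu₁U hu₁1
        have h2 := hnfix u₁ hu₁U hu₁1
        have h3 : e * u₁ * e⁻¹ ≠ 1 := by simpa using hu₁1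
        have h4 : f * u₁ * f⁻¹ ≠ 1 := by simpa using hu₁1
        classical
        haveI := Fintype.ofFinite (U : Subgroup G)
        have hsub : ({1, ⟨u₁, hu₁U⟩, ⟨_, hEU he hu₁U⟩, ⟨_, hFU hf hu₁U⟩} : Finset (U : Subgroup G)).card = 4 := by
          rw [Finset.card_insert_of_notMem, Finset.card_insert_of_notMem, Finset.card_insert_of_notMem,
            Finset.card_singleton]
          · simpa [Subtype.ext_iff] using hne
          · simp [Subtype.ext_iff, h1.symm, h2.symm]
          · simp [Subtype.ext_iff, hu₁1.symm, h3.symm, h4.symm]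
        have hall := Finset.eq_univ_of_card _ (hsub.trans (by rw [← Nat.card_eq_fintype_card, hcU]; rfl))
        -- the preimage of `u₁` is `u₀` for both
        have hu₀m : (⟨u₀, hu₀⟩ : (U : Subgroup G)) ∈
            ({1, ⟨u₁, hu₁U⟩, ⟨_, hEU he hu₁U⟩, ⟨_, hFU hf hu₁U⟩} : Finset (U : Subgroup G)) :=
          hall ▸ Finset.mem_univ _
        simp only [Finset.mem_insert, Finset.mem_singleton, Subtype.ext_iff, OneMemClass.coe_one] at hu₀m
        rcases hu₀m with h | h | h | h
        · exact hu₀1 h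
        · exact hnfix u₀ hu₀ hu₀1 h.symm
        · -- `e` swaps `u₀` and `u₁`, so it fixes their product
          have hfx := hefix (u₀ * u₁) (mul_mem hu₀ hu₁U) fun h0 => hnfix u₀ hu₀ hu₀1 (by
            rw [← hu₁, eq_inv_of_mul_eq_one_right h0]
            exact inv_eq_of_mul_eq_one_left (by
              rw [← sq]; exact (mem_omegaOneCenter.1 ((facts_of_block hE).mod_le hu₀)).2))
          refine hfx ?_
          rw [show e * (u₀ * u₁) * e⁻¹ = (e * u₀ * e⁻¹) * (e * u₁ * e⁻¹) by group, he0, ← h]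
          exact (omega_comm (omega_le_core E ((facts_of_block hE).mod_le hu₀))
            ((facts_of_block hE).mod_le hu₁U)).symm.eq
        · have hfx := hnfix (u₀ * u₁) (mul_mem hu₀ hu₁U) fun h0 => hnfix u₀ hu₀ hu₀1 (by
            rw [← hu₁, eq_inv_of_mul_eq_one_right h0]
            exact inv_eq_of_mul_eq_one_left (by
              rw [← sq]; exact (mem_omegaOneCenter.1 ((facts_of_block hE).mod_le hu₀)).2))
          refine hfx ?_
          rw [show f * (u₀ * u₁) * f⁻¹ = (f * u₀ * f⁻¹) * (f * u₁ * f⁻¹) by group, ← hu₁, ← h]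
          exact (omega_comm (omega_le_core E ((facts_of_block hE).mod_le hu₀))
            ((facts_of_block hE).mod_le hu₁U)).symm.eq
      · obtain ⟨k, hk⟩ := hm
        rcases Int.even_or_odd k with ⟨j, rfl⟩ | ⟨j, rfl⟩
        · refine hu₁1 ?_
          rw [← hk]
          show u₀ ^ (j + j) = 1
          rw [← two_mul, zpow_mul, zpow_ofNat, (mem_omegaOneCenter.1 ((facts_of_block hE).mod_le hu₀)).2,
            one_zpow]
        · refine hnfix u₀ hu₀ hu₀1 ?_
          rw [← hu₁, ← hk]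
          show u₀ ^ (2 * j + 1) = u₀
          rw [zpow_add_one, zpow_mul, zpow_ofNat, (mem_omegaOneCenter.1 ((facts_of_block hE).mod_le hu₀)).2,
            one_zpow, one_mul]
    · subst hp
      have hsq : ∀ u ∈ U, u * u * u = 1 := fun u hu => by
        simpa [pow_succ] using (mem_omegaOneCenter.1 ((facts_of_block hE).mod_le hu)).2
      rcases dE.inv3 rfl e he with h | h | h
      · exact absurd (by rw [(h u₀ hu₀).eq, mul_inv_cancel_right]) (hefix u₀ hu₀ hu₀1)
      · rcases dF.inv3 rfl f hf with h' | h' | h'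
        · exact absurd (fun u hu => h' u (hU ▸ hu)) hftriv
        · exact ⟨e, he, fun u hu => by rw [h u hu, h' u (hU ▸ hu)]⟩
        · exfalso
          have h1 := h' u₀ (hU ▸ hu₀)
          have h2 : u₁ = u₀⁻¹ := he0.symm.trans (h u₀ hu₀)
          rw [show f * f * u₀ * (f * f)⁻¹ = f * (f * u₀ * f⁻¹) * f⁻¹ by group, ← hu₁, h2,
            show f * u₀⁻¹ * f⁻¹ = (f * u₀ * f⁻¹)⁻¹ by group, ← hu₁, h2, inv_inv] at h1
          exact hu₀1 (by
            have := hsq u₀ hu₀
            rwa [show u₀ * u₀ = 1 by nth_rw 1 [h1]; exact inv_mul_cancel u₀, one_mul] at this)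
      · refine ⟨e, he, fin ?_ fun hm => ?_⟩
        · rcases dF.inv3 rfl f hf with h' | h' | h'
          · exact absurd (fun u hu => h' u (hU ▸ hu)) hftriv
          · exfalso
            have h1 := h u₀ hu₀
            have h2 : u₁ = u₀⁻¹ := h' u₀ (hU ▸ hu₀)
            rw [show e * e * u₀ * (e * e)⁻¹ = e * (e * u₀ * e⁻¹) * e⁻¹ by group, he0,
              h2, show e * u₀⁻¹ * e⁻¹ = (e * u₀ * e⁻¹)⁻¹ by group, he0,
              h2, inv_inv] at h1
            exact hu₀1 (by
              have := hsq u₀ hu₀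
              rwa [show u₀ * u₀ = 1 by nth_rw 1 [h1]; exact inv_mul_cancel u₀, one_mul] at this)
          · calc e * u₁ * e⁻¹ = e * e * u₀ * (e * e)⁻¹ := by rw [← he0]; group
              _ = f * f * u₀ * (f * f)⁻¹ := by rw [h u₀ hu₀, h' u₀ (hU ▸ hu₀)]
              _ = f * (f * u₀ * f⁻¹) * f⁻¹ := by group
              _ = f * u₁ * f⁻¹ := rfl
        · obtain ⟨k, hk⟩ := hm
          have hk' : u₀ ^ k = u₁ := hk
          -- `e` would fix or invert `u₀`
          have h1 := h u₀ hu₀
          rw [show e * e * u₀ * (e * e)⁻¹ = e * (e * u₀ * e⁻¹) * e⁻¹ by group, he0, ← hk',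
            show e * u₀ ^ k * e⁻¹ = (e * u₀ * e⁻¹) ^ k by rw [conj_zpow], he0, ← hk',
            ← zpow_mul, ← zpow_neg_one, zpow_eq_zpow_iff_modEq,
            orderOf_eq_prime (p := 3) (mem_omegaOneCenter.1 ((facts_of_block hE).mod_le hu₀)).2 hu₀1,
            Int.modEq_iff_dvd] at h1
          have h2 : (((-1 : ℤ) - k * k : ℤ) : ZMod 3) = 0 := (ZMod.intCast_zmod_eq_zero_iff_dvd _ 3).2 h1
          push_cast at h2
          exact zmod_three_sq _ h2
  have hle : F ≤ E ⊔ N := fun f hf => by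
    obtain ⟨e, he, hef⟩ := key f hf
    rw [show f = e * (e⁻¹ * f) by group]
    refine mul_mem (mem_sup_left he) (mem_sup_right (mem_inf.2
      ⟨mul_mem (inv_mem (mem_sup_left he)) (mem_sup_right hf), fun u hu => ?_⟩))
    have h2 := hef u hu
    calc u * (e⁻¹ * f) = e⁻¹ * (e * u * e⁻¹) * f := by group
      _ = e⁻¹ * f * u := by rw [h2]; group
  exact (facts_of_block hF).res.ge.trans ((H75.resOf_mono hle).trans
    (H75.resOf_le_of_sup (sup_le le_normalizer (inf_le_left.trans hEFE)) hNp rfl))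

/-- Small blocks normalising each other are equal or commute. -/
theorem SmallData.eq_or_commute (hG : centralizer (Cfsg.pCore p G : Set G) ≤ Cfsg.pCore p G)
    (hE : Cfsg.IsBaumannBlock p (T : Subgroup G) E) (hF : Cfsg.IsBaumannBlock p (T' : Subgroup G) F)
    (dE : SmallData p E) (dF : SmallData p F)
    (hQE : Cfsg.pCoreOf p E ≤ Cfsg.pCore p G) (hQF : Cfsg.pCoreOf p F ≤ Cfsg.pCore p G)
    (hEF : E ≤ normalizer (F : Set G)) (hFE : F ≤ normalizer (E : Set G)) :
    E = F ∨ ⁅E, F⁆ = ⊥ := by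
  rcases dE.inf_eq_bot_or_eq hE hF dF hEF hFE with hbot | heq
  · right
    have hfE := facts_of_block hE
    have hfF := facts_of_block hF
    set U := modE p E with hU
    have hUp : IsPGroup p U := (H75.isPGroup_pCoreOf E).to_le (hfE.mod_le.trans (omega_le_core E))
    have hUE : U ≤ E := hfE.mod_le.trans ((omega_le_core E).trans (H75.pCoreOf_le E))
    have hFU : F ≤ normalizer (U : Set G) := hFE.trans (normalizer_E_le_normalizer_modE E)
    have hVle := hfE.mod_le_omega hG (pCore_le_normalizer hE)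
    have hX1 : ⁅U, F⁆ ≤ U := H1.commutator_le_left_of_le_normalizer hFU
    have hX2 : ⁅U, F⁆ ≤ F := by
      rw [commutator_comm]; exact H1.commutator_le_left_of_le_normalizer (hUE.trans hEF)
    have hX3 : ⁅⁅U, F⁆, F⁆ = ⊥ := le_bot_iff.1 (hbot ▸ le_inf
      ((commutator_mono hX1 le_rfl).trans hX1)
      (commutator_mono ((le_inf hX2 (hX1.trans hVle)).trans (inf_omega_le hfF)) le_rfl))
    have hFc : F ≤ centralizer (U : Set G) := le_centralizer_iff.1
      (le_centralizer_of_commutator_le hfF hUp hFU (commutator_eq_bot_iff_le_centralizer.1 hX3))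
    have hD : ⁅E, F⁆ ≤ Cfsg.pCore p G := by
      refine le_trans (fun x hx => ?_) hQE
      have hxE : x ∈ E := H1.commutator_le_left_of_le_normalizer hFE hx
      have hxF : x ∈ F := by
        rw [commutator_comm] at hx
        exact H1.commutator_le_left_of_le_normalizer hEF hx
      refine mem_core_of_fix hE hxE fun w hw => ?_
      replace hw : w ∈ U ⊔ (Cfsg.omegaOneCenter p (Cfsg.pCoreOf p E) ⊓ centralizer (E : Set G)) :=
        hfE.mod_sup.ge hw
      rw [← SetLike.mem_coe, coe_mul_of_left_le_normalizer_right _ _ (fun a ha =>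
        normalizer_E_le_normalizer_Z E (le_normalizer (hUE ha)))] at hw
      obtain ⟨u, hu, z, hz, rfl⟩ := hw
      rw [commutatorElement_eq_one_iff_mul_comm.2 ((Commute.mul_right (hFc hxF u hu).symm
        (hz.2 x hxE : Commute x z)).eq)]
      exact one_mem _
    exact (commute_or_modE_eq hG hE hF hQE hEF hFE hD).resolve_right fun h =>
      dE.ne_bot (le_bot_iff.1 (hbot ▸ le_inf le_rfl h.le))
  · exact Or.inl (le_antisymm (dF.le_of_modE_eq hG hF hE dE hQF hQE hFE hEF heq.symm)
      (dE.le_of_modE_eq hG hE hF dF hQE hQF hEF hFE heq))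

end H78.Block
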