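import Cfsg.Agent.H78.BlockSmallPair
import Cfsg.Agent.H78.BlockMap
import Cfsg.Agent.CompLayer

/-!
Subnormal blocks are equal or commute.
-/

set_option autoImplicit false
set_option linter.unusedSectionVars false

open Subgroup
open scoped commutatorElement

namespace H78.Block

variable {G : Type*} [Group G] [Finite G] {p : ℕ} [Fact p.Prime] {T T' : Sylow p G}
  {E F : Subgroup G}

/-- `E ∩ O_p(G) = Q` for a subnormal block. -/
theorem inf_pCore_eq (hEs : E.IsSubnormal) : E ⊓ Cfsg.pCore p G = Cfsg.pCoreOf p E := by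
  have := H1.pCore_normal' p G
  refine le_antisymm (H75.le_pCoreOf inf_le_left
    ((le_inf le_normalizer le_normalizer_of_normal).trans (H75.normalizer_inf_le_normalizer_inf _ _))
    ((H1.isPGroup_pCore p G).to_le inf_le_right))
    (le_inf (H75.pCoreOf_le E) (H75.pCoreOf_le_of_subnormal hEs))

theorem isComponent_image (hEs : E.IsSubnormal)
    (hq : haveI := H1.pCore_normal' p E; Cfsg.IsQuasisimple (E ⧸ Cfsg.pCore p E)) :
    haveI := H1.pCore_normal' p G
    Cfsg.IsComponent (E.map (QuotientGroup.mk' (Cfsg.pCore p G))) := by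
  have := H1.pCore_normal' p G
  have := H1.pCore_normal' p E
  refine ⟨hEs.map (QuotientGroup.mk'_surjective _), ?_⟩
  let f := (QuotientGroup.mk' (Cfsg.pCore p G)).comp E.subtype
  have hk : f.ker = Cfsg.pCore p E := by
    ext x
    rw [MonoidHom.mem_ker, MonoidHom.comp_apply, Subgroup.coe_subtype, QuotientGroup.mk'_apply,
      QuotientGroup.eq_one_iff]
    constructor
    · intro hx
      obtain ⟨y, hy, hyx⟩ := (inf_pCore_eq hEs).le ⟨x.2, hx⟩
      exact Subtype.ext hyx ▸ hy
    · intro hx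
      exact ((inf_pCore_eq hEs).ge ⟨x, hx, rfl⟩).2
  have hr : f.range = E.map (QuotientGroup.mk' (Cfsg.pCore p G)) := by
    rw [MonoidHom.range_comp, range_subtype]
  exact Cfsg.Comp.isQuasisimple_of_equiv ((QuotientGroup.quotientMulEquivOfEq hk.symm).trans
    ((QuotientGroup.quotientKerEquivRange f).trans (MulEquiv.subgroupCongr hr))) hq

/-- One of two subnormal blocks is quasisimple modulo its core. -/
theorem eq_or_commute_of_quasisimple (hG : centralizer (Cfsg.pCore p G : Set G) ≤ Cfsg.pCore p G)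
    (hE : Cfsg.IsBaumannBlock p (T : Subgroup G) E) (hF : Cfsg.IsBaumannBlock p (T' : Subgroup G) F)
    (hEs : E.IsSubnormal) (hFs : F.IsSubnormal)
    (hq : haveI := H1.pCore_normal' p E; Cfsg.IsQuasisimple (E ⧸ Cfsg.pCore p E)) :
    E = F ∨ ⁅E, F⁆ = ⊥ := by
  have := H1.pCore_normal' p G
  have := H1.pCore_normal' p E
  set f := QuotientGroup.mk' (Cfsg.pCore p G) with hf
  have hc := isComponent_image hEs hq
  have hsol : IsSmall p F → Group.IsSolvable (F.map f : Subgroup (G ⧸ Cfsg.pCore p G)) := fun hs => by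
    haveI := (smallData_of_isSmall hF hs).solv
    exact Group.isSolvable_of_surjective (f.subgroupMap_surjective F)
  have h : E = F ∨ ⁅E, F⁆ ≤ Cfsg.pCore p G := by
    have hcomm : ⁅E.map f, F.map f⁆ = ⊥ → ⁅E, F⁆ ≤ Cfsg.pCore p G := fun h => by
      rw [← map_commutator, Subgroup.map_eq_bot_iff, hf, QuotientGroup.ker_mk'] at h
      exact h
    rcases isSmall_or_quasisimple hF with hs | hqF
    · exact Or.inr (hcomm (Cfsg.Comp.component_commute_solvable_subnormal hc (hsol hs)
        (hFs.map (QuotientGroup.mk'_surjective _))))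
    · rcases Cfsg.Comp.component_eq_or_commute hc (isComponent_image hFs hqF) with he | he
      · left
        rw [← resOf_sup_pCore hE, ← resOf_sup_pCore hF]
        congr 1
        have := congrArg (Subgroup.comap f) he
        rwa [comap_map_eq, comap_map_eq, hf, QuotientGroup.ker_mk'] at this
      · exact Or.inr (hcomm he)
  refine h.imp_right fun hD => ?_
  have hQE := H75.pCoreOf_le_of_subnormal (p := p) hEs
  have hP := H1.isPGroup_pCore p G
  have hFE : F ≤ normalizer (E : Set G) := fun g hg =>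
    mem_normalizer_of_commutator_mem (facts_of_block hE).res hP (pCore_le_normalizer hE) fun e he => by
      rw [← commutatorElement_inv]
      exact inv_mem (hD (commutator_mem_commutator he hg))
  have hEF : E ≤ normalizer (F : Set G) := fun g hg =>
    mem_normalizer_of_commutator_mem (facts_of_block hF).res hP (pCore_le_normalizer hF) fun e he =>
      hD (commutator_mem_commutator hg he)
  refine (commute_or_modE_eq hG hE hF hQE hEF hFE hD).resolve_right fun hU => ?_
  have hDF : ⁅E, F⁆ ≤ F := by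
    rw [commutator_comm]; exact H1.commutator_le_left_of_le_normalizer hEF
  have hle := commutator_le_core_of_modE_eq hF hE hEF hFE
    (H75.le_pCoreOf hDF H1.right_le_normalizer_commutator (hP.to_le hD)) hU.symm
  -- `E / Q` is perfect
  have hperf : commutator E ≤ Cfsg.pCore p E := by
    intro x hx
    have hxc : (x : G) ∈ ⁅E, E⁆ := (map_subtype_commutator E).le ⟨x, hx, rfl⟩
    obtain ⟨y, hy, hyx⟩ := hle hxc
    exact Subtype.ext hyx ▸ hy
  have htop : commutator (E ⧸ Cfsg.pCore p E) = ⊥ := by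
    rw [_root_.commutator_def, eq_bot_iff, commutator_le]
    intro a _ b _
    obtain ⟨a, rfl⟩ := QuotientGroup.mk'_surjective _ a
    obtain ⟨b, rfl⟩ := QuotientGroup.mk'_surjective _ b
    rw [mem_bot, ← map_commutatorElement, QuotientGroup.mk'_apply, QuotientGroup.eq_one_iff]
    exact hperf (commutator_mem_commutator (mem_top a) (mem_top b))
  obtain ⟨⟨hp1⟩, hs⟩ := hq
  rw [htop] at hp1
  haveI := Subgroup.subsingleton_iff.1 (subsingleton_iff_bot_eq_top.1 hp1)
  exact not_subsingleton_iff_nontrivial.2 hs.toNontrivial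
    (QuotientGroup.mk'_surjective (center (E ⧸ Cfsg.pCore p E))).subsingleton

theorem isSmall_map (e : G ≃* G) (hs : IsSmall p E) : IsSmall p (E.map e.toMonoidHom) := by
  have := H1.pCore_normal' p E
  have := H1.pCore_normal' p (E.map e.toMonoidHom : Subgroup G)
  show Nat.card _ ≤ 24
  rw [← Nat.card_congr (QuotientGroup.congr _ _ (mapEquiv e E) (map_pCore_mapEquiv e E)).toEquiv]
  exact hs

theorem conj_mem_map {g x : G} {E : Subgroup G} (hx : x ∈ E) :
    g * x * g⁻¹ ∈ E.map (MulAut.conj g).toMonoidHom := ⟨x, hx, rfl⟩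

theorem map_conj_map (a b : G) (E : Subgroup G) :
    (E.map (MulAut.conj b).toMonoidHom).map (MulAut.conj a).toMonoidHom =
      E.map (MulAut.conj (a * b)).toMonoidHom := by
  rw [Subgroup.map_map]
  congr 1
  ext x
  simp [mul_assoc]

/-- Subnormal small blocks. -/
theorem eq_or_commute_of_small (hG : centralizer (Cfsg.pCore p G : Set G) ≤ Cfsg.pCore p G)
    (hE : ∃ T : Sylow p G, Cfsg.IsBaumannBlock p (T : Subgroup G) E)
    (hF : ∃ T : Sylow p G, Cfsg.IsBaumannBlock p (T : Subgroup G) F)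
    (hEs : E.IsSubnormal) (hFs : F.IsSubnormal) (sE : IsSmall p E) (sF : IsSmall p F) :
    E = F ∨ ⁅E, F⁆ = ⊥ := by
  induction hn : Nat.card (E ⊔ F : Subgroup G) using Nat.strong_induction_on generalizing E F with
  | _ n ih =>
  -- conjugates of `E` by elements of `F` commute with `E` unless equal
  suffices key : ∀ {E F : Subgroup G}, Nat.card (E ⊔ F : Subgroup G) = n →
      (∃ T : Sylow p G, Cfsg.IsBaumannBlock p (T : Subgroup G) E) →
      (∃ T : Sylow p G, Cfsg.IsBaumannBlock p (T : Subgroup G) F) →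
      E.IsSubnormal → F.IsSubnormal → IsSmall p E → IsSmall p F →
      F ≤ normalizer (E : Set G) by
    obtain ⟨TE, hTE⟩ := hE
    obtain ⟨TF, hTF⟩ := hF
    exact (smallData_of_isSmall hTE sE).eq_or_commute hG hTE hTF (smallData_of_isSmall hTF sF)
      (H75.pCoreOf_le_of_subnormal hEs) (H75.pCoreOf_le_of_subnormal hFs)
      (key (by rw [sup_comm]; exact hn) ⟨TF, hTF⟩ ⟨TE, hTE⟩ hFs hEs sF sE)
      (key hn ⟨TE, hTE⟩ ⟨TF, hTF⟩ hEs hFs sE sF)
  intro E F hn hE hF hEs hFs sE sF
  by_contra hnot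
  obtain ⟨TE, hTE⟩ := hE
  obtain ⟨TF, hTF⟩ := hF
  obtain ⟨f₀, hf₀, hf₀n⟩ := SetLike.not_le_iff_exists.1 hnot
  have := H1.pCore_normal' p G
  have dE := smallData_of_isSmall hTE sE
  have dF := smallData_of_isSmall hTF sF
  have hfE := facts_of_block hTE
  have hfF := facts_of_block hTF
  set L := E ⊔ F with hL
  -- a proper normal subgroup `M` of `L` containing `E`
  obtain ⟨M, hMn, hEM, hML⟩ := ((hEs.subgroupOf (K := L)).lt_normal).resolve_left fun h =>
    hnot (((le_sup_right : F ≤ L).trans (subgroupOf_eq_top.1 h)).trans le_normalizer)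
  set M' := M.map L.subtype with hM'
  have hEM' : E ≤ M' := fun x hx => ⟨⟨x, mem_sup_left hx⟩, hEM hx, rfl⟩
  have hM'n : ∀ l ∈ L, ∀ x ∈ M', l * x * l⁻¹ ∈ M' := by
    rintro l hl _ ⟨x, hx, rfl⟩
    exact ⟨_, hMn.conj_mem x hx ⟨l, hl⟩, rfl⟩
  have hM'card : Nat.card M' < n := by
    rw [← hn, hM', card_map_of_injective L.subtype_injective]
    refine lt_of_le_of_ne (card_le_card_group M) fun h => hML.ne (eq_top_of_card_eq M h)
  let c : G → Subgroup G := fun g => E.map (MulAut.conj g).toMonoidHom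
  have hcb : ∀ g, ∃ T : Sylow p G, Cfsg.IsBaumannBlock p (T : Subgroup G) (c g) := fun g =>
    ⟨g • TE, isBaumannBlock_map (MulAut.conj g) hTE⟩
  have hcs : ∀ g, (c g).IsSubnormal := fun g => hEs.map (MulEquiv.surjective _)
  have hcM : ∀ g ∈ F, c g ≤ M' := by
    rintro g hg _ ⟨x, hx, rfl⟩
    exact hM'n g (mem_sup_right hg) x (hEM' hx)
  have hpair : ∀ a ∈ F, ∀ b ∈ F, c a = c b ∨ ⁅c a, c b⁆ = ⊥ := fun a ha b hb =>
    ih _ ((card_le_of_le (sup_le (hcM a ha) (hcM b hb))).trans_lt hM'card) (hcb a) (hcb b)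
      (hcs a) (hcs b) (isSmall_map _ sE) (isSmall_map _ sE) rfl
  have hc1 : c 1 = E := by
    show E.map (MulAut.conj (1 : G)).toMonoidHom = E
    convert Subgroup.map_id E using 2
    ext x; simp
  have hE' : ⁅E, c f₀⁆ = ⊥ := by
    rcases hpair 1 (one_mem _) f₀ hf₀ with h | h
    · exact absurd (mem_normalizer_iff_map_conj_eq.2 (h.symm.trans hc1)) hf₀n
    · rwa [hc1] at h
  -- the modules
  set U := modE p E with hU
  set UF := modE p F with hUF
  set V := Cfsg.omegaOneCenter p (Cfsg.pCore p G) with hV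
  have hUV : U ≤ V := hfE.mod_le_omega hG (pCore_le_normalizer hTE)
  have hUE : U ≤ E := hfE.mod_le.trans ((omega_le_core E).trans (H75.pCoreOf_le E))
  have hVn : ∀ {g v : G}, v ∈ V → g * v * g⁻¹ ∈ V := fun {g v} hv =>
    H75.conj_mem_of_mem_normalizer (normalizer_le_normalizer_omegaOneCenter _
      (by rw [normalizer_eq_top]; trivial)) hv
  have hVab : ∀ {a b : G}, a ∈ V → b ∈ V → Commute a b := fun ha hb =>
    (mem_omegaOneCenter.1 hb).1.2 _ (mem_omegaOneCenter.1 ha).1.1
  have hWF : ∀ f ∈ F, ∀ v ∈ V, ⁅f, v⁆ ∈ UF := by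
    have h1 : ⁅V, F⁆ ≤ UF := by
      refine H74.PRed.commutator_le_of_closure hfF.res.symm
        (le_normalizer.trans (normalizer_E_le_normalizer_modE F)) fun v hv x hx => ?_
      rw [← commutatorElement_inv]
      refine inv_mem ?_
      have hcV : ⁅x, v⁆ ∈ V := mul_mem (hVn hv) (inv_mem hv)
      have hcF : ⁅x, v⁆ ∈ F := by
        rw [commutatorElement_def, mul_assoc, mul_assoc, ← mul_assoc v]
        exact mul_mem hx.1 (H75.conj_mem_of_mem_normalizer
          (pCore_le_normalizer hTF (mem_omegaOneCenter.1 hv).1.1) (inv_mem hx.1))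
      have hcW := inf_omega_le hfF ⟨hcF, hcV⟩
      refine mem_of_coprime_step ((H1.isPGroup_pCore p G).to_le
        (fun y hy => (mem_omegaOneCenter.1 hy).1.1)) hx.2 hcV ?_
        (normalizer_E_le_normalizer_modE F (le_normalizer hx.1))
        (normalizer_E_le_normalizer_modE F (le_normalizer hcF))
      rw [← commutatorElement_inv]
      exact inv_mem (commutator_mem_commutator hcW hx.1)
    intro f hf v hv
    rw [← commutatorElement_inv]
    exact inv_mem (h1 (commutator_mem_commutator hv hf))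
  set U' := U.map (MulAut.conj f₀).toMonoidHom with hU'
  have hU'E : U' ≤ c f₀ := map_mono hUE
  have hdisj : ∀ x ∈ U, x ∈ U' → x = 1 := fun x hx hx' => by
    have : x ∈ U ⊓ centralizer (E : Set G) :=
      ⟨hx, fun e he => (commutator_eq_bot_iff_le_centralizer.1 hE' he _ (hU'E hx')).symm⟩
    rw [hU, dE.inf_bot] at this
    exact mem_bot.1 this
  -- every element of `U_F` is `⁅f₀, w⁆`
  have hUFeq : ∀ y ∈ UF, ∃ w ∈ U, ⁅f₀, w⁆ = y := by
    let φ : U → UF := fun w => ⟨⁅f₀, (w : G)⁆, hWF f₀ hf₀ w (hUV w.2)⟩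
    have hinj : Function.Injective φ := by
      intro a b hab
      have h : f₀ * a * f₀⁻¹ * (a : G)⁻¹ = f₀ * b * f₀⁻¹ * (b : G)⁻¹ := congrArg Subtype.val hab
      have hab' : f₀ * ((b : G)⁻¹ * a) * f₀⁻¹ = (b : G)⁻¹ * a := by
        have h2 : f₀ * a * f₀⁻¹ = f₀ * b * f₀⁻¹ * ((b : G)⁻¹ * a) := by
          rw [← mul_assoc, ← h]; group
        calc f₀ * ((b : G)⁻¹ * a) * f₀⁻¹ = (f₀ * b * f₀⁻¹)⁻¹ * (f₀ * a * f₀⁻¹) := by group
          _ = _ := by rw [h2]; group
      have := hdisj _ (mul_mem (inv_mem b.2) a.2) (hab' ▸ conj_mem_map (mul_mem (inv_mem b.2) a.2))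
      exact Subtype.ext (inv_mul_eq_one.1 this).symm
    have hbij := hinj.bijective_of_nat_card_le (dF.card.trans dE.card.symm).le
    intro y hy
    obtain ⟨w, hw⟩ := hbij.2 ⟨y, hy⟩
    exact ⟨w, w.2, congrArg Subtype.val hw⟩
  have horbit : ∀ g ∈ F, c g = E ∨ c g = c f₀ := by
    intro g hg
    by_contra h
    push Not at h
    have h1 : ⁅c g, E⁆ = ⊥ :=
      hc1 ▸ (hpair g hg 1 (one_mem _)).resolve_left (fun he => h.1 (he.trans hc1))
    have h2 : ⁅c g, c f₀⁆ = ⊥ := (hpair g hg f₀ hf₀).resolve_left h.2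
    rw [commutator_eq_bot_iff_le_centralizer] at h1 h2
    obtain ⟨u, hu1⟩ := Subgroup.ne_bot_iff_exists_ne_one.1 (dE.ne_bot)
    obtain ⟨w, hw, hwu⟩ := hUFeq _ (hWF g hg u (hUV u.2))
    have hconj : g * u * g⁻¹ = f₀ * w * f₀⁻¹ * (w⁻¹ * u) := by
      have : ⁅g, (u : G)⁆ * u = ⁅f₀, w⁆ * u := by rw [hwu]
      simpa [commutatorElement_def, mul_assoc] using this
    have hcu : g * u * g⁻¹ ∈ centralizer ((c g : Subgroup G) : Set G) := fun x hx => by
      rw [hconj]
      exact Commute.mul_right (h2 hx _ (hU'E (conj_mem_map hw))).symm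
        (h1 hx _ (hUE (mul_mem (inv_mem hw) u.2))).symm
    refine hu1 (Subtype.ext (mem_bot.1 (dE.inf_bot ▸ ⟨u.2, fun e he => ?_⟩ : (u : G) ∈ (⊥ : Subgroup G))))
    have := hcu _ (conj_mem_map (g := g) he)
    calc e * u = g⁻¹ * (g * e * g⁻¹ * (g * u * g⁻¹)) * g := by group
      _ = g⁻¹ * (g * u * g⁻¹ * (g * e * g⁻¹)) * g := by rw [this]
      _ = _ := by group
  have hnorm_of_sq : ∀ g ∈ F, g * g ∈ normalizer (E : Set G) := by
    intro g hg
    rw [mem_normalizer_iff_map_conj_eq]
    show c (g * g) = E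
    rcases horbit (g * g) (mul_mem hg hg) with h | h
    · exact h
    have hgg : (c g).map (MulAut.conj g).toMonoidHom = c (g * g) := map_conj_map g g E
    rcases horbit g hg with h' | h'
    · rw [← hgg, h']; exact h'
    · exfalso
      have hinj := map_injective (f := (MulAut.conj g).toMonoidHom) (MulEquiv.injective _)
      have h3 : c g = E := hinj (hgg.trans (h.trans h'.symm))
      exact hf₀n (mem_normalizer_iff_map_conj_eq.2 (h'.symm.trans h3))
  rcases dE.prime with hp | hp
  · subst hp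
    refine hnot (hfF.res.ge.trans ((closure_le _).2 fun g hg => ?_))
    obtain ⟨k, hk⟩ : ∃ k, (g * g) ^ k = g := by
      obtain ⟨j, hj⟩ := Nat.coprime_two_right.1 hg.2
      refine ⟨j + 1, ?_⟩
      rw [← sq, ← pow_mul, show 2 * (j + 1) = orderOf g + 1 by omega, pow_succ, pow_orderOf_eq_one,
        one_mul]
    rw [SetLike.mem_coe, ← hk]
    exact pow_mem (hnorm_of_sq g hg.1) k
  · subst hp
    obtain ⟨x, hx, hxi⟩ := dF.exists_inv rfl
    set h := x * x with hh
    have hhE : h ∈ normalizer (E : Set G) := hnorm_of_sq x hx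
    have hhF : h ∈ F := mul_mem hx hx
    have hhU : h ∈ normalizer (U : Set G) := normalizer_E_le_normalizer_modE E hhE
    have hhU' : h ∈ normalizer (U' : Set G) := by
      have h1 : h * f₀ ∈ F := mul_mem hhF hf₀
      have hchf : c (h * f₀) = (c f₀).map (MulAut.conj h).toMonoidHom := (map_conj_map h f₀ E).symm
      have h2 : (c f₀).map (MulAut.conj h).toMonoidHom = c f₀ := by
        rcases horbit _ h1 with h' | h'
        · exfalso
          refine hf₀n (mem_normalizer_iff_map_conj_eq.2 ?_)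
          exact map_injective (f := (MulAut.conj h).toMonoidHom) (MulEquiv.injective _)
            (hchf.symm.trans (h'.trans (mem_normalizer_iff_map_conj_eq.1 hhE).symm))
        · exact hchf.symm.trans h'
      rw [mem_normalizer_iff_map_conj_eq]
      have h3 : f₀⁻¹ * h * f₀ ∈ normalizer (E : Set G) := by
        rw [mem_normalizer_iff_map_conj_eq]
        refine map_injective (f := (MulAut.conj f₀).toMonoidHom) (MulEquiv.injective _) ?_
        show (E.map (MulAut.conj (f₀⁻¹ * h * f₀)).toMonoidHom).map (MulAut.conj f₀).toMonoidHom = _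
        rw [map_conj_map, show f₀ * (f₀⁻¹ * h * f₀) = h * f₀ by group]
        exact hchf.trans h2
      have h4 : U.map (MulAut.conj (f₀⁻¹ * h * f₀)).toMonoidHom = U :=
        mem_normalizer_iff_map_conj_eq.1 (normalizer_E_le_normalizer_modE (p := 3) E h3)
      show (U'.map (MulAut.conj h).toMonoidHom) = U'
      rw [hU', map_conj_map]
      conv_rhs => rw [← h4, map_conj_map, show f₀ * (f₀⁻¹ * h * f₀) = h * f₀ by group]
    have hUcap : ∀ y ∈ UF, y ∈ U → y = 1 := by
      intro y hy hyU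
      obtain ⟨w, hw, rfl⟩ := hUFeq y hy
      have hmem : f₀ * w * f₀⁻¹ ∈ U := by
        have := mul_mem hyU hw
        simpa [commutatorElement_def] using this
      rw [commutatorElement_def, hdisj _ hmem (conj_mem_map hw), one_mul, inv_eq_one]
      have : f₀ * w * f₀⁻¹ = 1 := hdisj _ hmem (conj_mem_map hw)
      simpa using this
    have hhcomm : ∀ w ∈ U, Commute h w := fun w hw =>
      commutatorElement_eq_one_iff_commute.1 (hUcap _ (hWF h hhF w (hUV hw))
        (mul_mem (H75.conj_mem_of_mem_normalizer hhU hw) (inv_mem hw)))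
    obtain ⟨⟨w, hw⟩, hw1⟩ := Subgroup.ne_bot_iff_exists_ne_one.1 (dE.ne_bot)
    set w' := f₀ * w * f₀⁻¹ with hw'
    have hw'U : w' ∈ U' := conj_mem_map hw
    have hinv : h * (w' * w⁻¹) * h⁻¹ = (w' * w⁻¹)⁻¹ := by
      have : ⁅f₀, w⁆ ∈ UF := hWF f₀ hf₀ w (hUV hw)
      exact hxi _ this
    have hw2 : h * w' * h⁻¹ * w' = w * w := by
      have h1 : h * w'* h⁻¹ * (h * w⁻¹ * h⁻¹) = w * w'⁻¹ := by
        have e : h * w' * h⁻¹ * (h * w⁻¹ * h⁻¹) = h * (w' * w⁻¹) * h⁻¹ := by group
        rw [e, hinv]; group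
      rw [((hhcomm w hw).inv_right).eq, mul_inv_cancel_right] at h1
      have h2 : h * w' * h⁻¹ = w * w'⁻¹ * w := by rw [← h1]; group
      rw [h2]
      have hc := (hVab (hUV hw) (hVn (g := f₀) (hUV hw)))
      rw [← hw'] at hc
      calc w * w'⁻¹ * w * w' = w * w'⁻¹ * (w * w') := by group
        _ = w * w'⁻¹ * (w' * w) := by rw [hc.eq]
        _ = _ := by group
    have hmem' : w * w ∈ U' := hw2 ▸ mul_mem (H75.conj_mem_of_mem_normalizer hhU' hw'U) hw'U
    have hww := hdisj _ (mul_mem hw hw) hmem'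
    have h3 : w ^ 3 = 1 := (mem_omegaOneCenter.1 (hfE.mod_le hw)).2
    exact hw1 (Subtype.ext (by simpa [pow_succ, hww] using h3))

/-- **S2986.** -/
theorem eq_or_commute_of_subnormal (hG : centralizer (Cfsg.pCore p G : Set G) ≤ Cfsg.pCore p G)
    (hE : ∃ T : Sylow p G, Cfsg.IsBaumannBlock p (T : Subgroup G) E)
    (hF : ∃ T : Sylow p G, Cfsg.IsBaumannBlock p (T : Subgroup G) F)
    (hEs : E.IsSubnormal) (hFs : F.IsSubnormal) : E = F ∨ ⁅E, F⁆ = ⊥ := by
  obtain ⟨TE, hTE⟩ := hE
  obtain ⟨TF, hTF⟩ := hF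
  rcases isSmall_or_quasisimple hTE with sE | qE
  · rcases isSmall_or_quasisimple hTF with sF | qF
    · exact eq_or_commute_of_small hG ⟨TE, hTE⟩ ⟨TF, hTF⟩ hEs hFs sE sF
    · exact (eq_or_commute_of_quasisimple hG hTF hTE hFs hEs qF).imp Eq.symm
        fun h => by rw [commutator_comm]; exact h
  · exact eq_or_commute_of_quasisimple hG hTE hTF hEs hFs qE

end H78.Block
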