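import Mathlib

/-!
Systems of transvections over `GF(2)` in which pairwise orthogonal centres are independent: each
connected component consists of the pairs of points of a frame, that is, of the transpositions of a
symmetric group.
-/

set_option autoImplicit false

namespace H78.PermStar

variable {W ι : Type*} [AddCommGroup W]

/-- Centres `c` and axes `φ`. -/
structure Sys (c : ι → W) (φ : ι → W →+ ZMod 2) : Prop where
  two : ∀ w : W, w + w = 0
  self : ∀ x, φ x (c x) = 0
  symm : ∀ x y, φ x (c y) = φ y (c x)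
  conj : ∀ x y, φ x (c y) = 1 → ∃ z, c z = c x + c y
  inj : Function.Injective c
  indep : ∀ S : Finset ι, S.Nonempty → (∀ x ∈ S, ∀ y ∈ S, φ x (c y) = 0) → ∑ x ∈ S, c x ≠ 0

/-- A frame of `n` points: the sums of two points are centres, meeting as transpositions do. -/
structure Frame (c : ι → W) (φ : ι → W →+ ZMod 2) {n : ℕ} (e : Fin n → W) : Prop where
  pair : ∀ i j, i ≠ j → ∃ x, c x = e i + e j
  val : ∀ x i j, i ≠ j → c x = e i + e j → ∀ k l, k ≠ l →
    φ x (e k + e l) = (if i = k then 1 else 0) + (if j = k then 1 else 0)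
      + (if i = l then 1 else 0) + (if j = l then 1 else 0)
  sep : ∀ i j k l, [i, j, k, l].Nodup → e i + e j ≠ e k + e l

/-- The centres which are sums of two points of the frame. -/
def IsPair (c : ι → W) {n : ℕ} (e : Fin n → W) (x : ι) : Prop :=
  ∃ i j, i ≠ j ∧ c x = e i + e j

theorem zero_or_one (a : ZMod 2) : a = 0 ∨ a = 1 := by
  revert a
  decide

variable {c : ι → W} {φ : ι → W →+ ZMod 2} (h : Sys c φ)
include h

theorem ne_zero (x : ι) : c x ≠ 0 := by
  have := h.indep {x} ⟨x, Finset.mem_singleton_self x⟩ (by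
    intro a ha b hb
    rw [Finset.mem_singleton] at ha hb
    subst ha hb
    exact h.self _)
  simpa using this

theorem frame_two (x : ι) : Frame c φ ![0, c x] := by
  refine ⟨fun i j hij => ⟨x, ?_⟩, fun y i j hij hy k l hkl => ?_, fun i j k l hnd => ?_⟩
  · fin_cases i <;> fin_cases j <;> simp_all
  · obtain rfl : y = x := h.inj (by fin_cases i <;> fin_cases j <;> simp_all)
    fin_cases i <;> fin_cases j <;> fin_cases k <;> fin_cases l <;>
      simp_all [h.self] <;> decide
  · exact absurd hnd.length_le_card (by simp)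

theorem extend {n : ℕ} {e : Fin n → W} (f : Frame c φ e) {z : ι} (hzp : ¬ IsPair c e z) (p : Fin n)
    (hp : ∀ i, i ≠ p → φ z (e p + e i) = 1) :
    Frame c φ (Fin.snoc e (c z + e p) : Fin (n + 1) → W) := by
  classical
  set e' : Fin (n + 1) → W := Fin.snoc e (c z + e p) with he'
  have hold : ∀ i : Fin n, e' i.castSucc = e i := fun i => by simp [he']
  have hnew : e' (Fin.last n) = c z + e p := by simp [he']
  -- the pairs through `p`
  have hex : ∀ k : Fin (n + 1), ∃ w, k ≠ p.castSucc → c w = e' k + e' p.castSucc := by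
    intro k
    induction k using Fin.lastCases with
    | last => exact ⟨z, fun _ => by rw [hnew, hold, add_assoc, h.two, add_zero]⟩
    | cast i =>
      by_cases hi : i = p
      · exact ⟨z, fun hne => absurd (congrArg Fin.castSucc hi) hne⟩
      · obtain ⟨w, hw⟩ := f.pair i p hi
        exact ⟨w, fun _ => by rw [hold, hold, hw]⟩
  choose w hw using hex
  set G : Fin (n + 1) → Fin (n + 1) → ZMod 2 := fun k i =>
    if k = p.castSucc ∨ i = p.castSucc ∨ k = i then 0 else 1 with hG
  have hz : ∀ i : Fin n, i ≠ p → φ z (e i + e p) = 1 := fun i hi => by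
    rw [add_comm]; exact hp i hi
  have key : ∀ k i, k ≠ p.castSucc → φ (w k) (e' i + e' p.castSucc) = G k i := by
    intro k i hk
    by_cases hip : i = p.castSucc
    · subst hip
      simp [hG, h.two]
    rw [← hw i hip]
    by_cases hki : k = i
    · subst hki
      simp [hG, h.self]
    have hg : G k i = 1 := by simp [hG, hk, hip, hki]
    rw [hg]
    induction k using Fin.lastCases with
    | last =>
      induction i using Fin.lastCases with
      | last => exact absurd rfl hki
      | cast i =>
        have hi : i ≠ p := fun h0 => hip (congrArg Fin.castSucc h0)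
        have hwz : w (Fin.last n) = z :=
          h.inj (by rw [hw _ hk, hnew, hold, add_assoc, h.two, add_zero])
        rw [hwz, hw _ hip, hold, hold]
        exact hz i hi
    | cast k =>
      have hkp : k ≠ p := fun h0 => hk (congrArg Fin.castSucc h0)
      induction i using Fin.lastCases with
      | last =>
        have hwz : w (Fin.last n) = z :=
          h.inj (by rw [hw _ hip, hnew, hold, add_assoc, h.two, add_zero])
        rw [h.symm, hwz, hw _ hk, hold, hold]
        exact hz k hkp
      | cast i =>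
        have hi : i ≠ p := fun h0 => hip (congrArg Fin.castSucc h0)
        have hki' : k ≠ i := fun h0 => hki (congrArg Fin.castSucc h0)
        rw [hw _ hip, hold, hold,
          f.val (w k.castSucc) k p hkp (by rw [hw _ hk, hold, hold]) i p hi]
        simp [hkp, hki', Ne.symm hi]
  have split : ∀ x k l, φ x (e' k + e' l) =
      φ x (e' k + e' p.castSucc) + φ x (e' l + e' p.castSucc) := by
    intro x k l
    rw [← map_add]
    congr 1
    have h2 := h.two (e' p.castSucc)
    rw [add_add_add_comm, h2, add_zero]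
  refine ⟨fun i j hij => ?_, fun x i j hij hx k l hkl => ?_, ?_⟩
  · by_cases hi : i = p.castSucc
    · subst hi
      exact ⟨w j, by rw [hw j (Ne.symm hij), add_comm]⟩
    by_cases hj : j = p.castSucc
    · subst hj
      exact ⟨w i, hw i hi⟩
    obtain ⟨u, hu⟩ := h.conj (w i) (w j) (by
      rw [hw j hj, key i j hi]
      simp [hG, hi, hj, hij])
    refine ⟨u, ?_⟩
    rw [hu, hw i hi, hw j hj, add_add_add_comm, h.two, add_zero]
  · have hFx : ∀ m, φ x (e' m + e' p.castSucc) = G m i + G m j := by
      intro m
      by_cases hm : m = p.castSucc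
      · subst hm
        simp [hG, h.two]
      · rw [← hw m hm, h.symm, hx, split, key m i hm, key m j hm]
    rw [split, hFx, hFx]
    simp only [hG]
    clear_value e'
    clear_value G
    clear hFx hx hG key split hw hnew hold he'
    by_cases hkq : k = p.castSucc <;> by_cases hlq : l = p.castSucc <;>
      by_cases hiq : i = p.castSucc <;> by_cases hjq : j = p.castSucc <;>
      simp only [hkq, hlq, hiq, hjq] at hij hkl ⊢
    all_goals first
      | exact absurd rfl hij
      | exact absurd rfl hkl
      | skip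
    all_goals
      by_cases hik : i = k <;> by_cases hjk : j = k <;> by_cases hil : i = l <;>
        by_cases hjl : j = l <;> simp_all [eq_comm] <;> decide
  · -- disjoint pairs stay different
    intro i j k l hnd heq
    have hnew' : ∀ i' k' l' : Fin n, k' ≠ l' → i' ≠ k' → i' ≠ l' →
        c z + e p + e i' ≠ e k' + e l' := by
      intro i' k' l' hkl hik hil he
      have hcz : c z = e p + e i' + (e k' + e l') := by
        rw [← he, show e p + e i' + (c z + e p + e i') = c z + (e p + e p) + (e i' + e i') by abel,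
          h.two, h.two, add_zero, add_zero]
      by_cases hip : i' = p
      · subst hip
        exact hzp ⟨k', l', hkl, by rw [hcz, h.two, zero_add]⟩
      by_cases hkp : k' = p
      · subst hkp
        refine hzp ⟨i', l', hil, ?_⟩
        rw [hcz, show e k' + e i' + (e k' + e l') = e i' + e l' + (e k' + e k') by abel, h.two,
          add_zero]
      by_cases hlp : l' = p
      · subst hlp
        refine hzp ⟨i', k', hik, ?_⟩
        rw [hcz, show e l' + e i' + (e k' + e l') = e i' + e k' + (e l' + e l') by abel, h.two,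
          add_zero]
      obtain ⟨x, hx⟩ := f.pair p k' (Ne.symm hkp)
      have h1 : φ x (c z) = 1 := by rw [h.symm, hx]; exact hp k' hkp
      rw [hcz, map_add, f.val x p k' (Ne.symm hkp) hx p i' (Ne.symm hip),
        f.val x p k' (Ne.symm hkp) hx k' l' hkl] at h1
      simp [Ne.symm hkp, Ne.symm hip, Ne.symm hlp, hkp, hkl, Ne.symm hik] at h1
    simp only [List.nodup_cons, List.mem_cons, List.not_mem_nil, or_false, not_or,
      List.nodup_nil, and_true, not_false_eq_true] at hnd
    obtain ⟨⟨hij, hik, hil⟩, ⟨hjk, hjl⟩, hkl⟩ := hnd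
    induction i using Fin.lastCases with
    | last =>
      obtain ⟨j, rfl⟩ := Fin.exists_castSucc_eq.2 (Ne.symm hij)
      obtain ⟨k, rfl⟩ := Fin.exists_castSucc_eq.2 (Ne.symm hik)
      obtain ⟨l, rfl⟩ := Fin.exists_castSucc_eq.2 (Ne.symm hil)
      rw [hnew, hold, hold, hold] at heq
      exact hnew' j k l (fun h0 => hkl (congrArg _ h0)) (fun h0 => hjk (congrArg _ h0))
        (fun h0 => hjl (congrArg _ h0)) heq
    | cast i =>
      induction j using Fin.lastCases with
      | last =>
        obtain ⟨k, rfl⟩ := Fin.exists_castSucc_eq.2 (Ne.symm hjk)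
        obtain ⟨l, rfl⟩ := Fin.exists_castSucc_eq.2 (Ne.symm hjl)
        rw [hnew, hold, hold, hold, add_comm (e i)] at heq
        exact hnew' i k l (fun h0 => hkl (congrArg _ h0)) (fun h0 => hik (congrArg _ h0))
          (fun h0 => hil (congrArg _ h0)) heq
      | cast j =>
        induction k using Fin.lastCases with
        | last =>
          obtain ⟨l, rfl⟩ := Fin.exists_castSucc_eq.2 (Ne.symm hkl)
          rw [hnew, hold, hold, hold] at heq
          exact hnew' l i j (fun h0 => hij (congrArg _ h0)) (fun h0 => hil (congrArg _ h0.symm))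
            (fun h0 => hjl (congrArg _ h0.symm)) heq.symm
        | cast k =>
          induction l using Fin.lastCases with
          | last =>
            rw [hnew, hold, hold, hold, add_comm (e k)] at heq
            exact hnew' k i j (fun h0 => hij (congrArg _ h0)) (fun h0 => hik (congrArg _ h0.symm))
              (fun h0 => hjk (congrArg _ h0.symm)) heq.symm
          | cast l =>
            rw [hold, hold, hold, hold] at heq
            simp only [Fin.castSucc_inj] at hij hik hil hjk hjl hkl
            exact f.sep i j k l (by simp [hij, hik, hil, hjk, hjl, hkl]) heq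

/-- A centre outside a frame which sees it as a set of at least two and at most all but two
points gives dependent orthogonal centres. -/
theorem no_middle {n : ℕ} {e : Fin n → W} (f : Frame c φ e) {z : ι} (hz : ¬ IsPair c e z)
    {i₀ i₁ a b : Fin n} (h01 : i₀ ≠ i₁) (hab : a ≠ b) (hva : φ z (e i₀ + e a) = 1)
    (hvb : φ z (e i₁ + e b) = 1) (h0 : φ z (e i₀ + e i₁) = 0) : False := by
  classical
  have hne : ∀ {u v : Fin n}, φ z (e u + e v) = 1 → u ≠ v := fun {u v} hv he => by
    subst he
    rw [h.two, map_zero] at hv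
    exact zero_ne_one hv
  have hia : i₀ ≠ a := hne hva
  have hib : i₁ ≠ b := hne hvb
  have hsplit : ∀ u v t, φ z (e u + e v) = φ z (e u + e t) + φ z (e t + e v) := by
    intro u v t
    rw [← map_add]
    congr 1
    rw [show e u + e t + (e t + e v) = e u + e v + (e t + e t) by abel, h.two, add_zero]
  have hva' : φ z (e i₁ + e a) = 1 := by
    rw [hsplit i₁ a i₀, add_comm (e i₁), h0, zero_add, hva]
  have h1a : i₁ ≠ a := hne hva'
  have hvb' : φ z (e i₀ + e b) = 1 := by rw [hsplit i₀ b i₁, h0, zero_add, hvb]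
  have h0b : i₀ ≠ b := hne hvb'
  have hzab : φ z (e a + e b) = 0 := by
    rw [hsplit a b i₀, add_comm (e a), hva, hvb']
    decide
  obtain ⟨xa, hxa⟩ := f.pair i₀ a hia
  obtain ⟨xb, hxb⟩ := f.pair i₁ b hib
  obtain ⟨x01, hx01⟩ := f.pair i₀ i₁ h01
  obtain ⟨xab, hxab⟩ := f.pair a b hab
  obtain ⟨z₁, hz₁⟩ := h.conj z xa (by rw [hxa]; exact hva)
  have hzb : φ z₁ (c xb) = 1 := by
    rw [h.symm, hz₁, map_add, ← h.symm z, hxb, hvb, hxa, f.val xb i₁ b hib hxb i₀ a hia]
    simp [Ne.symm h01, Ne.symm h0b, h1a, Ne.symm hab]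
  obtain ⟨z₂, hz₂⟩ := h.conj z₁ xb hzb
  have hc2 : c z₂ = c z + (c x01 + c xab) := by rw [hz₂, hz₁, hxa, hxb, hx01, hxab]; abel
  have o1 : φ z (c z₂) = 0 := by
    rw [hc2, map_add, h.self, map_add, hx01, hxab, h0, hzab]
    decide
  have o2 : φ z (c x01) = 0 := by rw [hx01, h0]
  have o3 : φ z (c xab) = 0 := by rw [hxab, hzab]
  have o4 : φ x01 (c xab) = 0 := by
    rw [hxab, f.val x01 i₀ i₁ h01 hx01 a b hab]
    simp [hia, h1a, h0b, hib]
  have o5 : φ x01 (c z₂) = 0 := by
    rw [hc2, map_add, map_add, h.self, ← h.symm z, o2, o4]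
    decide
  have o6 : φ xab (c z₂) = 0 := by
    rw [hc2, map_add, map_add, h.self, ← h.symm z, o3, ← h.symm x01, o4]
    decide
  have n1 : z ≠ x01 := fun he => hz ⟨i₀, i₁, h01, he ▸ hx01⟩
  have n2 : z ≠ xab := fun he => hz ⟨a, b, hab, he ▸ hxab⟩
  have n3 : x01 ≠ xab := fun he =>
    f.sep i₀ i₁ a b (by simp [h01, hia, h0b, h1a, hib, hab]) (by rw [← hx01, ← hxab, he])
  have n4 : z ≠ z₂ := by
    intro he
    have h1 : c x01 + c xab = 0 := by
      have := hc2
      rw [← he] at this
      simpa using this.symm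
    refine n3 (h.inj ?_)
    rw [← add_zero (c x01), ← h.two (c xab), ← add_assoc, h1, zero_add]
  have n5 : z₂ ≠ x01 := by
    intro he
    refine n2 (h.inj ?_)
    have h1 : c z + c xab = 0 := by
      have := hc2
      rw [he] at this
      have h2 : c x01 + 0 = c x01 + (c z + c xab) := by rw [add_zero]; exact this.trans (by abel)
      exact (add_left_cancel h2).symm
    rw [← add_zero (c z), ← h.two (c xab), ← add_assoc, h1, zero_add]
  have n6 : z₂ ≠ xab := by
    intro he
    refine n1 (h.inj ?_)
    have h1 : c z + c x01 = 0 := by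
      have := hc2
      rw [he] at this
      have h2 : c xab + 0 = c xab + (c z + c x01) := by rw [add_zero]; exact this.trans (by abel)
      exact (add_left_cancel h2).symm
    rw [← add_zero (c z), ← h.two (c x01), ← add_assoc, h1, zero_add]
  refine h.indep {z, z₂, x01, xab} ⟨z, by simp⟩ ?_ ?_
  · intro x hx y hy
    simp only [Finset.mem_insert, Finset.mem_singleton] at hx hy
    rcases hx with rfl | rfl | rfl | rfl <;> rcases hy with rfl | rfl | rfl | rfl <;>
      first
      | exact h.self _
      | assumption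
      | (rw [h.symm]; assumption)
  · rw [Finset.sum_insert (by simp [n1, n2, n4]), Finset.sum_insert (by simp [n5, n6]),
      Finset.sum_insert (by simp [n3]), Finset.sum_singleton, hc2]
    rw [show c z + (c z + (c x01 + c xab) + (c x01 + c xab)) =
      c z + c z + ((c x01 + c xab) + (c x01 + c xab)) by abel, h.two, h.two, add_zero]

/-- A centre is a pair of the frame, is orthogonal to all of its pairs, or extends it. -/
theorem trichotomy {n : ℕ} {e : Fin n → W} (f : Frame c φ e) (z : ι) :
    IsPair c e z ∨ (∀ i j, φ z (e i + e j) = 0) ∨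
      (¬ IsPair c e z ∧ ∃ p, ∀ i, i ≠ p → φ z (e p + e i) = 1) := by
  classical
  by_cases hz : IsPair c e z
  · exact Or.inl hz
  by_cases hc : ∀ i j, φ z (e i + e j) = 0
  · exact Or.inr (Or.inl hc)
  push Not at hc
  obtain ⟨u, v, huv⟩ := hc
  have huv1 : φ z (e u + e v) = 1 := (zero_or_one _).resolve_left huv
  refine Or.inr (Or.inr ⟨hz, ?_⟩)
  by_contra hno
  push Not at hno
  obtain ⟨u', hu', hu''⟩ := hno u
  obtain ⟨v', hv', hv''⟩ := hno v
  have hu0 : φ z (e u + e u') = 0 := (zero_or_one _).resolve_right hu''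
  have hv0 : φ z (e v + e v') = 0 := (zero_or_one _).resolve_right hv''
  have hvv : φ z (e u' + e v') = 1 := by
    have : e u' + e v' = (e u + e u') + (e u + e v) + (e v + e v') := by
      rw [show (e u + e u') + (e u + e v) + (e v + e v') = (e u + e u) + (e v + e v) + (e u' + e v')
        by abel, h.two, h.two, zero_add, zero_add]
    rw [this, map_add, map_add, hu0, huv1, hv0]
    decide
  exact no_middle h f hz (Ne.symm hu') (Ne.symm hv') huv1 hvv hu0

/-- The component of a centre. -/
theorem exists_max [Finite ι] (x₀ : ι) :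
    ∃ (n : ℕ) (e : Fin n → W), 2 ≤ n ∧ Frame c φ e ∧ IsPair c e x₀ ∧
      ((∃ y, φ x₀ (c y) = 1) → 3 ≤ n) ∧
      ∀ z, IsPair c e z ∨ ∀ i j, φ z (e i + e j) = 0 := by
  classical
  let Q : ℕ → Prop := fun n => ∃ e : Fin n → W, 2 ≤ n ∧ Frame c φ e ∧ IsPair c e x₀
  have hbd : ∀ n, Q n → n ≤ Nat.card ι + 2 := by
    rintro n ⟨e, -, f, -⟩
    by_contra hlt
    push Not at hlt
    have hn : 0 < n := by omega
    let g : {i : Fin n // i ≠ ⟨0, hn⟩} → ι := fun i => (f.pair i.1 ⟨0, hn⟩ i.2).choose
    have hg : Function.Injective g := by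
      intro i j hij
      by_contra hne
      have hne' : i.1 ≠ j.1 := fun h0 => hne (Subtype.ext h0)
      have hi := (f.pair i.1 ⟨0, hn⟩ i.2).choose_spec
      have hj := (f.pair j.1 ⟨0, hn⟩ j.2).choose_spec
      have h1 := f.val (g i) i.1 ⟨0, hn⟩ i.2 hi j.1 ⟨0, hn⟩ j.2
      rw [← hj] at h1
      change φ (g i) (c (g j)) = _ at h1
      rw [← hij, h.self] at h1
      simp [hne', i.2, Ne.symm j.2] at h1
    have := Nat.card_le_card_of_injective g hg
    rw [Nat.card_eq_fintype_card, Fintype.card_subtype_compl, Fintype.card_fin,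
      Fintype.card_subtype_eq] at this
    omega
  have h2 : Q 2 := ⟨![0, c x₀], le_rfl, frame_two h x₀, 0, 1, by decide, by simp⟩
  set n := Nat.findGreatest Q (Nat.card ι + 2) with hn
  obtain ⟨e, hn2, f, hx⟩ : Q n := Nat.findGreatest_spec (P := Q) (hbd 2 h2) h2
  have hall : ∀ z, IsPair c e z ∨ ∀ i j, φ z (e i + e j) = 0 := by
    intro z
    rcases trichotomy h f z with h1 | h1 | ⟨hzp, p, hp⟩
    · exact Or.inl h1
    · exact Or.inr h1
    exfalso
    have hQ : Q (n + 1) := ⟨_, by omega, extend h f hzp p hp, by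
      obtain ⟨i, j, hij, he⟩ := hx
      exact ⟨i.castSucc, j.castSucc, fun h0 => hij (Fin.castSucc_injective _ h0), by simp [he]⟩⟩
    have := Nat.le_findGreatest (P := Q) (hbd _ hQ) hQ
    omega
  refine ⟨n, e, hn2, f, hx, fun ⟨y, hy⟩ => ?_, hall⟩
  by_contra hlt
  obtain ⟨i, j, hij, he⟩ := hx
  rcases hall y with ⟨a, b, hab, hy'⟩ | h1
  · have h2 := f.val x₀ i j hij he a b hab
    rw [← hy', hy] at h2
    have hbi := i.isLt
    have hbj := j.isLt
    have hba := a.isLt
    have hbb := b.isLt
    simp only [Fin.ext_iff, ne_eq] at hij hab h2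
    have : (i.1 = a.1 ∧ j.1 = b.1) ∨ (i.1 = b.1 ∧ j.1 = a.1) := by omega
    rcases this with ⟨q1, q2⟩ | ⟨q1, q2⟩ <;>
      simp [q1, q2, hab, Ne.symm hab] at h2
  · rw [h.symm, he] at hy
    exact zero_ne_one ((h1 i j).symm.trans hy)

end H78.PermStar
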