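import Cfsg.Prelude.Def_LocalStructure
import Cfsg.Agent.H76.CharPTools
import Cfsg.Agent.H75.Large
import Cfsg.Agent.H75.FStar
import Cfsg.Agent.H3.SubnormalJoin
import Mathlib.GroupTheory.IsSubnormal

/-!
Parabolic characteristic `p` and subnormal subgroups.
-/

set_option autoImplicit false

open Subgroup

namespace H78

variable {G : Type*} [Group G] [Finite G] {p : ℕ} [Fact p.Prime]

theorem charPIn_subnormal_inf {L : Subgroup G} (hL : H76.CharPIn p L) {K : Subgroup G}
    (hK : K.IsSubnormal) : H76.CharPIn p (K ⊓ L) := by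
  induction hK with
  | top => rwa [top_inf_eq]
  | step H K hHK _ hN ih =>
    refine ih.normal (inf_le_inf_right _ hHK) ?_
    exact (le_inf (inf_le_left.trans ((normal_subgroupOf_iff_le_normalizer hHK).1 hN))
      (inf_le_right.trans le_normalizer)).trans (H75.normalizer_inf_le_normalizer_inf _ _)

theorem charPIn_local_subnormal (hG : Cfsg.IsOfParabolicCharacteristic p G) (S : Sylow p G)
    {G₁ : Subgroup G} (hsn : G₁.IsSubnormal)
    (hne : ((S : Subgroup G) ⊓ G₁) ⊓
      centralizer (((S : Subgroup G) ⊓ G₁ : Subgroup G) : Set G) ≠ ⊥)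
    (hle : ((S : Subgroup G) ⊓ G₁) ⊓
      centralizer (((S : Subgroup G) ⊓ G₁ : Subgroup G) : Set G) ≤
        (S : Subgroup G) ⊓ centralizer ((S : Subgroup G) : Set G))
    {R : Subgroup G} (hRG : R ≤ G₁) (hRp : IsPGroup p R) (hR : R ≠ ⊥)
    (hTR : (S : Subgroup G) ⊓ G₁ ≤ normalizer (R : Set G)) :
    H76.CharPIn p (G₁ ⊓ normalizer (R : Set G)) := by
  set T := (S : Subgroup G) ⊓ G₁ with hT
  set M := G₁ ⊓ normalizer (R : Set G) with hM
  set Q := Cfsg.pCoreOf p M with hQdef
  have hRM : R ≤ M := le_inf hRG le_normalizer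
  have hRQ : R ≤ Q := H76.le_pCoreOf hRM inf_le_right hRp
  have hQM : Q ≤ M := H76.pCoreOf_le M
  have hTM : T ≤ M := le_inf inf_le_right hTR
  have hTp : IsPGroup p T := S.isPGroup'.to_le inf_le_left
  have hQp : IsPGroup p Q := H76.isPGroup_pCoreOf M
  have hTQ : T ≤ normalizer (Q : Set G) := hTM.trans (H76.self_le_normalizer_pCoreOf M)
  -- `Q ≤ T`
  have hQT : Q ≤ T := by
    obtain ⟨P, hP⟩ := H3.subnormal_inf_sylow hsn S
    have hsup : IsPGroup p (Q ⊔ T : Subgroup G) := hQp.to_sup_of_normal_left' hTp hTQ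
    have hsup1 : Q ⊔ T ≤ G₁ := sup_le (hQM.trans inf_le_left) inf_le_right
    have heq : (Q ⊔ T).subgroupOf G₁ = P := P.is_maximal'
      (hsup.comap_of_injective G₁.subtype G₁.subtype_injective) (by
        rw [hP]
        exact fun x hx => mem_subgroupOf.2 (mem_sup_right ⟨mem_subgroupOf.1 hx, x.2⟩))
    intro q hq
    have hq' : (⟨q, hsup1 (mem_sup_left hq)⟩ : G₁) ∈ (Q ⊔ T).subgroupOf G₁ :=
      mem_subgroupOf.2 (mem_sup_left hq)
    rw [heq, hP] at hq'
    exact ⟨mem_subgroupOf.1 hq', hsup1 (mem_sup_left hq)⟩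
  have hQ : Q ≠ ⊥ := fun e => hR (le_bot_iff.1 (e ▸ hRQ))
  -- the local subgroup of `G`
  set R0 := Q ⊓ centralizer (T : Set G) with hR0def
  have hR0 : R0 ≠ ⊥ := H75.inf_centralizer_ne_bot hQp hQ hTp hTQ
  have hR0Z : R0 ≤ (S : Subgroup G) ⊓ centralizer ((S : Subgroup G) : Set G) :=
    (inf_le_inf_right _ hQT).trans hle
  have hSR0 : (S : Subgroup G) ≤ normalizer (R0 : Set G) :=
    (Subgroup.le_centralizer_iff.1 (hR0Z.trans inf_le_right)).trans (centralizer_le_normalizer _)
  have hN : H76.CharPIn p (normalizer (R0 : Set G)) :=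
    (H76.charPIn_iff _).2 (hG R0 (hQp.to_le inf_le_left) hR0 ⟨S, hSR0⟩)
  have hX : H76.CharPIn p (G₁ ⊓ normalizer (R0 : Set G)) := charPIn_subnormal_inf hN hsn
  -- the centralizer of `Q`
  have hQX : Q ≤ G₁ ⊓ normalizer (R0 : Set G) :=
    le_inf (hQM.trans inf_le_left) ((hQT.trans inf_le_left).trans hSR0)
  have hC := H75.charPSub_centralizer (p := p) hX hQp (hQX.trans le_normalizer)
  set C := G₁ ⊓ normalizer (R0 : Set G) ⊓ centralizer (Q : Set G) with hCdef
  have hCeq : C = G₁ ⊓ centralizer (Q : Set G) := by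
    refine le_antisymm (inf_le_inf_right _ inf_le_left) (le_inf (le_inf inf_le_left ?_) inf_le_right)
    exact inf_le_right.trans ((centralizer_le (inf_le_left : R0 ≤ Q)).trans
      (centralizer_le_normalizer _))
  have hCM : C ≤ M := by
    rw [hCeq]
    exact le_inf inf_le_left (inf_le_right.trans ((centralizer_le hRQ).trans
      (centralizer_le_normalizer _)))
  have hMC : M ≤ normalizer (C : Set G) := by
    rw [hCeq]
    exact (le_inf (inf_le_left.trans le_normalizer) ((H76.self_le_normalizer_pCoreOf M).trans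
      (H76.normalizer_le_normalizer_centralizer _))).trans (H75.normalizer_inf_le_normalizer_inf _ _)
  have hO : Cfsg.pCoreOf p C ≤ Q :=
    H76.le_pCoreOf ((H76.pCoreOf_le C).trans hCM)
      (fun g hg => H76.le_normalizer_pCoreOf (hMC hg)) (H76.isPGroup_pCoreOf C)
  intro x hx
  have hxC : x ∈ C := by rw [hCeq]; exact ⟨hx.1.1, hx.2⟩
  exact hO (hC ⟨hxC, centralizer_le hO hxC.2⟩)

theorem parabolicCharacteristic_subnormal (hG : Cfsg.IsOfParabolicCharacteristic p G)
    (S : Sylow p G) {G₁ : Subgroup G} (hsn : G₁.IsSubnormal)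
    (hne : ((S : Subgroup G) ⊓ G₁) ⊓
      centralizer (((S : Subgroup G) ⊓ G₁ : Subgroup G) : Set G) ≠ ⊥)
    (hle : ((S : Subgroup G) ⊓ G₁) ⊓
      centralizer (((S : Subgroup G) ⊓ G₁ : Subgroup G) : Set G) ≤
        (S : Subgroup G) ⊓ centralizer ((S : Subgroup G) : Set G)) :
    Cfsg.IsOfParabolicCharacteristic p ↥G₁ := by
  intro R hRp hR hpar
  obtain ⟨T', hT'⟩ := hpar
  obtain ⟨P, hP⟩ := H3.subnormal_inf_sylow hsn S
  obtain ⟨h, hh⟩ := MulAction.exists_smul_eq ↥G₁ T' P
  -- conjugate `R` by `h`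
  set R' : Subgroup ↥G₁ := R.map (MulAut.conj h).toMonoidHom with hR'
  have hPN : (P : Subgroup ↥G₁) ≤ normalizer (R' : Set ↥G₁) := by
    rw [hR', ← map_equiv_normalizer_eq R (MulAut.conj h), ← hh, Sylow.coe_subgroup_smul]
    intro z hz
    rw [Subgroup.mem_pointwise_smul_iff_inv_smul_mem] at hz
    exact ⟨_, hT' hz, by simp [MulAut.smul_def, mul_assoc]⟩
  have hinj := G₁.subtype_injective
  have key : H76.CharPIn p (normalizer (R' : Set ↥G₁)) := by
    refine H76.CharPIn.of_map G₁.subtype hinj ?_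
    have hmap : (normalizer (R' : Set ↥G₁)).map G₁.subtype =
        G₁ ⊓ normalizer ((R'.map G₁.subtype : Subgroup G) : Set G) := by
      ext x
      constructor
      · rintro ⟨y, hy, rfl⟩
        exact ⟨y.2, le_normalizer_map G₁.subtype (mem_map_of_mem G₁.subtype hy)⟩
      · rintro ⟨hx, hxN⟩
        refine ⟨⟨x, hx⟩, mem_normalizer_iff.2 fun z => ?_, rfl⟩
        have := mem_normalizer_iff.1 hxN (z : G)
        rw [show (z : G) = G₁.subtype z from rfl, mem_map_iff_mem hinj] at this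
        rw [show x * G₁.subtype z * x⁻¹ = G₁.subtype (⟨x, hx⟩ * z * ⟨x, hx⟩⁻¹) from rfl,
          mem_map_iff_mem hinj] at this
        exact this
    rw [hmap]
    refine charPIn_local_subnormal hG S hsn hne hle (map_subtype_le _)
      ((hRp.map (MulAut.conj h).toMonoidHom).map _) ?_ ?_
    · rwa [Ne, map_eq_bot_iff_of_injective _ hinj, map_eq_bot_iff_of_injective _
        (MulAut.conj h).injective]
    · intro x hx
      have h1 : (⟨x, hx.2⟩ : ↥G₁) ∈ (P : Subgroup ↥G₁) := by
        rw [hP]; exact mem_subgroupOf.2 hx.1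
      exact le_normalizer_map G₁.subtype (mem_map_of_mem G₁.subtype (hPN h1))
  refine (H76.charPIn_iff _).1 (H76.CharPIn.of_map (MulAut.conj h).toMonoidHom
    (MulAut.conj h).injective ?_)
  rw [map_equiv_normalizer_eq R (MulAut.conj h)]
  exact key

end H78
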