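import Mathlib

set_option autoImplicit false

open Subgroup

namespace H78

variable {G : Type*} [Group G]

theorem commutator_sup_eq_top {A B D : Subgroup G} [D.Normal]
    (hperf : ⁅(⊤ : Subgroup G), (⊤ : Subgroup G)⁆ ⊔ D = ⊤) (hA : A ⊔ D = ⊤) (hB : B ⊔ D = ⊤) :
    ⁅A, B⁆ ⊔ D = ⊤ := by
  have hs := QuotientGroup.mk'_surjective D
  have key : ∀ X : Subgroup G, X ⊔ D = ⊤ ↔ X.map (QuotientGroup.mk' D) = ⊤ := by
    intro X
    constructor
    · intro h
      have := congrArg (Subgroup.map (QuotientGroup.mk' D)) h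
      rwa [Subgroup.map_sup, QuotientGroup.map_mk'_self, sup_bot_eq,
        Subgroup.map_top_of_surjective _ hs] at this
    · intro h
      have := congrArg (Subgroup.comap (QuotientGroup.mk' D)) h
      rwa [Subgroup.comap_map_eq, QuotientGroup.ker_mk', Subgroup.comap_top] at this
  rw [key] at hperf hA hB ⊢
  rw [Subgroup.map_commutator, hA, hB]
  rwa [Subgroup.map_commutator, Subgroup.map_top_of_surjective _ hs] at hperf

theorem inf_supplement {D : Subgroup G} [D.Normal]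
    (hperf : ⁅(⊤ : Subgroup G), (⊤ : Subgroup G)⁆ ⊔ D = ⊤) {N : Subgroup G} (hN : N.IsSubnormal)
    (hND : N ⊔ D = ⊤) {H : Subgroup G} (hH : H.IsSubnormal) (hHD : H ⊔ D = ⊤) :
    (N ⊓ H) ⊔ D = ⊤ := by
  induction hN generalizing H with
  | top => rwa [top_inf_eq]
  | step N K hNK _ hn ih =>
    have hKD : K ⊔ D = ⊤ := top_le_iff.1 (hND ▸ sup_le_sup_right hNK D)
    have hKN := (Subgroup.normal_subgroupOf_iff_le_normalizer hNK).1 hn
    induction hH with
    | top => rwa [inf_top_eq]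
    | step H U hHU hU hn' ih' =>
      have hUD : U ⊔ D = ⊤ := top_le_iff.1 (hHD ▸ sup_le_sup_right hHU D)
      have hUN := (Subgroup.normal_subgroupOf_iff_le_normalizer hHU).1 hn'
      have h1 := ih' hUD
      have h2 := ih hKD (Subgroup.IsSubnormal.step _ _ hHU hU hn') hHD
      rw [← top_le_iff, ← commutator_sup_eq_top hperf h1 h2]
      refine sup_le_sup_right (Subgroup.commutator_le.2 fun a ha b hb => Subgroup.mem_inf.2 ⟨?_, ?_⟩) D
      · have h3 := (Subgroup.mem_normalizer_iff.1 (hKN hb.1) a⁻¹).1 (inv_mem ha.1)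
        rw [commutatorElement_def]
        have := mul_mem ha.1 h3
        simpa [mul_assoc] using this
      · have h3 := (Subgroup.mem_normalizer_iff.1 (hUN ha.2) b).1 hb.2
        rw [commutatorElement_def]
        exact mul_mem h3 (inv_mem hb.2)

theorem exists_least_supplement [Finite G] (D : Subgroup G) [D.Normal]
    (hperf : ⁅(⊤ : Subgroup G), (⊤ : Subgroup G)⁆ ⊔ D = ⊤) :
    ∃ B : Subgroup G, B.Normal ∧ B ⊔ D = ⊤ ∧
      ∀ B' : Subgroup G, B'.IsSubnormal → B' ⊔ D = ⊤ → B ≤ B' := by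
  classical
  obtain ⟨B, -, ⟨hBs, hBD⟩, hmin⟩ := exists_minimal_le_of_wellFoundedLT
    (fun B : Subgroup G => B.IsSubnormal ∧ B ⊔ D = ⊤) ⊤ ⟨.top, top_sup_eq D⟩
  have least : ∀ B' : Subgroup G, B'.IsSubnormal → B' ⊔ D = ⊤ → B ≤ B' := fun B' h1 h2 =>
    (hmin ⟨hBs.inf h1, inf_supplement hperf hBs hBD h1 h2⟩ inf_le_left).trans inf_le_right
  refine ⟨B, ⟨fun b hb g => ?_⟩, hBD, least⟩
  have hs : Function.Surjective (MulAut.conj g⁻¹).toMonoidHom := MulEquiv.surjective _
  have := least _ (hBs.map hs) (by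
    have h := congrArg (Subgroup.map (MulAut.conj g⁻¹).toMonoidHom) hBD
    rw [Subgroup.map_sup, Subgroup.map_top_of_surjective _ hs] at h
    have hD : D.map (MulAut.conj g⁻¹).toMonoidHom = D :=
      Subgroup.normal_iff_map_conj_eq.1 inferInstance g⁻¹
    rwa [hD] at h) hb
  obtain ⟨c, hc, rfl⟩ := this
  simpa [MulAut.conj_apply, mul_assoc] using hc

end H78
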