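import Cfsg.Agent.H78.SL2Natural
import Cfsg.Prelude.Def_BaumannBlocks

/-!
Natural `SL₂`-modules inside an ambient group.
-/

set_option autoImplicit false
set_option linter.unusedSectionVars false

open Subgroup
open scoped MatrixGroups commutatorElement

namespace H78.Nat2

variable {X : Type*} [Group X] [Finite X] {F : Type*} [Field F] [Finite F]

theorem card_field_char {p n : ℕ} [Fact p.Prime] [Fintype F] (hF : Fintype.card F = p ^ n) :
    CharP F p := by
  exact charP_of_card_eq_prime_pow hF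

/-- An isomorphism with `SL₂(F)` under which a given Sylow `p`-subgroup becomes the upper
unitriangular group. -/
theorem exists_adapted_iso {p : ℕ} [Fact p.Prime] [CharP F p] {G : Subgroup X}
    (e : G ≃* Matrix.SpecialLinearGroup (Fin 2) F) (S : Sylow p G) :
    ∃ e' : G ≃* Matrix.SpecialLinearGroup (Fin 2) F,
      ∀ g, g ∈ (S : Subgroup G) ↔ ∃ t, e' g = H37.upper2 t := by
  set S' : Sylow p (Matrix.SpecialLinearGroup (Fin 2) F) :=
    S.mapSurjective (f := e.toMonoidHom) e.surjective with hS'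
  obtain ⟨g0, hg0⟩ := H37.exists_conj_sylow_SL p S'
  refine ⟨e.trans (MulAut.conj g0⁻¹), fun g => ?_⟩
  have h1 : e g ∈ S' ↔ g ∈ (S : Subgroup G) := by
    show e g ∈ (S : Subgroup G).map e.toMonoidHom ↔ _
    exact mem_map_iff_mem e.injective
  rw [← h1, hg0]
  have hv : (e.trans (MulAut.conj g0⁻¹)) g = g0⁻¹ * e g * g0 := by simp
  rw [hv]
  constructor
  · intro hu
    refine ⟨(g0⁻¹ * e g * g0 : Matrix.SpecialLinearGroup (Fin 2) F) 0 1, ?_⟩
    obtain ⟨h00, h10, h11⟩ := (H37.mem_unitriangularSL_two _).1 hu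
    apply Subtype.ext
    ext i j
    fin_cases i <;> fin_cases j <;> simp [H37.coe_upper2, h00, h10, h11]
  · rintro ⟨t, ht⟩
    rw [ht]
    exact H37.upper2_mem t

theorem acts_natural {p : ℕ} [Fact p.Prime] [CharP F p] (G V : Subgroup X)
    (hV : Cfsg.IsElementaryAbelian p V) (hGV : G ≤ normalizer (V : Set X))
    (e : G ≃* Matrix.SpecialLinearGroup (Fin 2) F)
    (hirr : ∀ U : Subgroup X, U ≤ V → G ≤ normalizer (U : Set X) → U = ⊥ ∨ U = V)
    (hnt : ⁅V, G⁆ ≠ ⊥) (S : Sylow p G)
    (hyp : ⁅⁅V, (S : Subgroup G).map G.subtype⁆, (S : Subgroup G).map G.subtype⁆ = ⊥ ∨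
      Nat.card V ≤
        Nat.card ↥(V ⊓ centralizer (((S : Subgroup G).map G.subtype : Subgroup X) : Set X)) ^ 2) :
    Cfsg.ActsAsSL2OnSection F ⊤ G V ⊥ := by
  obtain ⟨e', he'⟩ := exists_adapted_iso e S
  haveI := hV.1
  letI : CommGroup V := IsMulCommutative.instCommGroup
  have hconj : ∀ (g : G) (v : V), (g : X) * v * (g : X)⁻¹ ∈ V := fun g v =>
    (mem_normalizer_iff.1 (hGV g.2) v).1 v.2
  let act : Matrix.SpecialLinearGroup (Fin 2) F → AddMonoid.End (Additive V) := fun g =>
    AddMonoidHom.mk' (fun m => Additive.ofMul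
      (⟨(e'.symm g : X) * (Additive.toMul m : V) * (e'.symm g : X)⁻¹, hconj _ _⟩ : V))
      (fun a b => by
        apply Additive.toMul.injective
        apply Subtype.ext
        simp only [toMul_ofMul, toMul_add, Subgroup.coe_mul]
        group)
  let ρ : Matrix.SpecialLinearGroup (Fin 2) F →* AddMonoid.End (Additive V) :=
    { toFun := act
      map_one' := by
        refine AddMonoidHom.ext fun m => Additive.toMul.injective (Subtype.ext ?_)
        show (e'.symm 1 : X) * _ * (e'.symm 1 : X)⁻¹ = (Additive.toMul m : V)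
        simp
      map_mul' := fun a b => by
        refine AddMonoidHom.ext fun m => Additive.toMul.injective (Subtype.ext ?_)
        show (e'.symm (a * b) : X) * _ * (e'.symm (a * b) : X)⁻¹ =
          (e'.symm a : X) * ((e'.symm b : X) * _ * (e'.symm b : X)⁻¹) * (e'.symm a : X)⁻¹
        simp [mul_assoc] }
  have hρ : ∀ g m, ((Additive.toMul (ρ g m) : V) : X) =
      (e'.symm g : X) * (Additive.toMul m : V) * (e'.symm g : X)⁻¹ := fun g m => rfl
  have hext : ∀ {m m' : Additive V}, ((Additive.toMul m : V) : X) = (Additive.toMul m' : V) → m = m' :=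
    fun h => Additive.toMul.injective (Subtype.ext h)
  have hMp : ∀ m : Additive V, p • m = 0 := fun m => hext (by
    rw [toMul_nsmul, SubgroupClass.coe_pow, toMul_zero, OneMemClass.coe_one]
    exact hV.2 _ (Additive.toMul m).2)
  have hS : ∀ s, s ∈ (S : Subgroup G).map G.subtype ↔ ∃ t, s = (e'.symm (H37.upper2 t) : X) := by
    intro s
    constructor
    · rintro ⟨g, hg, rfl⟩
      obtain ⟨t, ht⟩ := (he' g).1 hg
      exact ⟨t, by rw [← ht, MulEquiv.symm_apply_apply]; rfl⟩
    · rintro ⟨t, rfl⟩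
      exact ⟨_, (he' _).2 ⟨t, e'.apply_symm_apply _⟩, rfl⟩
  have hirr' : ∀ A : AddSubgroup (Additive V), (∀ g, ∀ a ∈ A, ρ g a ∈ A) → A = ⊥ ∨ A = ⊤ := by
    intro A hA
    set U : Subgroup X := (AddSubgroup.toSubgroup' A).map V.subtype with hU
    have hmem : ∀ m : Additive V, m ∈ A ↔ ((Additive.toMul m : V) : X) ∈ U := fun m => by
      rw [hU]
      constructor
      · exact fun hm => ⟨Additive.toMul m, hm, rfl⟩
      · rintro ⟨v, hv, hve⟩
        obtain rfl : Additive.ofMul v = m := hext hve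
        exact hv
    rcases hirr U (map_subtype_le _) (by
      rw [le_normalizer_iff]
      intro g hg u hu
      obtain ⟨v, hv, rfl⟩ := hu
      have := (hmem _).1 (hA (e' ⟨g, hg⟩) _ ((hmem (Additive.ofMul v)).2 ⟨v, hv, rfl⟩))
      rw [hρ, MulEquiv.symm_apply_apply] at this
      exact this) with h | h
    · left
      rw [AddSubgroup.eq_bot_iff_forall]
      intro m hm
      have := (hmem m).1 hm
      rw [h, Subgroup.mem_bot] at this
      exact hext (by rw [this]; rfl)
    · right
      exact (AddSubgroup.eq_top_iff' A).2 fun m => (hmem m).2 (h.symm ▸ (Additive.toMul m).2)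
  have hnt' : ∃ g m, ρ g m ≠ m := by
    by_contra hcon
    push Not at hcon
    apply hnt
    rw [commutator_eq_bot_iff_le_centralizer]
    intro v hv g hg
    have := congrArg (fun m => ((Additive.toMul m : V) : X))
      (hcon (e' ⟨g, hg⟩) (Additive.ofMul ⟨v, hv⟩))
    rw [hρ, MulEquiv.symm_apply_apply] at this
    exact mul_inv_eq_iff_eq_mul.1 this
  have hM0 : ∀ m : Additive V, m ∈ M0 ρ ↔ ((Additive.toMul m : V) : X) ∈
      V ⊓ centralizer (((S : Subgroup G).map G.subtype : Subgroup X) : Set X) := by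
    intro m
    refine ⟨fun hm => ⟨(Additive.toMul m).2, fun s hs => ?_⟩, fun hm t => hext ?_⟩
    · obtain ⟨t, rfl⟩ := (hS s).1 hs
      have := congrArg (fun m => ((Additive.toMul m : V) : X)) (hm t)
      rw [hρ] at this
      exact mul_inv_eq_iff_eq_mul.1 this
    · rw [hρ]
      exact mul_inv_eq_iff_eq_mul.2 (hm.2 _ ((hS _).2 ⟨t, rfl⟩))
  have hH : Hyp ρ := by
    rcases hyp with h | h
    · left
      intro t m
      rw [hM0]
      rw [commutator_eq_bot_iff_le_centralizer] at h
      refine ⟨(Additive.toMul (ρ (H37.upper2 t) m - m)).2, h ?_⟩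
      rw [toMul_sub, div_eq_mul_inv, Subgroup.coe_mul, InvMemClass.coe_inv, hρ]
      have hc := commutator_mem_commutator (H₁ := V)
        (H₂ := (S : Subgroup G).map G.subtype) (Additive.toMul m).2 ((hS _).2 ⟨t, rfl⟩)
      have := inv_mem hc
      rwa [commutatorElement_inv, commutatorElement_def] at this
    · right
      refine (le_of_eq (Nat.card_congr Additive.toMul)).trans (h.trans ?_)
      refine Nat.pow_le_pow_left (le_of_eq ?_) 2
      exact Nat.card_congr
        ⟨fun x => ⟨Additive.ofMul ⟨x.1, x.2.1⟩, (hM0 _).2 x.2⟩,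
          fun m => ⟨_, (hM0 _).1 m.2⟩, fun x => rfl, fun m => rfl⟩
  obtain ⟨Φ, hΦ⟩ := natural ρ (p := p) hMp hirr' hnt' hH
  refine ⟨hGV, bot_le, e'.toMonoidHom,
    MonoidHom.mk' (fun u => Multiplicative.ofAdd (Φ.symm (Additive.ofMul u)))
      (fun a b => by rw [ofMul_mul, map_add, ofAdd_add]), ?_, ?_, ?_, ?_⟩
  · exact MonoidHom.range_eq_top.2 e'.surjective
  · intro v
    exact ⟨Additive.toMul (Φ (Multiplicative.toAdd v)), by simp⟩
  · intro u
    rw [Subgroup.mem_bot]
    show Multiplicative.ofAdd (Φ.symm (Additive.ofMul u)) = 1 ↔ _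
    rw [ofAdd_eq_one, map_eq_zero_iff _ Φ.symm.injective, ofMul_eq_zero, OneMemClass.coe_eq_one]
  · intro g u
    refine ⟨⟨_, hconj g u⟩, rfl, ?_⟩
    show Φ.symm _ = Matrix.mulVec (e' g : Matrix (Fin 2) (Fin 2) F) (Φ.symm (Additive.ofMul u))
    rw [AddEquiv.symm_apply_eq, ← hΦ, AddEquiv.apply_symm_apply]
    refine hext ?_
    rw [hρ, MulEquiv.symm_apply_apply]
    rfl

end H78.Nat2
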