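import Mathlib

/-!
A subgroup `H` of prime index normal in `M` such that the elements of `M \ H` cannot be moved
back into `M` from outside: the transfer to `M / H` restricts to the projection.
-/

set_option autoImplicit false

open Subgroup MulAction

namespace H78

variable {G : Type*} [Group G]

theorem exists_hom_of_ti [Finite G] (H M : Subgroup G) [hn : (H.subgroupOf M).Normal]
    (hr : (H.relIndex M).Prime)
    (hTI : ∀ x ∈ M, x ∉ H → ∀ g : G, g * x * g⁻¹ ∈ M → g * x * g⁻¹ ∉ H → g ∈ M) :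
    ∃ f : G →* Multiplicative (ZMod (H.relIndex M)), (∃ x ∈ M, f x ≠ 1) ∧
      ((∀ x ∈ M, x ∉ H → ∀ g : G, g * x * g⁻¹ ∉ H) → ∀ x ∈ H, f x = 1) := by
  classical
  have : Fact (H.relIndex M).Prime := ⟨hr⟩
  let e : (↥M ⧸ H.subgroupOf M) ≃* Multiplicative (ZMod (H.relIndex M)) :=
    mulEquivOfPrimeCardEq (p := H.relIndex M) rfl (by simp)
  let φ : ↥M →* Multiplicative (ZMod (H.relIndex M)) :=
    e.toMonoidHom.comp (QuotientGroup.mk' (H.subgroupOf M))
  have hφ : ∀ m : ↥M, φ m = 1 ↔ (m : G) ∈ H := fun m => by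
    change e (QuotientGroup.mk m) = 1 ↔ _
    rw [EmbeddingLike.map_eq_one_iff, QuotientGroup.eq_one_iff, mem_subgroupOf]
  obtain ⟨x, ⟨hx, hxH⟩, hxmin⟩ : ∃ x, (x ∈ M ∧ x ∉ H) ∧
      ∀ y, (y ∈ M ∧ y ∉ H) → orderOf x ≤ orderOf y := by
    have hne : {y : G | y ∈ M ∧ y ∉ H}.Nonempty := by
      by_contra hcon
      refine hr.ne_one (relIndex_eq_one.2 fun y hy => ?_)
      by_contra hyH
      exact hcon ⟨y, hy, hyH⟩
    exact Set.exists_min_image _ _ (Set.toFinite _) hne
  refine ⟨MonoidHom.transfer φ, ⟨x, hx, ?_⟩, fun hno h hh => ?_⟩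
  swap
  · have := Fintype.ofFinite (Quotient (orbitRel (zpowers h) (G ⧸ M)))
    rw [MonoidHom.transfer_eq_prod_quotient_orbitRel_zpowers_quot]
    refine Finset.prod_eq_one fun q _ => (hφ _).2 ?_
    by_contra hne
    set o := q.out.out
    set y := o⁻¹ * h ^ Function.minimalPeriod (h • ·) q.out * o with hy
    have hyM : y ∈ M := QuotientGroup.out_conj_pow_minimalPeriod_mem M h q.out
    refine hno y hyM hne o ?_
    rw [show o * y * o⁻¹ = h ^ Function.minimalPeriod (h • ·) q.out by rw [hy]; group]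
    exact pow_mem hh _
  have := Fintype.ofFinite (Quotient (orbitRel (zpowers x) (G ⧸ M)))
  rw [MonoidHom.transfer_eq_prod_quotient_orbitRel_zpowers_quot]
  set q0 : Quotient (orbitRel (zpowers x) (G ⧸ M)) := Quotient.mk'' (QuotientGroup.mk (1 : G))
  have hfixed : x • (QuotientGroup.mk (1 : G) : G ⧸ M) = QuotientGroup.mk 1 := by
    rw [MulAction.Quotient.smul_mk, QuotientGroup.eq]
    simpa using inv_mem hx
  have hout : q0.out = (QuotientGroup.mk 1 : G ⧸ M) := by
    have h := Quotient.mk_out (s := orbitRel (zpowers x) (G ⧸ M)) (QuotientGroup.mk 1)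
    obtain ⟨⟨_, k, rfl⟩, hk⟩ : ∃ a : zpowers x, a • (QuotientGroup.mk 1 : G ⧸ M) = q0.out := h
    rw [← hk]
    exact (zpow_smul_eq_iff_minimalPeriod_dvd (a := x) (n := k)).2
      (by rw [Function.minimalPeriod_eq_one_iff_isFixedPt.2 hfixed]; simp)
  rw [Finset.prod_eq_single q0]
  · rw [Ne, hφ]
    have hper : Function.minimalPeriod (x • ·) q0.out = 1 := by
      rw [hout]; exact Function.minimalPeriod_eq_one_iff_isFixedPt.2 hfixed
    have ho : q0.out.out ∈ M := by
      have h1 : (QuotientGroup.mk q0.out.out : G ⧸ M) = QuotientGroup.mk 1 := by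
        rw [QuotientGroup.out_eq', hout]
      simpa using QuotientGroup.eq.1 h1.symm
    simp only [hper, pow_one]
    intro h
    apply hxH
    have hmem := (hn.conj_mem ⟨_, mul_mem (mul_mem (inv_mem ho) hx) ho⟩
      (mem_subgroupOf.2 h) ⟨q0.out.out, ho⟩)
    simpa [mem_subgroupOf, mul_assoc] using hmem
  · intro q _ hq
    rw [hφ]
    simp only
    by_contra hne
    set o := q.out.out
    set y := o⁻¹ * x ^ Function.minimalPeriod (x • ·) q.out * o with hy
    have hyM : y ∈ M := QuotientGroup.out_conj_pow_minimalPeriod_mem M x q.out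
    have hcj : o * y * o⁻¹ = x ^ Function.minimalPeriod (x • ·) q.out := by rw [hy]; group
    have hzH : x ^ Function.minimalPeriod (x • ·) q.out ∉ H := by
      intro hzH
      set n := Function.minimalPeriod (x • ·) q.out
      have h1 : orderOf y = orderOf (x ^ n) := by
        rw [← hcj]; exact ((MulAut.conj o).orderOf_eq y).symm
      have h2 : ¬ (orderOf x).Coprime n := fun hc => by
        obtain ⟨j, hj⟩ := exists_pow_eq_self_of_coprime hc.symm
        exact hxH (hj ▸ pow_mem hzH j)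
      have h3 : orderOf (x ^ n) < orderOf x := by
        rw [orderOf_pow]
        refine Nat.div_lt_self (orderOf_pos x) ?_
        have : Nat.gcd (orderOf x) n ≠ 1 := h2
        have : 0 < Nat.gcd (orderOf x) n := Nat.gcd_pos_of_pos_left _ (orderOf_pos x)
        omega
      exact (hxmin y ⟨hyM, hne⟩).not_gt (h1 ▸ h3)
    have hoM : o ∈ M := hTI y hyM hne o (hcj ▸ pow_mem hx _) (hcj ▸ hzH)
    apply hq
    rw [← Quotient.out_eq' q]
    congr 1
    rw [← QuotientGroup.out_eq' q.out, QuotientGroup.eq]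
    simpa using inv_mem hoM
  · simp

theorem normalizer_conj_mem {H : Subgroup G} {g x : G} (hx : x ∈ normalizer (H : Set G)) :
    g * x * g⁻¹ ∈ normalizer ((H.map (MulAut.conj g).toMonoidHom : Subgroup G) : Set G) :=
  le_normalizer_map (MulAut.conj g).toMonoidHom ⟨x, hx, rfl⟩

theorem le_normalizer_of_coatom {H M X : Subgroup G} (hmax : IsCoatom (H.subgroupOf M)) {y : G}
    (hy : y ∈ M) (hyH : y ∉ H) (hyX : y ∈ normalizer (X : Set G))
    (hHX : H ≤ normalizer (X : Set G)) : M ≤ normalizer (X : Set G) := by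
  rw [← subgroupOf_eq_top]
  refine hmax.2 _ (lt_of_le_of_ne (fun z hz => hHX hz) fun e => hyH ?_)
  have : (⟨y, hy⟩ : M) ∈ H.subgroupOf M := e ▸ hyX
  exact this

theorem mem_normalizer_pair {H : Subgroup G} {g y : G} (hy : y ∈ normalizer (H : Set G))
    (hy' : g⁻¹ * y * g ∈ normalizer (H : Set G)) :
    y ∈ normalizer ((H ⊔ H.map (MulAut.conj g).toMonoidHom : Subgroup G) : Set G) := by
  have h2 := normalizer_conj_mem (g := g) hy'
  rw [show g * (g⁻¹ * y * g) * g⁻¹ = y by group] at h2
  rw [mem_normalizer_iff_map_conj_eq] at hy h2 ⊢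
  rw [Subgroup.map_sup, hy, h2]

theorem normalizer_pair_le (H : Subgroup G) {g : G}
    (h : H ⊔ H.map (MulAut.conj g).toMonoidHom ≤ H) [Finite G] :
    g ∈ normalizer (H : Set G) :=
  mem_normalizer_iff_map_conj_eq.2 (eq_of_le_of_card_ge (le_sup_right.trans h)
    (card_map_of_injective (MulEquiv.injective _)).ge)

end H78
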