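import Cfsg.Agent.H78.PushingUpMain
import Cfsg.Agent.H11.MaxFam

/-!
`Z(J(S))` in the pushing-up situation when `Z(S)` is not central.
-/

set_option autoImplicit false
set_option linter.unusedSectionVars false

open Subgroup
open scoped Pointwise commutatorElement

namespace H78.PU

variable {G : Type*} [Group G] [Finite G] {p q : ℕ} {S : Subgroup G}

/-- The abelian subgroups of `S` of largest order. -/
abbrev maxAb (S : Subgroup G) : Set (Subgroup G) :=
  H11.maxFam (fun A : Subgroup G => IsMulCommutative A) S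

theorem centerS_le_maxAb {A : Subgroup G} (hA : A ∈ maxAb S) :
    S ⊓ centralizer (S : Set G) ≤ A := by
  have h1 := hA.2.2 ((S ⊓ centralizer (S : Set G)) ⊔ A) (sup_le inf_le_left hA.1)
    (H11.isMulCommutative_sup
      (H11.isMulCommutative_of_commute fun x hx y hy => hy.2 x hx.1) hA.2.1
      fun x hx y hy => (hx.2 y (hA.1 hy)).symm)
  exact le_sup_left.trans (eq_of_le_of_card_ge le_sup_right h1).ge

theorem centerS_le_centerThompson :
    S ⊓ centralizer (S : Set G) ≤ Cfsg.centerThompsonAOf S := by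
  rw [H11.centerThompsonAOf_eq]
  exact le_sInf fun A hA => centerS_le_maxAb hA

theorem centerThompson_le {A : Subgroup G} (hA : A ∈ maxAb S) :
    Cfsg.centerThompsonAOf S ≤ A := by
  rw [H11.centerThompsonAOf_eq]
  exact sInf_le hA

theorem conj_centerThompson (a : G) (ha : a ∈ S) :
    ∀ x ∈ Cfsg.centerThompsonAOf S, a * x * a⁻¹ ∈ Cfsg.centerThompsonAOf S := by
  intro x hx
  have hS : S.map (MulAut.conj a).toMonoidHom = S :=
    Subgroup.mem_normalizer_iff_map_conj_eq.1 (le_normalizer ha)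
  have h := H11.map_sInf_maxFam H11.replProp_comm S (MulAut.conj a)
  rw [hS, ← H11.centerThompsonAOf_eq] at h
  exact h.le ⟨x, hx, rfl⟩

theorem Ctx.maxAb_conj (h : Ctx p q S) {A : Subgroup G} (hA : A ∈ maxAb S)
    (hAT : A ≤ Cfsg.pCore p G) (g : G) : A.map (MulAut.conj g).toMonoidHom ∈ maxAb S := by
  have := H1.pCore_normal' p G
  refine ⟨?_, H11.isMulCommutative_map hA.2.1 _, fun B hB hB' => ?_⟩
  · rintro _ ⟨a, ha, rfl⟩
    exact h.le (Normal.conj_mem inferInstance a (hAT ha) g)
  · rw [card_map_of_injective (MulEquiv.injective _)]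
    exact hA.2.2 B hB hB'

/-- All abelian subgroups of largest order lie in `O_p(G)`. -/
theorem Ctx.case_inside (h : Ctx p q S) (hall : ∀ A ∈ maxAb S, A ≤ Cfsg.pCore p G) :
    S ⊓ centralizer (S : Set G) ≤ center G ∨
      (S ⊓ centralizer (Cfsg.centerThompsonAOf S : Set G)).Normal := by
  have hTn := H1.pCore_normal' p G
  set U := Cfsg.centerThompsonAOf S with hU
  have hUn : U.Normal := by
    refine ⟨fun x hx g => ?_⟩
    rw [hU, H11.centerThompsonAOf_eq, mem_sInf] at hx ⊢
    intro A hA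
    obtain ⟨y, hy, hxy⟩ := hx _ (h.maxAb_conj hA (hall A hA) g⁻¹)
    rw [← hxy]
    simpa [mul_assoc] using hy
  by_cases hP : S ⊓ centralizer (U : Set G) ≤ Cfsg.pCore p G
  · right
    rw [show S ⊓ centralizer (U : Set G) = Cfsg.pCore p G ⊓ centralizer (U : Set G) from
      le_antisymm (le_inf hP inf_le_right) (inf_le_inf_right _ h.le)]
    infer_instance
  · left
    have htop := h.normal_sup (centralizer (U : Set G)) inferInstance (inf_comm S _ ▸ hP)
    intro z hz
    refine mem_center_iff.2 fun y => mem_centralizer_singleton_iff.1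
      ((?_ : centralizer (U : Set G) ⊔ S ≤ centralizer ({z} : Set G)) (htop ▸ mem_top y))
    exact sup_le (centralizer_le (Set.singleton_subset_iff.2 (centerS_le_centerThompson hz)))
      (fun s hs => mem_centralizer_singleton_iff.2 (hz.2 s hs))

/-- An abelian subgroup of largest order outside `O_p(G)` forces natural modules. -/
theorem Ctx.module_of_maxAb (h : Ctx p q S) [Fact (Nat.Prime p)] {A : Subgroup G}
    (hA : A ∈ maxAb S) (hAT : ¬ A ≤ Cfsg.pCore p G) {D : Subgroup G}
    (hD : D ≤ S ⊓ centralizer (S : Set G)) (hDc : ¬ D ≤ center G) :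
    ModData p q S (normalClosure (D : Set G)) ∧ A ⊔ Cfsg.pCore p G = S ∧
      (A ⊓ Cfsg.pCore p G) ⊔ normalClosure (D : Set G) ∈ maxAb S := by
  set V := normalClosure (D : Set G) with hV
  set T := Cfsg.pCore p G with hT
  have hTn : T.Normal := H1.pCore_normal' p G
  have hDV : D ≤ V := le_normalClosure
  have hVT : V ≤ T ⊓ centralizer (T : Set G) := normalClosure_le_normal (hD.trans h.center_le)
  have hNS : centralizer (V : Set G) ⊔ S ≠ ⊤ := by
    intro htop
    apply hDc
    intro d hd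
    refine mem_center_iff.2 fun x => mem_centralizer_singleton_iff.1
      ((?_ : centralizer (V : Set G) ⊔ S ≤ centralizer ({d} : Set G)) (htop ▸ mem_top x))
    exact sup_le (centralizer_le (Set.singleton_subset_iff.2 (hDV hd)))
      (fun s hs => mem_centralizer_singleton_iff.2 ((hD hd).2 s hs))
  obtain ⟨x, hxA, hxT⟩ := SetLike.not_le_iff_exists.1 hAT
  set A0 := A ⊓ T with hA0
  set B := A0 ⊔ V with hB
  have hBc : IsMulCommutative B := H11.isMulCommutative_sup
    (H11.isMulCommutative_of_le hA.2.1 inf_le_left)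
    (H11.isMulCommutative_of_commute fun a ha b hb => (hVT hb).2 a (hVT ha).1)
    fun a ha b hb => (hVT hb).2 a ha.2
  have hBS : B ≤ S := sup_le (inf_le_left.trans hA.1) ((hVT.trans inf_le_left).trans h.le)
  have hinf : A0 ⊓ V ≤ V ⊓ centralizer (A : Set G) := fun v hv =>
    ⟨hv.2, fun a ha => (H11.comm_of_mulCommutative hA.2.1 ha hv.1.1).eq⟩
  have hmax : Nat.card A0 * Nat.card V ≤ Nat.card A * Nat.card ↥(V ⊓ centralizer (A : Set G)) :=
    (card_mul_le_sup_inf A0 V).trans
      (Nat.mul_le_mul (hA.2.2 B hBS hBc) (card_le_of_le hinf))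
  have hATS : A ⊔ T ≤ S := sup_le hA.1 h.le
  have hA0c : Nat.card A ≤ q * Nat.card A0 := by
    refine Nat.le_of_mul_le_mul_right (c := Nat.card T) ?_ Nat.card_pos
    calc Nat.card A * Nat.card T ≤ Nat.card ↥(A ⊔ T) * Nat.card A0 := card_mul_le_sup_inf A T
      _ ≤ Nat.card S * Nat.card A0 := Nat.mul_le_mul_right _ (card_le_of_le hATS)
      _ = q * Nat.card A0 * Nat.card T := by rw [h.card_eq, ← hT]; ring
  -- `S = AT`
  have hST : A ⊔ T = S := by
    have hge : q * Nat.card T ≤ Nat.card ↥(A ⊔ T) := by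
      rcases h.fixed_bound V (hVT.trans inf_le_left) hNS (hA.1 hxA) hxT with rfl | ⟨g, hg⟩
      · obtain ⟨k, hk⟩ := card_dvd_of_le (le_sup_right : T ≤ A ⊔ T)
        have hdvd := card_dvd_of_le hATS
        rw [h.card_eq, ← hT, hk, mul_comm q] at hdvd
        rcases (Nat.dvd_prime (Fact.out : q.Prime)).1
          (Nat.dvd_of_mul_dvd_mul_left Nat.card_pos hdvd) with h1 | h1
        · exfalso
          rw [h1, mul_one] at hk
          exact hxT ((eq_of_le_of_card_ge le_sup_right hk.le).ge (mem_sup_left hxA))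
        · rw [hk, h1, mul_comm]
      · set cx := Nat.card ↥(V ⊓ centralizer ({x} : Set G)) with hcx
        set cA := Nat.card ↥(V ⊓ centralizer (A : Set G)) with hcA
        have hcc : cA ≤ cx := card_le_of_le (inf_le_inf_left V
          (centralizer_le (Set.singleton_subset_iff.2 hxA)))
        set Wx := V ⊓ centralizer ({x} : Set G) with hWx
        set Wg := V ⊓ centralizer ({g * x * g⁻¹} : Set G) with hWg
        have hgcard : cx ≤ Nat.card Wg := by
          rw [hcx, ← card_map_of_injective (f := (MulAut.conj g).toMonoidHom)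
            (MulEquiv.injective _)]
          refine card_le_of_le ?_
          rintro _ ⟨v, hv, rfl⟩
          refine ⟨Normal.conj_mem inferInstance v hv.1 g, mem_centralizer_singleton_iff.2 ?_⟩
          have := mem_centralizer_singleton_iff.1 hv.2
          simp only [MulEquiv.coe_toMonoidHom, MulAut.conj_apply]
          rw [show g * v * g⁻¹ * (g * x * g⁻¹) = g * (v * x) * g⁻¹ by group, this]
          group
        have h1 : cx * cx ≤ Nat.card V *
            Nat.card ↥(V ⊓ centralizer ({x} : Set G) ⊓ centralizer ({g * x * g⁻¹} : Set G)) := by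
          refine le_trans (Nat.mul_le_mul_left _ hgcard) ((card_mul_le_sup_inf Wx Wg).trans ?_)
          exact Nat.mul_le_mul (card_le_of_le (sup_le inf_le_left inf_le_left))
            (card_le_of_le fun v hv => ⟨hv.1, hv.2.2⟩)
        have h2 : q * cx ≤ Nat.card V := by
          refine Nat.le_of_not_lt fun hlt => ?_
          have h3 := Nat.mul_lt_mul'' hlt hlt
          have h4 := Nat.mul_le_mul_left (Nat.card V) hg
          have h5 := Nat.mul_le_mul_left (q * q) h1
          nlinarith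
        have h3 : Nat.card A0 * (q * cx) ≤ Nat.card A * cx :=
          (Nat.mul_le_mul_left _ h2).trans (hmax.trans (Nat.mul_le_mul_left _ hcc))
        have hcx0 : 0 < cx := Nat.card_pos
        have h4 : q * Nat.card A0 ≤ Nat.card A :=
          Nat.le_of_mul_le_mul_right (c := cx) (by linarith) hcx0
        refine Nat.le_of_mul_le_mul_right (c := Nat.card A0) ?_ Nat.card_pos
        calc q * Nat.card T * Nat.card A0 = q * Nat.card A0 * Nat.card T := by ring
          _ ≤ Nat.card A * Nat.card T := Nat.mul_le_mul_right _ h4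
          _ ≤ _ := card_mul_le_sup_inf A T
    exact eq_of_le_of_card_ge hATS (h.card_eq ▸ hge)
  have hCA : V ⊓ centralizer (A : Set G) ≤ V ⊓ centralizer (S : Set G) := by
    refine le_inf inf_le_left fun v hv => ?_
    have : S ≤ centralizer ({v} : Set G) := hST.ge.trans (sup_le
      (fun a ha => mem_centralizer_singleton_iff.2 (hv.2 a ha))
      (fun a ha => mem_centralizer_singleton_iff.2 ((hVT hv.1).2 a ha)))
    exact fun s hs => mem_centralizer_singleton_iff.1 (this hs)
  have hup : Nat.card V ≤ q * Nat.card ↥(V ⊓ centralizer (S : Set G)) := by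
    refine Nat.le_of_mul_le_mul_right (c := Nat.card A0) ?_ Nat.card_pos
    calc Nat.card V * Nat.card A0 = Nat.card A0 * Nat.card V := mul_comm _ _
      _ ≤ Nat.card A * Nat.card ↥(V ⊓ centralizer (A : Set G)) := hmax
      _ ≤ q * Nat.card A0 * Nat.card ↥(V ⊓ centralizer (S : Set G)) :=
          Nat.mul_le_mul hA0c (card_le_of_le hCA)
      _ = _ := by ring
  obtain ⟨-, hM⟩ := h.exists_module_of_up hD hDc hup
  refine ⟨hM, hST, hBS, hBc, fun B' hB' hB'c => (hA.2.2 B' hB' hB'c).trans ?_⟩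
  refine Nat.le_of_mul_le_mul_right (c := Nat.card ↥(V ⊓ centralizer (S : Set G))) ?_ Nat.card_pos
  calc Nat.card A * Nat.card ↥(V ⊓ centralizer (S : Set G))
      ≤ q * Nat.card A0 * Nat.card ↥(V ⊓ centralizer (S : Set G)) := Nat.mul_le_mul_right _ hA0c
    _ = Nat.card A0 * Nat.card V := by rw [hM.card_V]; ring
    _ ≤ Nat.card B * Nat.card ↥(A0 ⊓ V) := card_mul_le_sup_inf A0 V
    _ ≤ _ := Nat.mul_le_mul_left _ (card_le_of_le (hinf.trans hCA))

/-- In the presence of such a subgroup `Z(J(S))` is, modulo `Z(S)`, normal in `G`. -/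
theorem Ctx.exists_normal_part (h : Ctx p q S) [Fact (Nat.Prime p)] {A : Subgroup G}
    (hA : A ∈ maxAb S) (hAT : ¬ A ≤ Cfsg.pCore p G)
    (hZ : ¬ S ⊓ centralizer (S : Set G) ≤ center G) :
    ∃ Y : Subgroup G, Y.Normal ∧ Y ≤ Cfsg.centerThompsonAOf S ∧
      Cfsg.centerThompsonAOf S ≤ Y ⊔ (S ⊓ centralizer (S : Set G)) ∧
      Y ⊓ centralizer (S : Set G) ≤ center G := by
  obtain ⟨hM, hST, hB⟩ := h.module_of_maxAb hA hAT le_rfl hZ
  set Z := S ⊓ centralizer (S : Set G) with hZdef
  set V := normalClosure (Z : Set G) with hV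
  set T := Cfsg.pCore p G with hT
  set U := Cfsg.centerThompsonAOf S with hU
  set A0 := A ⊓ T with hA0
  have hTn : T.Normal := H1.pCore_normal' p G
  have hZV : Z ≤ V := le_normalClosure
  have hVn := hM.normal
  have hUA : U ≤ A := centerThompson_le hA
  have hBT : A0 ⊔ V ≤ T := sup_le inf_le_right hM.le
  have hUT : U ≤ T := (centerThompson_le hB).trans hBT
  set C := V ⊓ centralizer (S : Set G) with hC
  have hCZ : C ≤ Z := le_inf ((inf_le_left.trans hM.le).trans h.le) inf_le_right
  have hCU : C ≤ U := hCZ.trans centerS_le_centerThompson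
  -- the conjugates of `U` lie in every member of the family inside `T`
  set W := normalClosure (U : Set G) with hW
  have hWB : W ≤ A0 ⊔ V := by
    refine (closure_le _).2 fun w hw => ?_
    obtain ⟨u, hu, huw⟩ := Group.mem_conjugatesOfSet_iff.1 hw
    obtain ⟨c, rfl⟩ := isConj_iff.1 huw
    obtain ⟨y, hy, e⟩ := centerThompson_le (h.maxAb_conj hB hBT c⁻¹) hu
    rw [← e]
    simpa [mul_assoc] using hy
  set N := (centralizer ((W.map (QuotientGroup.mk' V) : Subgroup (G ⧸ V)) : Set (G ⧸ V))).comap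
    (QuotientGroup.mk' V) with hN
  have : (W.map (QuotientGroup.mk' V)).Normal :=
    Normal.map inferInstance _ (QuotientGroup.mk'_surjective V)
  have hNn : N.Normal := Normal.comap inferInstance _
  have hAN : A ≤ N := by
    intro a ha
    show QuotientGroup.mk' V a ∈ centralizer _
    rintro _ ⟨w, hw, rfl⟩
    have hw' := hWB hw
    rw [← SetLike.mem_coe, coe_mul_of_left_le_normalizer_right A0 V
      le_normalizer_of_normal] at hw'
    obtain ⟨b, hb, v, hv, rfl⟩ := hw'
    have hv1 : QuotientGroup.mk' V v = 1 := (QuotientGroup.eq_one_iff v).2 hv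
    rw [map_mul, hv1, mul_one, ← map_mul, ← map_mul,
      (H11.comm_of_mulCommutative hA.2.1 hb.1 ha).eq]
  have htop : N ⊔ S = ⊤ := h.normal_sup N hNn fun hle => hAT fun a ha => hle ⟨hAN ha, hA.1 ha⟩
  have hUVn : (U ⊔ V).Normal := by
    have key : ∀ g : G, (∀ u ∈ U, g * u * g⁻¹ ∈ U ⊔ V) →
        ∀ x ∈ U ⊔ V, g * x * g⁻¹ ∈ U ⊔ V := by
      intro g hg x hx
      refine (?_ : U ⊔ V ≤ (U ⊔ V).comap (MulAut.conj g).toMonoidHom) hx
      exact sup_le hg fun v hv => mem_sup_right (Normal.conj_mem hVn v hv g)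
    refine normalizer_eq_top_iff.1 (eq_top_iff.2 (htop ▸ sup_le ?_ ?_))
    · rw [le_normalizer_iff]
      refine fun n hn => key n fun u hu => ?_
      have h1 : QuotientGroup.mk' V u * QuotientGroup.mk' V n =
          QuotientGroup.mk' V n * QuotientGroup.mk' V u :=
        (hn : QuotientGroup.mk' V n ∈ centralizer _) _ ⟨u, subset_normalClosure hu, rfl⟩
      have h2 : n * u * n⁻¹ * u⁻¹ ∈ V := (QuotientGroup.eq_one_iff _).1 (by
        show QuotientGroup.mk' V (n * u * n⁻¹ * u⁻¹) = 1
        rw [map_mul, map_mul, map_mul, ← h1, map_inv, map_inv, mul_assoc (QuotientGroup.mk' V u),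
          mul_inv_cancel, mul_one, mul_inv_cancel])
      simpa using mul_mem (mem_sup_right (S := U) h2) (mem_sup_left (T := V) hu)
    · rw [le_normalizer_iff]
      exact fun s hs => key s fun u hu => mem_sup_left (conj_centerThompson s hs u hu)
  have hCent : ∀ v ∈ U, v ∈ V → v ∈ C := by
    intro v hvU hvV
    refine ⟨hvV, fun s hs => mem_centralizer_singleton_iff.1 ((?_ : S ≤ centralizer ({v} : Set G)) hs)⟩
    exact hST.ge.trans (sup_le
      (fun a ha => mem_centralizer_singleton_iff.2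
        (H11.comm_of_mulCommutative hA.2.1 ha (hUA hvU)).eq)
      (fun t ht => mem_centralizer_singleton_iff.2 (hM.le_cent hvV t ht)))
  have hUV : Nat.card ↥(U ⊔ V) ≤ q * Nat.card U := by
    refine Nat.le_of_mul_le_mul_right (c := Nat.card C) ?_ Nat.card_pos
    calc Nat.card ↥(U ⊔ V) * Nat.card C ≤ Nat.card ↥(U ⊔ V) * Nat.card ↥(U ⊓ V) :=
          Nat.mul_le_mul_left _ (card_le_of_le (le_inf hCU inf_le_left))
      _ = Nat.card U * Nat.card V := card_sup_eq_of_coe U V
          (coe_mul_of_left_le_normalizer_right U V le_normalizer_of_normal)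
      _ = q * Nat.card U * Nat.card C := by rw [hM.card_V]; ring
  obtain ⟨g, hg⟩ := h.gen
  obtain ⟨x, hxA, hxT⟩ := SetLike.not_le_iff_exists.1 hAT
  set U' := U.map (MulAut.conj g).toMonoidHom with hU'
  set Y := U ⊓ U' with hY
  have hU'le : U' ≤ U ⊔ V := by
    rintro _ ⟨u, hu, rfl⟩
    exact Normal.conj_mem hUVn u (mem_sup_left hu) g
  have hYcard : Nat.card U ≤ q * Nat.card Y := by
    refine Nat.le_of_mul_le_mul_left ?_ (Nat.card_pos (α := U))
    calc Nat.card U * Nat.card U = Nat.card U * Nat.card U' := by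
          rw [hU', card_map_of_injective (f := (MulAut.conj g).toMonoidHom) (MulEquiv.injective _)]
      _ ≤ Nat.card ↥(U ⊔ U') * Nat.card Y := card_mul_le_sup_inf U U'
      _ ≤ q * Nat.card U * Nat.card Y := Nat.mul_le_mul_right _
          ((card_le_of_le (sup_le le_sup_left hU'le)).trans hUV)
      _ = _ := by ring
  have hYc : Y ⊓ centralizer (S : Set G) ≤ center G := by
    rintro y ⟨⟨hyU, u, hu, rfl⟩, hyS⟩
    have hyV : g * u * g⁻¹ ∈ V := hZV ⟨(hUT hyU |> h.le), hyS⟩
    have huC : u ∈ C := hCent u hu (by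
      have := Normal.conj_mem hVn _ hyV g⁻¹
      simpa [mul_assoc] using this)
    refine h.central_of_fixed hg (hA.1 hxA) hxT
      (mem_centralizer_singleton_iff.2 (hyS x (hA.1 hxA)).symm) ?_
    rintro _ ⟨s, hs, rfl⟩
    rw [← map_mul, ← map_mul, huC.2 s hs]
  have hYsup : U ≤ Y ⊔ Z := by
    refine le_trans (eq_of_le_of_card_ge (sup_le inf_le_left hCU : Y ⊔ C ≤ U) ?_).ge
      (sup_le_sup_left hCZ _)
    refine hYcard.trans (Nat.le_of_mul_le_mul_right (c := Nat.card ↥(V ⊓ center G)) ?_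
      Nat.card_pos)
    calc q * Nat.card Y * Nat.card ↥(V ⊓ center G) = Nat.card Y * Nat.card C := by
          rw [hC, hM.card_C]; ring
      _ ≤ Nat.card ↥(Y ⊔ C) * Nat.card ↥(Y ⊓ C) := card_mul_le_sup_inf Y C
      _ ≤ Nat.card ↥(Y ⊔ C) * Nat.card ↥(V ⊓ center G) :=
          Nat.mul_le_mul_left _ (card_le_of_le fun v hv =>
            ⟨hv.2.1, hYc ⟨hv.1, hv.2.2⟩⟩)
  -- `Y` is normalised by `S` and by `S^g`
  have hTY : T ≤ normalizer (Y : Set G) := by
    rw [le_normalizer_iff]
    rintro t ht _ ⟨hyU, u, hu, rfl⟩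
    refine ⟨conj_centerThompson t (h.le ht) _ hyU, g⁻¹ * t * g * u * (g⁻¹ * t * g)⁻¹,
      conj_centerThompson _ (h.le ?_) u hu, ?_⟩
    · simpa using Normal.conj_mem hTn t ht g⁻¹
    · simp [mul_assoc]
  have hAY : ∀ a : G, (∀ y ∈ Y, a * y = y * a) → a ∈ normalizer (Y : Set G) := fun a ha =>
    centralizer_le_normalizer _ (fun y hy => (ha y hy).symm)
  have hSY : S ≤ normalizer (Y : Set G) := hST.ge.trans (sup_le
    (fun a ha => hAY a fun y hy => (H11.comm_of_mulCommutative hA.2.1 ha (hUA hy.1)).eq) hTY)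
  have hSgY : S.map (MulAut.conj g).toMonoidHom ≤ normalizer (Y : Set G) := by
    rw [← hST, Subgroup.map_sup]
    refine sup_le ?_ (fun t ht => ?_)
    swap
    · obtain ⟨t', ht', rfl⟩ := ht
      exact hTY (Normal.conj_mem hTn t' ht' g)
    rintro _ ⟨a, ha, rfl⟩
    refine hAY _ ?_
    rintro _ ⟨-, u, hu, rfl⟩
    rw [← map_mul, ← map_mul, (H11.comm_of_mulCommutative hA.2.1 ha (hUA hu)).eq]
  refine ⟨Y, normalizer_eq_top_iff.1 (eq_top_iff.2 ((hg x (hA.1 hxA) hxT).ge.trans ?_)),
    inf_le_left, hYsup, hYc⟩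
  exact sup_le (zpowers_le.2 (hSY (hA.1 hxA))) hSgY

/-- Either `Z(S)` is central, or `C_S(Z(J(S)))` is normal, or `J(S)` is not inside `O_p(G)`. -/
theorem Ctx.trichotomy (h : Ctx p q S) :
    S ⊓ centralizer (S : Set G) ≤ center G ∨
      (S ⊓ centralizer (Cfsg.centerThompsonAOf S : Set G)).Normal ∨
      ¬ (S ⊓ centralizer (S : Set G) ≤ center G) ∧
        ∃ A ∈ maxAb S, ¬ A ≤ Cfsg.pCore p G := by
  by_cases hZ : S ⊓ centralizer (S : Set G) ≤ center G
  · exact Or.inl hZ
  by_cases hall : ∀ A ∈ maxAb S, A ≤ Cfsg.pCore p G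
  · exact (h.case_inside hall).imp id Or.inl
  · push Not at hall
    exact Or.inr (Or.inr ⟨hZ, hall⟩)

/-- `C_S(Z(J(S)))` is the intersection of `S` with its normal closure. -/
theorem Ctx.normalClosure_inf_le (h : Ctx p q S) [Fact (Nat.Prime p)]
    (hZ : ¬ S ⊓ centralizer (S : Set G) ≤ center G) :
    normalClosure ((S ⊓ centralizer (Cfsg.centerThompsonAOf S : Set G) : Subgroup G) : Set G) ⊓ S ≤
      S ⊓ centralizer (Cfsg.centerThompsonAOf S : Set G) := by
  rcases h.trichotomy with hc | hP | ⟨-, A, hA, hAT⟩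
  · exact absurd hc hZ
  · exact inf_le_left.trans (normalClosure_eq_self _).le
  · obtain ⟨Y, hYn, hYU, hUY, -⟩ := h.exists_normal_part hA hAT hZ
    have hle : normalClosure ((S ⊓ centralizer (Cfsg.centerThompsonAOf S : Set G) :
        Subgroup G) : Set G) ≤ centralizer (Y : Set G) :=
      normalClosure_le_normal (inf_le_right.trans (centralizer_le (SetLike.coe_subset_coe.2 hYU)))
    rintro s ⟨hs, hsS⟩
    refine ⟨hsS, fun u hu => ?_⟩
    have : Y ⊔ (S ⊓ centralizer (S : Set G)) ≤ centralizer ({s} : Set G) :=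
      sup_le (fun y hy => mem_centralizer_singleton_iff.2 (hle hs y hy))
        (fun z hz => mem_centralizer_singleton_iff.2 (hz.2 s hsS).symm)
    exact mem_centralizer_singleton_iff.1 (this (hUY hu))

theorem Ctx.commutator_alt (h : Ctx p q S) [Fact (Nat.Prime p)] :
    (⁅Cfsg.centerThompsonAOf S, S⁆ ⊓ (S ⊓ centralizer (S : Set G))).Normal ∨
      (S ⊓ centralizer (Cfsg.centerThompsonAOf S : Set G)).Normal := by
  rcases h.trichotomy with hc | hP | ⟨hZ, A, hA, hAT⟩
  · exact Or.inl (normal_of_le_center (inf_le_right.trans hc))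
  · exact Or.inr hP
  obtain ⟨Y, hYn, -, hUY, hYc⟩ := h.exists_normal_part hA hAT hZ
  refine Or.inl (normal_of_le_center (le_trans ?_ hYc))
  refine le_inf (inf_le_left.trans (commutator_le.2 fun u hu s hs => ?_))
    (inf_le_right.trans inf_le_right)
  have hu' := hUY hu
  rw [← SetLike.mem_coe, coe_mul_of_right_le_normalizer_left Y _ le_normalizer_of_normal] at hu'
  obtain ⟨y, hy, c, hc, rfl⟩ := hu'
  rw [show ⁅y * c, s⁆ = y * ⁅c, s⁆ * y⁻¹ * (y * (s * y⁻¹ * s⁻¹)) by
      simp [commutatorElement_def, mul_assoc],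
    commutatorElement_eq_one_iff_mul_comm.2 (hc.2 s hs).symm, mul_one, mul_inv_cancel, one_mul]
  exact mul_mem hy (Normal.conj_mem hYn _ (inv_mem hy) s)

theorem Ctx.power_alt (h : Ctx p q S) [Fact (Nat.Prime p)] :
    (Cfsg.powerClosure p 1 (S ⊓ centralizer (S : Set G))).Normal ∨
      (S ⊓ centralizer (Cfsg.centerThompsonAOf S : Set G)).Normal := by
  have key : (∀ z ∈ S ⊓ centralizer (S : Set G), z ^ p ∈ center G) →
      (Cfsg.powerClosure p 1 (S ⊓ centralizer (S : Set G))).Normal := fun hz =>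
    normal_of_le_center ((closure_le _).2 fun y ⟨z, hzZ, e⟩ => by
      rw [SetLike.mem_coe, e, pow_one]
      exact hz z hzZ)
  rcases h.trichotomy with hc | hP | ⟨hZ, A, hA, hAT⟩
  · exact Or.inl (key fun z hz => pow_mem (hc hz) p)
  · exact Or.inr hP
  left
  set Z := S ⊓ centralizer (S : Set G) with hZdef
  obtain ⟨hV, -, -⟩ := h.module_of_maxAb hA hAT le_rfl hZ
  obtain ⟨w, hw, hwp, hwc⟩ := h.exists_order_p_of_mod hZ hV
  set D := Cfsg.omegaOne p Z with hD
  have hDle : D ≤ Z := (closure_le _).2 fun y hy => hy.1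
  obtain ⟨hW, -, -⟩ := h.module_of_maxAb hA hAT hDle
    (fun hle => hwc (hle (subset_closure ⟨hw, hwp⟩)))
  set V := normalClosure (Z : Set G) with hVdef
  set W := normalClosure (D : Set G) with hWdef
  have hWn := hW.normal
  have hWab : W ≤ centralizer (W : Set G) := hW.le_cent.trans (centralizer_mono hW.le)
  have hWp : ∀ v ∈ W, v ^ p = 1 := by
    intro v hv
    have : (Cfsg.omegaOne p W).Normal := by
      refine ⟨fun a ha b => ?_⟩
      rw [mem_omegaOne_of_comm hWab] at ha ⊢
      exact ⟨Normal.conj_mem inferInstance a ha.1 b, by rw [conj_pow, ha.2]; simp⟩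
    have hle : W ≤ Cfsg.omegaOne p W :=
      normalClosure_le_normal ((closure_le _).2 fun y hy => (mem_omegaOne_of_comm hWab).2
        ⟨subset_normalClosure (subset_closure hy), hy.2⟩)
    exact ((mem_omegaOne_of_comm hWab).1 (hle hv)).2
  set CW := W ⊓ centralizer (S : Set G) with hCW
  set Z0 := V ⊓ center G with hZ0
  have hZV : Z ≤ V ⊓ centralizer (S : Set G) := le_inf le_normalClosure inf_le_right
  have hle : CW ⊔ Z0 ≤ Z := sup_le
    (le_inf ((inf_le_left.trans hW.le).trans h.le) inf_le_right)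
    (le_inf ((inf_le_left.trans hV.le).trans h.le) (inf_le_right.trans (center_le_centralizer _)))
  have heq : CW ⊔ Z0 = Z := by
    refine eq_of_le_of_card_ge hle ((card_le_of_le hZV).trans ?_)
    refine Nat.le_of_mul_le_mul_right (c := Nat.card ↥(W ⊓ center G)) ?_ Nat.card_pos
    calc Nat.card ↥(V ⊓ centralizer (S : Set G)) * Nat.card ↥(W ⊓ center G)
        = Nat.card CW * Nat.card Z0 := by rw [hCW, hZ0, hV.card_C, hW.card_C]; ring
      _ ≤ Nat.card ↥(CW ⊔ Z0) * Nat.card ↥(CW ⊓ Z0) := card_mul_le_sup_inf CW Z0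
      _ ≤ Nat.card ↥(CW ⊔ Z0) * Nat.card ↥(W ⊓ center G) :=
          Nat.mul_le_mul_left _ (card_le_of_le fun v hv => ⟨hv.1.1, hv.2.2⟩)
  refine key fun z hz => ?_
  have : Z0.Normal := normal_of_le_center inf_le_right
  rw [← heq, ← SetLike.mem_coe,
    coe_mul_of_left_le_normalizer_right CW Z0 le_normalizer_of_normal] at hz
  obtain ⟨c, hc, d, hd, rfl⟩ := hz
  rw [(show Commute c d from mem_center_iff.1 hd.2 c).mul_pow, hWp c hc.1, one_mul]
  exact pow_mem hd.2 p

/-- The pushing-up situation from the hypotheses in the form with a Sylow subgroup. -/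
theorem exists_ctx' {p : ℕ} [Fact p.Prime] (S : Sylow p G)
    (hE₁ : centralizer (Cfsg.pCore p G : Set G) ≤ Cfsg.pCore p G)
    (hE₂ : ∃! M : Subgroup G, IsCoatom M ∧ (S : Subgroup G) ≤ M) (K : Subgroup G) [K.Normal]
    (F : Type) [Field F] [Fintype F] (n : ℕ) (hF : Fintype.card F = p ^ n)
    (hE₃ : Nonempty (G ⧸ K ≃* Matrix.ProjectiveSpecialLinearGroup (Fin 2) F)) :
    ∃ q, Ctx p q (S : Subgroup G) := by
  refine exists_ctx ⟨fun h => ?_, ⟨S, rfl⟩, hE₁, hE₂, K, inferInstance, F, inferInstance,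
    inferInstance, n, hF, hE₃⟩
  obtain ⟨M, ⟨hM, -⟩, -⟩ := hE₂
  exact hM.1 (le_antisymm le_top (h ▸ bot_le))

end H78.PU
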