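import Mathlib
import Cfsg.Prelude.Def_SubgroupEmbedding
import Cfsg.Prelude.Def_Transfer
import Cfsg.Prelude.Def_TwoFusion
import Cfsg.Prelude.Def_Solvable

set_option autoImplicit false
set_option linter.unusedSectionVars false

open Subgroup
open scoped Pointwise commutatorElement

namespace H78

variable {G : Type*} [Group G]

theorem exists_odd_lift {H : Type*} [Group H] [Finite G] (f : G →* H) (hf : Function.Surjective f)
    (v : G) (hv : v * v = 1) (hbar : H) (hodd : Odd (orderOf hbar))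
    (hinv : f v * hbar * (f v)⁻¹ = hbar⁻¹) :
    ∃ h : G, Odd (orderOf h) ∧ v * h * v⁻¹ = h⁻¹ ∧ hbar ∈ zpowers (f h) := by
  obtain ⟨x, rfl⟩ := hf hbar
  have hvi : v⁻¹ = v := inv_eq_of_mul_eq_one_right hv
  set y := v * x * v⁻¹ * x⁻¹ with hy
  have hyinv : v * y * v⁻¹ = y⁻¹ := by
    rw [hy, hvi]
    simp only [mul_inv_rev, inv_inv, hvi]
    simp only [← mul_assoc, hv, one_mul]
  have hfy : f y = (f x ^ 2)⁻¹ := by
    rw [hy, map_mul, map_mul, map_mul, map_inv, map_inv, hinv, pow_two, mul_inv_rev]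
  obtain ⟨k, m, hm, hkm⟩ := Nat.exists_eq_two_pow_mul_odd (orderOf_pos y).ne'
  refine ⟨y ^ 2 ^ k, ?_, ?_, ?_⟩
  · rw [orderOf_pow_of_dvd (pow_ne_zero k two_ne_zero) (hkm ▸ Dvd.intro m rfl), hkm,
      Nat.mul_div_cancel_left _ (Nat.two_pow_pos k)]
    exact hm
  · rw [← conj_pow, hyinv, inv_pow]
  · have hc : Nat.Coprime (orderOf (f x)) (2 * 2 ^ k) :=
      Nat.Coprime.mul_right (Nat.coprime_two_right.2 hodd)
        (Nat.Coprime.pow_right k (Nat.coprime_two_right.2 hodd))
    obtain ⟨j, hj⟩ := exists_pow_eq_self_of_coprime (Nat.coprime_comm.1 hc)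
    refine mem_zpowers_iff.2 ⟨-(j : ℤ), ?_⟩
    rw [zpow_neg, zpow_natCast, map_pow, hfy, inv_pow, inv_pow, inv_inv, ← pow_mul, ← pow_mul, ← mul_assoc, pow_mul, hj]

theorem commute_of_mem_zpowers {H : Type*} [Group H] {a b c : H} (h : a * b = b * a)
    (hc : c ∈ zpowers b) : a * c = c * a := by
  obtain ⟨n, rfl⟩ := hc
  exact Commute.zpow_right h n

/-- An extremely closed subgroup: a conjugate inside the normalizer is equal. -/
theorem extremelyClosed_conj_le {H : Subgroup G} (hcl : Cfsg.IsExtremelyClosed H) {g : G}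
    (h : H.map (MulAut.conj g).toMonoidHom ≤ normalizer (H : Set G)) :
    H.map (MulAut.conj g).toMonoidHom ≤ H := by
  have := hcl g
  rw [inf_eq_left.2 (sup_le le_normalizer h)] at this
  exact le_sup_right.trans this.le

theorem extremelyClosed_normalizer [Finite G] {p : ℕ} [Fact p.Prime] {H Q : Subgroup G}
    (hcl : Cfsg.IsExtremelyClosed H) (hQ : IsPGroup p Q) (hHQ : H ≤ Q) :
    Q ≤ normalizer (H : Set G) ∧ normalizer (Q : Set G) ≤ normalizer (H : Set G) := by
  have heq : ∀ g : G, H.map (MulAut.conj g).toMonoidHom ≤ normalizer (H : Set G) →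
      g ∈ normalizer (H : Set G) := fun g h =>
    mem_normalizer_iff_map_conj_eq.2 (eq_of_le_of_card_ge (extremelyClosed_conj_le hcl h)
      (card_map_of_injective (MulEquiv.injective _)).ge)
  have hQn : Q ≤ normalizer (H : Set G) := by
    have := hQ.isNilpotent
    by_contra hn
    have hN' : (normalizer (H : Set G)).subgroupOf Q < ⊤ := by
      rw [lt_top_iff_ne_top, Ne, subgroupOf_eq_top]
      exact hn
    obtain ⟨⟨y, hy⟩, hy1, hy2⟩ := SetLike.exists_of_lt
      (Group.normalizerCondition_of_isNilpotent _ hN')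
    refine hy2 (mem_subgroupOf.2 (heq y ?_))
    rintro _ ⟨h, hh, rfl⟩
    exact (mem_normalizer_iff.1 hy1 ⟨h, hHQ hh⟩).1 (le_normalizer hh)
  refine ⟨hQn, fun g hg => heq g ?_⟩
  rintro _ ⟨h, hh, rfl⟩
  exact hQn ((mem_normalizer_iff.1 hg h).1 (hHQ hh))

end H78
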